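import Groth.Agent.Books.AdFam

set_option autoImplicit false
universe u

/-!
# Additivity of the cyclic operations
-/

open TensorProduct

namespace Groth.Agent.Books.AdKD

open Groth.Agent.Books.AdLen

namespace KD

variable {R : Type u} [CommRing R] {V W U : Type u} [AddCommGroup V] [Module R V]
  [AddCommGroup W] [Module R W] [AddCommGroup U] [Module R U]
  {V' W' U' : Type u} [AddCommGroup V'] [Module R V']
  [AddCommGroup W'] [Module R W'] [AddCommGroup U'] [Module R U']

theorem cutG_tensorG {K : KD R V} {L : KD R W} {a : V →ₗ[R] V} {b : W →ₗ[R] W} (ha : K.Good a)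
    (hb : L.Good b) (hab : (K.tensor L).Good (TensorProduct.map a b)) :
    (cutG ha).tensor (cutG hb) = cutG hab := by
  have heps : ∀ x, a (K.eps x) = K.eps (a x) := fun x => by
    simp [eps_apply, ha.ep]
  refine KD.ext (fun z => ?_) (fun c z => ?_)
  · refine lin_eq (F := ((cutG ha).tensor (cutG hb)).d)
        (G := (cutG hab).d) (fun x y => ?_) z
    simp [tensor_d, cutG_d, cutG_pi, cutG_eps, hb.epi, ha.ee, hb.ee, heps]
  · refine lin_eq (F := ((cutG ha).tensor (cutG hb)).p c)
        (G := (cutG hab).p c) (fun x y => ?_) z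
    simp [tensor_p, cutG_p]

/-- naturality of the signed swap -/
theorem sw_nat {K : KD R V} {L : KD R W} {K' : KD R V'} {L' : KD R W'} {f : V →ₗ[R] V'}
    {g : W →ₗ[R] W'} (hf : ∀ a x, f (K.p a x) = K'.p a (f x)) (hg : ∀ a x, g (L.p a x) = L'.p a (g x))
    (z : V ⊗[R] W) : sw K' L' (TensorProduct.map f g z) = TensorProduct.map g f (sw K L z) := by
  refine lin_eq (F := sw K' L' ∘ₗ TensorProduct.map f g) (G := TensorProduct.map g f ∘ₗ sw K L)
    (fun x y => ?_) z
  simp [sw_tmul, hf, hg, pi_apply, eps_apply]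

theorem asc_nat (f : V →ₗ[R] V') (g : W →ₗ[R] W') (h : U →ₗ[R] U') (z : (V ⊗[R] W) ⊗[R] U) :
    asc R V' W' U' (TensorProduct.map (TensorProduct.map f g) h z) =
      TensorProduct.map f (TensorProduct.map g h) (asc R V W U z) := by
  refine lin_eq3 (F := asc R V' W' U' ∘ₗ TensorProduct.map (TensorProduct.map f g) h)
    (G := TensorProduct.map f (TensorProduct.map g h) ∘ₗ asc R V W U) (fun x y z => ?_) z
  simp

theorem s2_nat {K : KD R V} {K' : KD R V'} {f g : V →ₗ[R] V'}
    (hf : ∀ a x, f (K.p a x) = K'.p a (f x)) (hg : ∀ a x, g (K.p a x) = K'.p a (g x))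
    (z : V ⊗[R] V) : s2 K' (TensorProduct.map f g z) = TensorProduct.map g f (s2 K z) :=
  sw_nat hf hg z

theorem map_p {K : KD R V} {K' : KD R V'} {L : KD R W} {L' : KD R W'} {f : V →ₗ[R] V'}
    {g : W →ₗ[R] W'}
    (hf : ∀ a x, f (K.p a x) = K'.p a (f x)) (hg : ∀ a x, g (L.p a x) = L'.p a (g x)) (a : Bool)
    (z : V ⊗[R] W) : TensorProduct.map f g ((K.tensor L).p a z) =
      (K'.tensor L').p a (TensorProduct.map f g z) := by
  refine lin_eq (F := TensorProduct.map f g ∘ₗ (K.tensor L).p a)
    (G := (K'.tensor L').p a ∘ₗ TensorProduct.map f g) (fun x y => ?_) z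
  simp [tensor_p, hf, hg]

theorem s3_nat {K : KD R V} {K' : KD R V'} {f g h : V →ₗ[R] V'}
    (hf : ∀ a x, f (K.p a x) = K'.p a (f x)) (hg : ∀ a x, g (K.p a x) = K'.p a (g x))
    (hh : ∀ a x, h (K.p a x) = K'.p a (h x))
    (z : V ⊗[R] (V ⊗[R] V)) : s3 K' (TensorProduct.map f (TensorProduct.map g h) z) =
      TensorProduct.map g (TensorProduct.map h f) (s3 K z) := by
  rw [s3, LinearMap.comp_apply, sw_nat hf (map_p hg hh), asc_nat]
  rfl

theorem cutG_cyc_congr {n : ℕ} [Invertible (n : R)] {K K' : KD R V} {σ σ' : Module.End R V}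
    (h : Cyc n K σ) (h' : Cyc n K' σ') (hK : K = K') (hσ : σ = σ') :
    cutG h.cen_av.good = cutG h'.cen_av.good := by
  subst hK hσ; rfl

theorem s2_cutG {K : KD R V} {e : V →ₗ[R] V} (he : K.Good e) :
    s2 (cutG he) = s2 K * TensorProduct.map e e := by
  apply TensorProduct.ext'
  intro x y
  simp [s2, sw_tmul, cutG_p, cutG_pi, cutG_eps]

theorem s3_cutG {K : KD R V} {e : V →ₗ[R] V} (he : K.Good e) :
    s3 (cutG he) = s3 K * TensorProduct.map e (TensorProduct.map e e) := by
  apply LinearMap.ext
  refine lin_eq3' (F := s3 (cutG he))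
    (G := s3 K ∘ₗ TensorProduct.map e (TensorProduct.map e e)) (fun x y z => ?_)
  simp [s3, sw_tmul, cutG_p, cutG_pi, cutG_eps, tensor_pi, tensor_eps]

/-- the invariants of the tensor square -/
noncomputable def A2 [Invertible ((2 : ℕ) : R)] (K : KD R V) : KD R (V ⊗[R] V) :=
  cutG (cyc_s2 K).cen_av.good

/-- the invariants of the tensor cube -/
noncomputable def A3 [Invertible ((3 : ℕ) : R)] (K : KD R V) : KD R (V ⊗[R] (V ⊗[R] V)) :=
  cutG (cyc_s3 K).cen_av.good

section add

variable {K : KD R V} {e : V →ₗ[R] V}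

/-- the basic family of a stable idempotent -/
def be (e : V →ₗ[R] V) (b : Bool) : V →ₗ[R] V := if b then co e else e

theorem Stab.fam (h : K.Stab e) : K.Fam (be e) Bool.toNat where
  good w := by
    cases w
    · exact h.good
    · exact ⟨h.co_co, h.co_p, h.hd2⟩
  orth w v hwv x := by
    cases w <;> cases v
    · exact absurd rfl hwv
    · exact h.e_co x
    · exact h.co_e x
    · exact absurd rfl hwv
  tri w v hwv hwt x := by
    cases w <;> cases v
    · exact absurd rfl hwv
    · simp at hwt
    · show co e (K.d (e x)) = 0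
      rw [h.ed, h.co_e]
    · exact absurd rfl hwv
  sum x := by
    rw [Fintype.sum_bool]
    show co e (K.pi x) + e (K.pi x) = K.pi x
    rw [co_apply, sub_add_cancel]

theorem be_p (h : K.Stab e) (w : Bool) (a : Bool) (x : V) : be e w (K.p a x) = K.p a (be e w x) :=
  (h.fam.good w).ep a x

section two

/-- the family on the tensor square -/
noncomputable abbrev e2 (e : V →ₗ[R] V) (w : Bool × Bool) : V ⊗[R] V →ₗ[R] V ⊗[R] V :=
  TensorProduct.map (be e w.1) (be e w.2)

/-- the weight on the square -/
abbrev wt2 (w : Bool × Bool) : ℕ := w.1.toNat + w.2.toNat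

/-- rotation of words -/
def rho2 (w : Bool × Bool) : Bool × Bool := (w.2, w.1)

theorem s2_e2 (h : K.Stab e) (w : Bool × Bool) (x : V ⊗[R] V) :
    s2 K (e2 e w x) = e2 e (rho2 w) (s2 K x) := s2_nat (be_p h w.1) (be_p h w.2) x

variable [Invertible ((2 : ℕ) : R)] [IsNoetherianRing R] [Module.Finite R V] {ℓ : LenFun R}

theorem add2 (h : K.Stab e) (hs : Small ℓ (sub h).ann) (hq : Small ℓ (quo h).ann) :
    ((2 : ℕ) : ℤ) * (A2 K).chi ℓ - (K.tensor K).chi ℓ =
      (((2 : ℕ) : ℤ) * (A2 (sub h)).chi ℓ - ((sub h).tensor (sub h)).chi ℓ) +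
      (((2 : ℕ) : ℤ) * (A2 (quo h)).chi ℓ - ((quo h).tensor (quo h)).chi ℓ) := by
  have F : (K.tensor K).Fam (e2 e) wt2 := h.fam.tensor h.fam
  have hF : (K.tensor K).Filt 3 (cls (e2 e) wt2) := F.filt (by decide)
  have hc := Fam.cls_comm (e := e2 e) (wt := wt2) (σ := s2 K) (ρ := rho2) (s2_e2 h)
    (Function.bijective_iff_has_inverse.mpr ⟨fun w => (w.2, w.1), fun _ => rfl,
      fun _ => rfl⟩) (fun w => by simp only [wt2, rho2]; omega)
  have hcyc := cyc_s2 K
  have c0 : cls (e2 e) wt2 0 = TensorProduct.map e e := by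
    have h1 : (Finset.univ.filter fun w : Bool × Bool => wt2 w = 0) = {(false, false)} := by decide
    rw [cls, h1, Finset.sum_singleton]; rfl
  have c2 : cls (e2 e) wt2 2 = TensorProduct.map (co e) (co e) := by
    have h1 : (Finset.univ.filter fun w : Bool × Bool => wt2 w = 2) = {(true, true)} := by decide
    rw [cls, h1, Finset.sum_singleton]; rfl
  have c1 : ∀ x, cls (e2 e) wt2 1 x = ∑ i ∈ Finset.range 2,
      e2 e (rho2^[2 - i] (false, true)) x := by
    intro x
    have h1 : (Finset.univ.filter fun w : Bool × Bool => wt2 w = 1) = {(true, false), (false, true)} := by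
      decide
    rw [cls_apply, h1, Finset.sum_pair (by decide), Finset.sum_range_succ, Finset.sum_range_succ,
      Finset.sum_range_zero, zero_add, add_comm]
    rfl
  have k0 : (sub h).tensor (sub h) = cutG (hF.good 0) := by
    have := (hF.good 0).of_eq c0
    rw [sub_eq_cutG, cutG_tensorG h.good h.good this]
    exact cutG_congr _ _ c0.symm
  have hco : K.Good (co e) := ⟨h.co_co, h.co_p, h.hd2⟩
  have hquo : quo h = cutG hco := rfl
  have k2 : (quo h).tensor (quo h) = cutG (hF.good 2) := by
    have := (hF.good 2).of_eq c2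
    rw [hquo, cutG_tensorG hco hco this]
    exact cutG_congr _ _ c2.symm
  have a0 : A2 (sub h) = cutG ((hcyc.cut (by norm_num) (hF.good 0) (hc 0)).cen_av.good) := by
    refine cutG_cyc_congr (cyc_s2 _) (hcyc.cut (by norm_num) (hF.good 0) (hc 0)) k0 ?_
    rw [c0]
    exact s2_cutG h.good
  have a2 : A2 (quo h) = cutG ((hcyc.cut (by norm_num) (hF.good 2) (hc 2)).cen_av.good) := by
    refine cutG_cyc_congr (cyc_s2 _) (hcyc.cut (by norm_num) (hF.good 2) (hc 2)) k2 ?_
    rw [c2]
    exact s2_cutG hco
  have f1 : (cutG (F.good (false, true))).Fin ℓ := by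
    have : (sub h).tensor (quo h) = cutG (F.good (false, true)) := by
      rw [sub_eq_cutG, hquo, cutG_tensorG h.good hco (F.good (false, true))]
      rfl
    rw [← this]
    exact fin_of_small _ (hs.mono (ann_left _ _))
  have o1 := F.orbit hF hcyc (by norm_num) (ρ := rho2) (s2_e2 h) hc (k := 1)
    (v := (false, true)) rfl rfl (by
      intro i h1 h2
      have : i = 1 := by omega
      subst this
      decide) c1 (fun w => by simp only [wt2, rho2]; omega) f1
  have s0 : Small ℓ ((sub h).tensor (sub h)).ann := hs.mono (ann_left _ _)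
  have s2 : Small ℓ ((quo h).tensor (quo h)).ann := hq.mono (ann_left _ _)
  have f0 : ((sub h).tensor (sub h)).Fin ℓ := fin_of_small _ s0
  have f2 : ((quo h).tensor (quo h)).Fin ℓ := fin_of_small _ s2
  have fa0 : (A2 (sub h)).Fin ℓ := fin_of_small _ (s0.mono (ann_cut (cyc_s2 _).cen_av))
  have fa2 : (A2 (quo h)).Fin ℓ := fin_of_small _ (s2.mono (ann_cut (cyc_s2 _).cen_av))
  have key := filt_cyc hcyc (by norm_num) hF hc (ℓ := ℓ) (by
      intro i hi
      have : i = 0 ∨ i = 1 ∨ i = 2 := by omega
      rcases this with rfl | rfl | rfl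
      · rw [← k0]; exact f0
      · exact o1.1
      · rw [← k2]; exact f2) (by
      intro i hi
      have : i = 0 ∨ i = 1 ∨ i = 2 := by omega
      rcases this with rfl | rfl | rfl
      · rw [← a0]; exact fa0
      · exact o1.2.1
      · rw [← a2]; exact fa2)
  rw [Finset.sum_range_succ, Finset.sum_range_succ, Finset.sum_range_succ, Finset.sum_range_zero,
    ← a0, ← a2, ← k0, ← k2, o1.2.2, sub_self, zero_add, add_zero] at key
  exact key

end two

section three

/-- the family on the tensor cube -/
noncomputable abbrev e3 (e : V →ₗ[R] V) (w : Bool × Bool × Bool) :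
    V ⊗[R] (V ⊗[R] V) →ₗ[R] V ⊗[R] (V ⊗[R] V) :=
  TensorProduct.map (be e w.1) (TensorProduct.map (be e w.2.1) (be e w.2.2))

/-- the weight on the cube -/
abbrev wt3 (w : Bool × Bool × Bool) : ℕ := w.1.toNat + (w.2.1.toNat + w.2.2.toNat)

/-- rotation of words -/
def rho3 (w : Bool × Bool × Bool) : Bool × Bool × Bool := (w.2.1, w.2.2, w.1)

theorem s3_e3 (h : K.Stab e) (w : Bool × Bool × Bool) (x : V ⊗[R] (V ⊗[R] V)) :
    s3 K (e3 e w x) = e3 e (rho3 w) (s3 K x) :=
  s3_nat (be_p h w.1) (be_p h w.2.1) (be_p h w.2.2) x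

variable [Invertible ((3 : ℕ) : R)] [IsNoetherianRing R] [Module.Finite R V] {ℓ : LenFun R}

theorem add3 (h : K.Stab e) (hs : Small ℓ (sub h).ann) (hq : Small ℓ (quo h).ann) :
    ((3 : ℕ) : ℤ) * (A3 K).chi ℓ - (K.tensor (K.tensor K)).chi ℓ =
      (((3 : ℕ) : ℤ) * (A3 (sub h)).chi ℓ - ((sub h).tensor ((sub h).tensor (sub h))).chi ℓ) +
      (((3 : ℕ) : ℤ) * (A3 (quo h)).chi ℓ - ((quo h).tensor ((quo h).tensor (quo h))).chi ℓ) := by
  have F2 : (K.tensor K).Fam (e2 e) wt2 := h.fam.tensor h.fam
  have F3 := h.fam.tensor F2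
  have F : (K.tensor (K.tensor K)).Fam (e3 e) wt3 := F3
  have hF : (K.tensor (K.tensor K)).Filt 4 (cls (e3 e) wt3) := F.filt (by decide)
  have hc := Fam.cls_comm (e := e3 e) (wt := wt3) (σ := s3 K) (ρ := rho3)
    (s3_e3 h) (Function.bijective_iff_has_inverse.mpr ⟨fun w => (w.2.2, w.1, w.2.1), fun _ => rfl,
      fun _ => rfl⟩) (fun w => by simp only [wt3, rho3]; omega)
  have hcyc := cyc_s3 K
  have c0 : cls (e3 e) wt3 0 = TensorProduct.map e (TensorProduct.map e e) := by
    have h1 : (Finset.univ.filter fun w : Bool × Bool × Bool => wt3 w = 0) =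
      {(false, false, false)} := by decide
    rw [cls, h1, Finset.sum_singleton]; rfl
  have c3 : cls (e3 e) wt3 3 = TensorProduct.map (co e) (TensorProduct.map (co e) (co e)) := by
    have h1 : (Finset.univ.filter fun w : Bool × Bool × Bool => wt3 w = 3) =
      {(true, true, true)} := by decide
    rw [cls, h1, Finset.sum_singleton]; rfl
  have c1 : ∀ x, cls (e3 e) wt3 1 x = ∑ i ∈ Finset.range 3,
      e3 e (rho3^[3 - i] (false, false, true)) x := by
    intro x
    have h1 : (Finset.univ.filter fun w : Bool × Bool × Bool => wt3 w = 1) =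
      {(false, false, true), (true, false, false), (false, true, false)} := by
      decide
    rw [cls_apply, h1, Finset.sum_insert (by decide), Finset.sum_insert (by decide),
      Finset.sum_singleton, Finset.sum_range_succ, Finset.sum_range_succ, Finset.sum_range_succ,
      Finset.sum_range_zero, zero_add, add_assoc]
    rfl
  have c2 : ∀ x, cls (e3 e) wt3 2 x = ∑ i ∈ Finset.range 3,
      e3 e (rho3^[3 - i] (false, true, true)) x := by
    intro x
    have h1 : (Finset.univ.filter fun w : Bool × Bool × Bool => wt3 w = 2) =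
      {(false, true, true), (true, false, true), (true, true, false)} := by
      decide
    rw [cls_apply, h1, Finset.sum_insert (by decide), Finset.sum_insert (by decide),
      Finset.sum_singleton, Finset.sum_range_succ, Finset.sum_range_succ, Finset.sum_range_succ,
      Finset.sum_range_zero, zero_add, add_assoc]
    rfl
  have hco : K.Good (co e) := ⟨h.co_co, h.co_p, h.hd2⟩
  have hquo : quo h = cutG hco := rfl
  have g1 : (K.tensor K).Good (TensorProduct.map e e) := F2.good (false, false)
  have g2 : (K.tensor K).Good (TensorProduct.map (co e) (co e)) := F2.good (true, true)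
  have k0 : (sub h).tensor ((sub h).tensor (sub h)) = cutG (hF.good 0) := by
    have := (hF.good 0).of_eq c0
    rw [sub_eq_cutG, cutG_tensorG h.good h.good g1, cutG_tensorG h.good g1 this]
    exact cutG_congr _ _ c0.symm
  have k3 : (quo h).tensor ((quo h).tensor (quo h)) = cutG (hF.good 3) := by
    have := (hF.good 3).of_eq c3
    rw [hquo, cutG_tensorG hco hco g2, cutG_tensorG hco g2 this]
    exact cutG_congr _ _ c3.symm
  have a0 : A3 (sub h) = cutG ((hcyc.cut (by norm_num) (hF.good 0) (hc 0)).cen_av.good) := by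
    refine cutG_cyc_congr (cyc_s3 _) (hcyc.cut (by norm_num) (hF.good 0) (hc 0)) k0 ?_
    rw [c0]
    exact s3_cutG h.good
  have a3 : A3 (quo h) = cutG ((hcyc.cut (by norm_num) (hF.good 3) (hc 3)).cen_av.good) := by
    refine cutG_cyc_congr (cyc_s3 _) (hcyc.cut (by norm_num) (hF.good 3) (hc 3)) k3 ?_
    rw [c3]
    exact s3_cutG hco
  have f1 : (cutG (F.good (false, false, true))).Fin ℓ := by
    have g3 : (K.tensor K).Good (TensorProduct.map e (co e)) := F2.good (false, true)
    have : (sub h).tensor ((sub h).tensor (quo h)) = cutG (F.good (false, false, true)) := by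
      rw [sub_eq_cutG, hquo, cutG_tensorG h.good hco g3, cutG_tensorG h.good g3
        (F.good (false, false, true))]
      rfl
    rw [← this]
    exact fin_of_small _ (hs.mono (ann_left _ _))
  have f2 : (cutG (F.good (false, true, true))).Fin ℓ := by
    have : (sub h).tensor ((quo h).tensor (quo h)) = cutG (F.good (false, true, true)) := by
      rw [sub_eq_cutG, hquo, cutG_tensorG hco hco g2, cutG_tensorG h.good g2
        (F.good (false, true, true))]
      rfl
    rw [← this]
    exact fin_of_small _ (hs.mono (ann_left _ _))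
  have o1 := F.orbit hF hcyc (by norm_num) (ρ := rho3) (s3_e3 h) hc (k := 1)
    (v := (false, false, true)) (by decide) (by decide) (by
      intro i h1 h2
      have : i = 1 ∨ i = 2 := by omega
      rcases this with rfl | rfl <;>
      decide) c1 (fun w => by simp only [wt3, rho3]; omega) f1
  have o2 := F.orbit hF hcyc (by norm_num) (ρ := rho3) (s3_e3 h) hc (k := 2)
    (v := (false, true, true)) (by decide) (by decide) (by
      intro i h1 h2
      have : i = 1 ∨ i = 2 := by omega
      rcases this with rfl | rfl <;>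
      decide) c2 (fun w => by simp only [wt3, rho3]; omega) f2
  have s0 : Small ℓ ((sub h).tensor ((sub h).tensor (sub h))).ann := hs.mono (ann_left _ _)
  have s3 : Small ℓ ((quo h).tensor ((quo h).tensor (quo h))).ann := hq.mono (ann_left _ _)
  have f0 : ((sub h).tensor ((sub h).tensor (sub h))).Fin ℓ := fin_of_small _ s0
  have f3 : ((quo h).tensor ((quo h).tensor (quo h))).Fin ℓ := fin_of_small _ s3
  have fa0 : (A3 (sub h)).Fin ℓ := fin_of_small _ (s0.mono (ann_cut (cyc_s3 _).cen_av))
  have fa3 : (A3 (quo h)).Fin ℓ := fin_of_small _ (s3.mono (ann_cut (cyc_s3 _).cen_av))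
  have key := filt_cyc hcyc (by norm_num) hF hc (ℓ := ℓ) (by
      intro i hi
      have : i = 0 ∨ i = 1 ∨ i = 2 ∨ i = 3 := by omega
      rcases this with rfl | rfl | rfl | rfl
      · rw [← k0]; exact f0
      · exact o1.1
      · exact o2.1
      · rw [← k3]; exact f3) (by
      intro i hi
      have : i = 0 ∨ i = 1 ∨ i = 2 ∨ i = 3 := by omega
      rcases this with rfl | rfl | rfl | rfl
      · rw [← a0]; exact fa0
      · exact o1.2.1
      · exact o2.2.1
      · rw [← a3]; exact fa3)
  rw [Finset.sum_range_succ, Finset.sum_range_succ, Finset.sum_range_succ, Finset.sum_range_succ,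
    Finset.sum_range_zero, ← a0, ← a3, ← k0, ← k3, o1.2.2, o2.2.2, sub_self, sub_self, zero_add,
    add_zero, add_zero] at key
  exact key

end three

end add

end KD

end Groth.Agent.Books.AdKD
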