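import Groth.Agent.Books.AdDev2

set_option autoImplicit false
universe u

/-!
# Homology concentrated in one degree; Euler characteristics of Koszul complexes
-/

open TensorProduct

namespace Groth.Agent.Books.AdKD

open Groth.Agent.Books.AdLen

namespace KD

variable {R : Type u} [CommRing R] {V W U : Type u} [AddCommGroup V] [Module R V]
  [AddCommGroup W] [Module R W] [AddCommGroup U] [Module R U]
  {M : Type u} [AddCommGroup M] [Module R M]

/-- homology concentrated in even degree, isomorphic to `M` -/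
structure Conc (K : KD R V) (ε : V →ₗ[R] M) : Prop where
  εd : ∀ x, ε (K.d x) = 0
  surj : ∀ m, ∃ x ∈ K.Z false, ε x = m
  ker : ∀ x ∈ K.Z false, ε x = 0 → x ∈ K.B false
  odd : K.Z true ≤ K.B true

theorem Conc.hl_false {K : KD R V} {ε : V →ₗ[R] M} (h : Conc K ε) (ℓ : LenFun R) :
    K.hl ℓ false = ℓ.len M := by
  have h1 : ℓ.rel (K.B false) (K.Z false) = ℓ.rel (⊥ : Submodule R M) ⊤ := by
    apply ℓ.rel_congr ε
    · exact le_top
    · intro m _
      obtain ⟨x, hx, rfl⟩ := h.surj m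
      exact Submodule.mem_sup_right ⟨x, hx, rfl⟩
    · intro x hx hx'
      exact h.ker x hx ((Submodule.mem_bot R).mp hx')
    · rintro _ ⟨_, ⟨y, -, rfl⟩, rfl⟩
      rw [h.εd]; exact Submodule.zero_mem _
    · exact bot_le
  unfold hl
  rw [h1, ℓ.rel_bot, ℓ.congr (Submodule.topEquiv)]

theorem Conc.hl_true {K : KD R V} {ε : V →ₗ[R] M} (h : Conc K ε) (ℓ : LenFun R) :
    K.hl ℓ true = 0 := ℓ.rel_eq_zero h.odd

theorem Conc.chi {K : KD R V} {ε : V →ₗ[R] M} (h : Conc K ε) (ℓ : LenFun R) :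
    K.chi ℓ = ((ℓ.len M).toNat : ℤ) := by
  unfold KD.chi
  rw [h.hl_false, h.hl_true]
  simp

theorem Bg_le_B {K : KD R V} {N : ℕ} {g : ℕ → V →ₗ[R] V} (hg : K.Gr N g) (i : ℕ) :
    Bg K g i ≤ K.B i.bodd := by
  rintro _ ⟨y, h1, rfl⟩
  apply K.d_mem_B
  rw [← h1, hg.pg, Nat.bodd_succ, if_pos rfl]

theorem Gr.mem_B {K : KD R V} {N : ℕ} {g : ℕ → V →ₗ[R] V} (hg : K.Gr N g) {a : Bool} {x : V}
    (hx : x ∈ K.Z a) (h : ∀ i, i.bodd = a → g i x ∈ Bg K g i) : x ∈ K.B a := by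
  have h1 : x = ∑ i ∈ Finset.range N, g i x := by
    rw [hg.sum, pi_of_p hx.2]
  rw [h1]
  refine Submodule.sum_mem _ fun i _ => ?_
  by_cases hi : i.bodd = a
  · have := Bg_le_B hg i (h i hi)
    rwa [hi] at this
  · have : g i x = 0 := by
      rw [← hx.2, hg.gp, if_neg hi]
    rw [this]
    exact Submodule.zero_mem _

theorem Gr.mem_Zg {K : KD R V} {N : ℕ} {g : ℕ → V →ₗ[R] V} (hg : K.Gr N g) {x : V}
    (hx : K.d x = 0) (i : ℕ) : g i x ∈ Zg K g i := by
  refine ⟨?_, hg.oi.ee i x⟩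
  rcases i with _ | i
  · exact hg.g0 x
  · rw [← hg.gd, hx, map_zero]

theorem Res.conc {K : KD R V} {N : ℕ} {g : ℕ → V →ₗ[R] V} (hg : K.Gr N g) {ε : V →ₗ[R] M}
    (h : Res K g 0 ε) : Conc K ε where
  εd := h.εd
  surj m := by
    obtain ⟨v, rfl⟩ := h.surj m
    exact ⟨g 0 v, ⟨hg.g0 v, by rw [hg.pg]; simp⟩, h.εg v⟩
  ker x hx hx0 := by
    refine hg.mem_B hx fun i _ => ?_
    rcases Nat.eq_zero_or_pos i with hi | hi
    · subst hi
      exact h.ker _ (hg.oi.ee 0 x) (by rw [h.εg, hx0])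
    · exact h.ex i hi (hg.mem_Zg hx.1 i)
  odd x hx := by
    refine hg.mem_B hx fun i hi => ?_
    rcases Nat.eq_zero_or_pos i with h0 | h0
    · subst h0; simp at hi
    · exact h.ex i h0 (hg.mem_Zg hx.1 i)

/-- multiplication by a regular element -/
theorem Conc.cone {K : KD R V} {ε : V →ₗ[R] M} (h : Conc K ε) {a : R} (ha : IsSMulRegular M a)
    {M' : Type u} [AddCommGroup M'] [Module R M'] {q : M →ₗ[R] M'} (hq : Function.Surjective q)
    (hqa : ∀ m, q m = 0 ↔ ∃ m', m = a • m') :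
    Conc (KD.cone ((IsHom.id K).smul a)) (q ∘ₗ ε ∘ₗ LinearMap.fst R V V) where
  εd x := by
    rw [cone_d]
    simp only [LinearMap.comp_apply, LinearMap.fst_apply, LinearMap.smul_apply, LinearMap.id_apply]
    rw [map_add, h.εd, zero_add, map_smul, hqa]
    exact ⟨_, rfl⟩
  surj m := by
    obtain ⟨m, rfl⟩ := hq m
    obtain ⟨z, hz, rfl⟩ := h.surj m
    refine ⟨(z, 0), ⟨?_, ?_⟩, rfl⟩
    · rw [cone_d]; simp [hz.1]
    · rw [cone_p]; simp [hz.2]
  ker := by
    rintro ⟨w, v⟩ ⟨h1, h2⟩ hx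
    rw [cone_d] at h1
    rw [cone_p] at h2
    simp only [Prod.mk.injEq, Bool.not_false, LinearMap.smul_apply, LinearMap.id_apply] at h1 h2
    obtain ⟨d1, d2⟩ := Prod.mk_eq_zero.mp h1
    obtain ⟨p1, p2⟩ := h2
    rw [neg_eq_zero] at d2
    rw [pi_of_p p2] at d1
    obtain ⟨y, y1, y2⟩ := h.odd ⟨d2, p2⟩
    simp only [Bool.not_true] at y1
    have hx' : q (ε w) = 0 := hx
    rw [hqa] at hx'
    obtain ⟨m, hm⟩ := hx'
    obtain ⟨z, hz, hz'⟩ := h.surj (m + ε y)
    have hB : w + a • y - a • z ∈ K.B false := by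
      apply h.ker
      · refine ⟨?_, ?_⟩
        · rw [map_sub, map_add, map_smul, map_smul, hz.1, y2, d1, smul_zero, sub_zero]
        · rw [map_sub, map_add, map_smul, map_smul, hz.2, y1, p1]
      · rw [map_sub, map_add, map_smul, map_smul, hz', hm, smul_add, sub_self]
    obtain ⟨w', w1, w2⟩ := hB
    refine ⟨(w', -y + z), ?_, ?_⟩
    · rw [cone_p]
      simp only [Prod.mk.injEq, map_add, map_neg, Bool.not_false, Bool.not_true] at w1 ⊢
      rw [w1, y1, hz.2]
      exact ⟨rfl, rfl⟩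
    · rw [cone_d]
      simp only [LinearMap.smul_apply, LinearMap.id_apply, map_add, map_neg]
      rw [w2, y2, hz.1, pi_of_p y1, pi_of_p hz.2]
      refine Prod.ext ?_ ?_
      · simp only [smul_add, smul_neg]; abel
      · simp
  odd := by
    rintro ⟨w, v⟩ ⟨h1, h2⟩
    rw [cone_d] at h1
    rw [cone_p] at h2
    simp only [Prod.mk.injEq, Bool.not_true, LinearMap.smul_apply, LinearMap.id_apply] at h1 h2
    obtain ⟨d1, d2⟩ := Prod.mk_eq_zero.mp h1
    obtain ⟨p1, p2⟩ := h2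
    rw [neg_eq_zero] at d2
    rw [pi_of_p p2] at d1
    have e0 : ε v = 0 := by
      apply ha
      have := congrArg ε d1
      rw [map_add, h.εd, zero_add, map_smul, map_zero] at this
      simpa using this
    obtain ⟨y, y1, y2⟩ := h.ker v ⟨d2, p2⟩ e0
    simp only [Bool.not_false] at y1
    have hB : w + a • y ∈ K.B true := by
      apply h.odd
      refine ⟨?_, ?_⟩
      · rw [map_add, map_smul, y2, d1]
      · rw [map_add, map_smul, y1, p1]
    obtain ⟨w', w1, w2⟩ := hB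
    refine ⟨(w', -y), ?_, ?_⟩
    · rw [cone_p]
      simp only [Prod.mk.injEq, map_neg, Bool.not_false, Bool.not_true] at w1 ⊢
      rw [w1, y1]
      exact ⟨rfl, rfl⟩
    · rw [cone_d]
      simp only [LinearMap.smul_apply, LinearMap.id_apply, map_neg]
      rw [w2, y2, pi_of_p y1]
      refine Prod.ext ?_ ?_
      · simp
      · simp

/-- transport of `Conc` -/
theorem Conc.of_iso {K : KD R V} {L : KD R W} {ε : V →ₗ[R] M} (h : Conc K ε) {f : V →ₗ[R] W}
    {g : W →ₗ[R] V} (hfg : IsIso K L f g) : Conc L (ε ∘ₗ g) where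
  εd x := by rw [LinearMap.comp_apply, hfg.hg.fd, h.εd]
  surj m := by
    obtain ⟨x, hx, rfl⟩ := h.surj m
    refine ⟨f x, ⟨by rw [← hfg.hf.fd, hx.1, map_zero], by rw [← hfg.hf.fp, hx.2]⟩, ?_⟩
    have := hfg.gf x
    rw [pi_of_p hx.2] at this
    rw [LinearMap.comp_apply, this]
  ker x hx hx0 := by
    have h1 : g x ∈ K.B false := h.ker _
      ⟨by rw [← hfg.hg.fd, hx.1, map_zero], by rw [← hfg.hg.fp, hx.2]⟩ hx0
    obtain ⟨y, y1, y2⟩ := h1
    refine ⟨f y, by rw [← hfg.hf.fp, y1], ?_⟩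
    have := hfg.fg x
    rw [pi_of_p hx.2] at this
    rw [← hfg.hf.fd, y2, this]
  odd x hx := by
    have h1 : g x ∈ K.B true := h.odd
      ⟨by rw [← hfg.hg.fd, hx.1, map_zero], by rw [← hfg.hg.fp, hx.2]⟩
    obtain ⟨y, y1, y2⟩ := h1
    refine ⟨f y, by rw [← hfg.hf.fp, y1], ?_⟩
    have := hfg.fg x
    rw [pi_of_p hx.2] at this
    rw [← hfg.hf.fd, y2, this]

/-- `kos a ⊗ K ≅ cone(a)` -/
noncomputable def kf (V : Type u) [AddCommGroup V] [Module R V] : KV R ⊗[R] V →ₗ[R] V × V :=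
  LinearMap.prod ((TensorProduct.lid R V).toLinearMap ∘ₗ TensorProduct.map c0 LinearMap.id)
    ((TensorProduct.lid R V).toLinearMap ∘ₗ TensorProduct.map c1 LinearMap.id)

theorem kf_0 (v : V) : kf V (k0 ⊗ₜ[R] v) = (v, 0) := by
  simp [kf, prod_ap, c0_k0, c1_k0]
theorem kf_1 (v : V) : kf V (k1 ⊗ₜ[R] v) = (0, v) := by
  simp [kf, prod_ap, c0_k1, c1_k1]

/-- the inverse -/
noncomputable def fk (V : Type u) [AddCommGroup V] [Module R V] : V × V →ₗ[R] KV R ⊗[R] V :=
  LinearMap.coprod (TensorProduct.mk R (KV R) V k0) (TensorProduct.mk R (KV R) V k1)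

theorem fk_ap (x : V × V) : fk (R := R) V x = k0 ⊗ₜ x.1 + k1 ⊗ₜ x.2 := by
  simp [fk, LinearMap.coprod_apply]

theorem isIso_kf (a : R) (K : KD R V) :
    IsIso ((kos a).tensor K) (cone ((IsHom.id K).smul a)) (kf V) (fk V) where
  hf := by
    constructor
    · refine LinearMap.congr_fun (kextT (F := kf V ∘ₗ ((kos a).tensor K).d)
        (G := (cone ((IsHom.id K).smul a)).d ∘ₗ kf V) ?_ ?_)
      · intro w
        simp [tensor_d, d_k0, eps_k0, kf_0, cone_d]
      · intro w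
        simp [tensor_d, d_k1, eps_k1, kf_0, kf_1, cone_d, neg_tmul, ← smul_tmul']
    · intro b
      refine LinearMap.congr_fun (kextT (F := kf V ∘ₗ ((kos a).tensor K).p b)
        (G := (cone ((IsHom.id K).smul a)).p b ∘ₗ kf V) ?_ ?_)
      · intro w
        simp [tensor_p, pf_k0, pt_k0, kf_0, cone_p]
      · intro w
        simp [tensor_p, pf_k1, pt_k1, kf_1, cone_p]
  hg := by
    constructor
    · intro x
      rw [fk_ap, fk_ap, cone_d]
      simp only [map_add, tensor_d, d_k0, d_k1, eps_k0, eps_k1, zero_tmul, zero_add, neg_tmul,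
        tmul_add, tmul_neg, LinearMap.smul_apply, LinearMap.id_apply, tmul_smul, smul_tmul']
      abel
    · intro b x
      rw [fk_ap, fk_ap, cone_p]
      cases b <;>
      simp [tensor_p, pf_k0, pt_k0, pf_k1, pt_k1]
  gf z := by
    refine LinearMap.congr_fun (kextT (F := fk V ∘ₗ kf V ∘ₗ ((kos a).tensor K).pi)
        (G := ((kos a).tensor K).pi) ?_ ?_) z
    · intro w
      simp [tensor_pi, pi_k, kf_0, fk_ap]
    · intro w
      simp [tensor_pi, pi_k, kf_1, fk_ap]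
  fg x := by
    rw [fk_ap, map_add, kf_0, kf_1]
    simp

end KD

end Groth.Agent.Books.AdKD
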