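import Groth.Agent.Books.AdAdd

set_option autoImplicit false
universe u

/-!
# Shifts and cones
-/

open TensorProduct

namespace Groth.Agent.Books.AdKD

open Groth.Agent.Books.AdLen

namespace KD

variable {R : Type u} [CommRing R] {V W U : Type u} [AddCommGroup V] [Module R V]
  [AddCommGroup W] [Module R W] [AddCommGroup U] [Module R U]

/-- shift -/
def sh (K : KD R V) : KD R V where
  d := K.d
  p a := K.p (!a)
  pp a x := K.pp _ x
  pn a x := by rw [K.pn]
  dp a x := by rw [K.dp]
  dd := K.dd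
  dpi x := by rw [add_comm]; exact K.dpi x

theorem sh_d (K : KD R V) (x : V) : (sh K).d x = K.d x := rfl
theorem sh_p (K : KD R V) (a : Bool) (x : V) : (sh K).p a x = K.p (!a) x := rfl
theorem sh_pi (K : KD R V) (x : V) : (sh K).pi x = K.pi x := by
  simp only [pi_apply, sh_p, Bool.not_true, Bool.not_false]
  rw [add_comm]
theorem sh_eps (K : KD R V) (x : V) : (sh K).eps x = - K.eps x := by
  simp only [eps_apply, sh_p, Bool.not_true, Bool.not_false]
  rw [neg_sub]

theorem sh_hl (K : KD R V) (ℓ : LenFun R) (a : Bool) : (sh K).hl ℓ a = K.hl ℓ (!a) := rfl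

theorem sh_chi (K : KD R V) (ℓ : LenFun R) : (sh K).chi ℓ = - K.chi ℓ := by
  unfold chi
  rw [sh_hl, sh_hl, Bool.not_false, Bool.not_true, neg_sub]

theorem sh_ann (K : KD R V) : (sh K).ann = K.ann := by
  apply le_antisymm
  · rintro y ⟨s, h1, h2⟩
    refine ⟨s, fun a x => ?_, fun x => ?_⟩
    · have := h1 (!a) x
      simpa only [sh_p, Bool.not_not] using this
    · have := h2 x
      simpa only [sh_d, sh_pi] using this
  · rintro y ⟨s, h1, h2⟩
    refine ⟨s, fun a x => ?_, fun x => ?_⟩
    · have := h1 (!a) x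
      simpa only [sh_p, Bool.not_not] using this
    · have := h2 x
      simpa only [sh_d, sh_pi] using this

theorem isIso_sh {K : KD R V} {L : KD R W} {f : V →ₗ[R] W} {g : W →ₗ[R] V} (h : IsIso K L f g) :
    IsIso (sh K) (sh L) f g where
  hf := ⟨h.hf.fd, fun a x => h.hf.fp (!a) x⟩
  hg := ⟨h.hg.fd, fun a x => h.hg.fp (!a) x⟩
  gf x := by rw [sh_pi, h.gf]
  fg x := by rw [sh_pi, h.fg]

/-- shift of the left factor -/
theorem isIso_sh_tensor (K : KD R V) (L : KD R W) :
    IsIso ((sh K).tensor L) (sh (K.tensor L)) (TensorProduct.map LinearMap.id L.eps)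
      (TensorProduct.map LinearMap.id L.eps) where
  hf := by
    constructor
    · intro z
      refine lin_eq (F := TensorProduct.map LinearMap.id L.eps ∘ₗ ((sh K).tensor L).d)
        (G := (sh (K.tensor L)).d ∘ₗ TensorProduct.map LinearMap.id L.eps) (fun x y => ?_) z
      simp only [LinearMap.comp_apply, map_tmul, sh_d, tensor_d, map_add, LinearMap.id_apply, sh_eps,
        L.d_eps, L.eps_pi, L.pi_eps, neg_tmul, tmul_neg, map_neg]
    · intro a z
      refine lin_eq (F := TensorProduct.map LinearMap.id L.eps ∘ₗ ((sh K).tensor L).p a)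
        (G := (sh (K.tensor L)).p a ∘ₗ TensorProduct.map LinearMap.id L.eps) (fun x y => ?_) z
      simp only [LinearMap.comp_apply, map_tmul, sh_p, tensor_p, map_add, LinearMap.id_apply,
        L.eps_p, L.p_eps, Bool.not_not, Bool.not_false, Bool.not_true]
      cases a <;> simp [add_comm]
  hg := by
    constructor
    · intro z
      refine lin_eq (F := TensorProduct.map LinearMap.id L.eps ∘ₗ (sh (K.tensor L)).d)
        (G := ((sh K).tensor L).d ∘ₗ TensorProduct.map LinearMap.id L.eps) (fun x y => ?_) z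
      simp only [LinearMap.comp_apply, map_tmul, sh_d, tensor_d, map_add, LinearMap.id_apply, sh_eps,
        L.d_eps, L.eps_pi, L.pi_eps, neg_tmul, tmul_neg, neg_neg]
    · intro a z
      refine lin_eq (F := TensorProduct.map LinearMap.id L.eps ∘ₗ (sh (K.tensor L)).p a)
        (G := ((sh K).tensor L).p a ∘ₗ TensorProduct.map LinearMap.id L.eps) (fun x y => ?_) z
      simp only [LinearMap.comp_apply, map_tmul, sh_p, tensor_p, map_add, LinearMap.id_apply,
        L.eps_p, L.p_eps, Bool.not_not, Bool.not_false, Bool.not_true]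
      cases a <;> simp [add_comm]
  gf z := by
    refine lin_eq (F := TensorProduct.map LinearMap.id L.eps ∘ₗ TensorProduct.map LinearMap.id L.eps ∘ₗ
      ((sh K).tensor L).pi) (G := ((sh K).tensor L).pi) (fun x y => ?_) z
    simp [tensor_pi, L.eps_eps, L.pi_pi, L.eps_pi]
  fg z := by
    refine lin_eq (F := TensorProduct.map LinearMap.id L.eps ∘ₗ TensorProduct.map LinearMap.id L.eps ∘ₗ
      (sh (K.tensor L)).pi) (G := (sh (K.tensor L)).pi) (fun x y => ?_) z
    simp [sh_pi, tensor_pi, L.eps_eps, L.pi_pi, L.eps_pi]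

section cone

variable {K : KD R V} {L : KD R W} {f : V →ₗ[R] W}

theorem prod_ap {A B C : Type u} [AddCommGroup A] [Module R A] [AddCommGroup B] [Module R B]
    [AddCommGroup C] [Module R C] (f : A →ₗ[R] B) (g : A →ₗ[R] C) (x : A) :
    LinearMap.prod f g x = (f x, g x) := rfl

/-- mapping cone -/
def cone (hf : IsHom K L f) : KD R (W × V) where
  d := LinearMap.prod (L.d ∘ₗ LinearMap.fst R W V + f ∘ₗ K.pi ∘ₗ LinearMap.snd R W V)
    (- (K.d ∘ₗ LinearMap.snd R W V))
  p a := LinearMap.prodMap (L.p a) (K.p (!a))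
  pp a x := by
    ext <;> simp [K.pp, L.pp]
  pn a x := by
    ext
    · simp [L.pn]
    · have := K.pn (!a) x.2
      simpa using this
  dp a x := by
    have h1 : f (K.p (!a) x.2) = L.p (!a) (f (K.pi x.2)) := by
      rw [← hf.fp, K.p_pi]
    ext
    · simp [L.dp, K.pi_p, h1]
    · simp [K.dp]
  dd x := by
    ext
    · simp [L.dd, K.d_pi, ← hf.fd, K.pi_d]
    · simp [K.dd]
  dpi x := by
    have h1 := K.dpi x.2
    have h2 := L.dpi x.1
    have h3 : K.p true x.2 + K.p false x.2 = K.pi x.2 := by rw [add_comm]; rfl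
    ext
    · simp only [prod_ap, LinearMap.add_apply, LinearMap.comp_apply,
        LinearMap.fst_apply, LinearMap.snd_apply, LinearMap.prodMap_apply, Prod.fst_add, Prod.snd_add,
        Bool.not_false, Bool.not_true]
      rw [h2, h3, K.pi_pi]
    · simp only [prod_ap, LinearMap.neg_apply, LinearMap.comp_apply,
        LinearMap.snd_apply, LinearMap.prodMap_apply, Prod.snd_add,
        Bool.not_false, Bool.not_true]
      rw [h3, K.d_pi]

theorem cone_d (hf : IsHom K L f) (x : W × V) :
    (cone hf).d x = (L.d x.1 + f (K.pi x.2), - K.d x.2) := rfl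

theorem cone_p (hf : IsHom K L f) (a : Bool) (x : W × V) :
    (cone hf).p a x = (L.p a x.1, K.p (!a) x.2) := rfl

theorem cone_pi (hf : IsHom K L f) (x : W × V) :
    (cone hf).pi x = (L.pi x.1, K.pi x.2) := by
  rw [pi_apply, cone_p, cone_p]
  ext
  · rfl
  · simp only [Bool.not_true, Bool.not_false, Prod.snd_add]
    rw [add_comm]
    rfl

/-- projection onto the target part -/
def ce (W V : Type u) [AddCommGroup V] [Module R V] [AddCommGroup W] [Module R W] :
    W × V →ₗ[R] W × V := LinearMap.inl R W V ∘ₗ LinearMap.fst R W V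

theorem ce_apply (x : W × V) : (ce W V : W × V →ₗ[R] W × V) x = (x.1, 0) := rfl

theorem cone_stab (hf : IsHom K L f) : (cone hf).Stab (ce W V) where
  ee x := rfl
  ep a x := by
    rw [ce_apply, cone_p, cone_p, ce_apply]
    simp
  ed x := by
    simp [ce_apply, cone_d]

theorem isIso_cone_sub (hf : IsHom K L f) :
    IsIso (sub (cone_stab hf)) L (LinearMap.fst R W V) (LinearMap.inl R W V) where
  hf := ⟨fun x => by simp [sub_d, ce_apply, cone_d], fun a x => by simp [sub_p, ce_apply, cone_p]⟩
  hg := ⟨fun x => by simp [sub_d, ce_apply, cone_d], fun a x => by simp [sub_p, ce_apply, cone_p]⟩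
  gf x := by simp [sub_eq_cutG, cutG_pi, ce_apply, cone_pi]
  fg x := rfl

theorem co_ce_apply (x : W × V) : co (ce W V : W × V →ₗ[R] W × V) x = (0, x.2) := by
  rw [co_apply, ce_apply]
  ext <;> simp

theorem isIso_cone_quo (hf : IsHom K L f) :
    IsIso (quo (cone_stab hf)) (sh K) (K.eps ∘ₗ LinearMap.snd R W V)
      (LinearMap.inr R W V ∘ₗ K.eps) where
  hf := ⟨fun x => by simp [quo_d, co_ce_apply, cone_d, sh_d, K.d_eps],
    fun a x => by simp [quo_p, co_ce_apply, cone_p, sh_p, K.eps_p, K.p_eps]⟩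
  hg := ⟨fun x => by simp [quo_d, co_ce_apply, cone_d, sh_d, K.d_eps],
    fun a x => by simp [quo_p, co_ce_apply, cone_p, sh_p, K.eps_p, K.p_eps]⟩
  gf x := by
    have : (quo (cone_stab hf)).pi x = (0, K.pi x.2) := by
      rw [pi_apply, quo_p, quo_p, co_ce_apply, cone_p, cone_p]
      ext
      · simp
      · simp only [Bool.not_true, Bool.not_false, Prod.snd_add]
        rw [add_comm]; rfl
    rw [this]
    simp [K.eps_eps, K.eps_pi]
  fg x := by
    simp [sh_pi, K.eps_eps, K.eps_pi]

theorem cone_ann (hf : IsHom K L f) {y z : R} (hy : y ∈ K.ann) (hz : z ∈ L.ann) :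
    z * y ∈ (cone hf).ann := by
  obtain ⟨s, s1, s2, s3, s4⟩ := mem_ann_iff_norm.mp hy
  obtain ⟨t, t1, t2, t3, t4⟩ := mem_ann_iff_norm.mp hz
  refine ⟨LinearMap.prod (t ∘ₗ (y • LinearMap.fst R W V + f ∘ₗ s ∘ₗ LinearMap.snd R W V))
    (-(z • (s ∘ₗ LinearMap.snd R W V))), ?_, ?_⟩
  · intro a x
    ext
    · simp [cone_p, t1, s1, hf.fp]
    · simp [cone_p, s1]
  · intro x
    have e1 := s4 x.2
    have e2 := t4 x.1
    have e3 := t4 (f (s x.2))
    rw [← hf.pi, s2] at e3
    have e4 : L.d (f (s x.2)) + f (s (K.d x.2)) = y • f (K.pi x.2) := by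
      rw [← hf.fd, ← map_add, e1, map_smul]
    ext
    · simp only [cone_d, cone_pi, prod_ap, LinearMap.comp_apply,
        LinearMap.add_apply, LinearMap.smul_apply, LinearMap.neg_apply, LinearMap.fst_apply,
        LinearMap.snd_apply, Prod.fst_add, Prod.smul_fst, map_add, map_smul, map_neg, mul_smul, s2]
      have e5 := congrArg t e4
      rw [map_add, map_smul] at e5
      rw [smul_comm z y (L.pi x.1), ← e2, smul_add, smul_add, ← e5, ← e3]
      abel
    · simp only [cone_d, cone_pi, prod_ap, LinearMap.comp_apply,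
        LinearMap.add_apply, LinearMap.smul_apply, LinearMap.neg_apply, LinearMap.fst_apply,
        LinearMap.snd_apply, Prod.snd_add, Prod.smul_snd, map_add, map_smul, map_neg, mul_smul, s2]
      rw [smul_neg, neg_neg, neg_neg, ← smul_add, e1]

end cone

end KD

end Groth.Agent.Books.AdKD
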