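import Groth.Agent.Books.AdGr2

set_option autoImplicit false
universe u

/-!
# Bundled bounded complexes and abstract Adams operations
-/

open TensorProduct

namespace Groth.Agent.Books.AdKD

open Groth.Agent.Books.AdLen

/-- bounded complexes of finite projective modules (Karoubi version) -/
structure Cx (R : Type u) [CommRing R] where
  /-- the underlying module -/
  V : Type u
  [ac : AddCommGroup V]
  [mo : Module R V]
  [fi : Module.Finite R V]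
  [pr : Module.Projective R V]
  /-- the differential structure -/
  K : KD R V
  gr : K.IsGr

attribute [instance] Cx.ac Cx.mo Cx.fi Cx.pr

namespace Cx

variable {R : Type u} [CommRing R]

/-- homotopy annihilator -/
def ann (F : Cx R) : Ideal R := F.K.ann

/-- Euler characteristic -/
noncomputable def chi (ℓ : LenFun R) (F : Cx R) : ℤ := F.K.chi ℓ

/-- isomorphism -/
def Iso (F G : Cx R) : Prop := ∃ f g, KD.IsIso F.K G.K f g

theorem Iso.refl (F : Cx R) : Iso F F := ⟨_, _, KD.IsIso.refl F.K⟩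

theorem Iso.symm {F G : Cx R} (h : Iso F G) : Iso G F := by
  obtain ⟨f, g, h⟩ := h
  exact ⟨_, _, h.symm⟩

theorem Iso.trans {F G H : Cx R} (h : Iso F G) (h' : Iso G H) : Iso F H := by
  obtain ⟨f, g, h⟩ := h
  obtain ⟨f', g', h'⟩ := h'
  exact ⟨_, _, h.trans h'⟩

theorem Iso.chi {F G : Cx R} (h : Iso F G) (ℓ : LenFun R) : F.chi ℓ = G.chi ℓ := by
  obtain ⟨f, g, h⟩ := h
  exact KD.chi_congr h ℓ

theorem Iso.ann_le {F G : Cx R} (h : Iso F G) : F.ann ≤ G.ann := by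
  obtain ⟨f, g, h⟩ := h
  exact KD.ann_of_iso h

/-- tensor product -/
noncomputable def ten (F G : Cx R) : Cx R where
  V := F.V ⊗[R] G.V
  K := F.K.tensor G.K
  gr := F.gr.tensor G.gr

theorem Iso.ten {F G F' G' : Cx R} (h : Iso F F') (h' : Iso G G') : Iso (F.ten G) (F'.ten G') := by
  obtain ⟨f, g, h⟩ := h
  obtain ⟨f', g', h'⟩ := h'
  exact ⟨_, _, h.tensor h'⟩

theorem ann_ten (F G : Cx R) : F.ann ⊔ G.ann ≤ (F.ten G).ann := KD.ann_sup F.K G.K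

/-- shift -/
def sh (F : Cx R) : Cx R where
  V := F.V
  K := KD.sh F.K
  gr := F.gr.sh

theorem sh_chi (F : Cx R) (ℓ : LenFun R) : F.sh.chi ℓ = - F.chi ℓ := KD.sh_chi F.K ℓ
theorem sh_ann (F : Cx R) : F.sh.ann = F.ann := KD.sh_ann F.K

/-- unit -/
def one (R : Type u) [CommRing R] : Cx R where
  V := R
  K := KD.one R
  gr := KD.IsGr.one

/-- Koszul complex of one element -/
def kos (a : R) : Cx R where
  V := KD.KV R
  K := KD.kos a
  gr := KD.IsGr.kos a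

/-- cone -/
def cone {F G : Cx R} {f : F.V →ₗ[R] G.V} (hf : KD.IsHom F.K G.K f) (hg : (KD.cone hf).IsGr) :
    Cx R where
  V := G.V × F.V
  K := KD.cone hf
  gr := hg

theorem one_ten (F : Cx R) : Iso ((one R).ten F) F := ⟨_, _, KD.isIso_one_tensor F.K⟩
theorem comm (F G : Cx R) : Iso (F.ten G) (G.ten F) := ⟨_, _, KD.isIso_sw F.K G.K⟩
theorem ten_one (F : Cx R) : Iso (F.ten (one R)) F := (comm F _).trans (one_ten F)
theorem assoc (F G H : Cx R) : Iso ((F.ten G).ten H) (F.ten (G.ten H)) :=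
  ⟨_, _, KD.isIso_asc F.K G.K H.K⟩
theorem move (F G H : Cx R) : Iso ((F.ten G).ten H) (G.ten (F.ten H)) :=
  ((comm F G).ten (Iso.refl H)).trans (assoc G F H)
theorem sh_ten (F G : Cx R) : Iso (F.sh.ten G) (F.ten G).sh := ⟨_, _, KD.isIso_sh_tensor F.K G.K⟩

theorem mem_kos_ann (a : R) : a ∈ (kos a).ann := KD.mem_kos_ann a

variable [IsNoetherianRing R] {ℓ : LenFun R}

theorem chi_ten_cone {F G : Cx R} {f : F.V →ₗ[R] G.V} (hf : KD.IsHom F.K G.K f)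
    (hg : (KD.cone hf).IsGr) (Z : Cx R)
    (h1 : Small ℓ (F.ten Z).ann) (h2 : Small ℓ (G.ten Z).ann) :
    ((cone hf hg).ten Z).chi ℓ = (G.ten Z).chi ℓ - (F.ten Z).chi ℓ :=
  KD.chi_tensor_cone hf Z.K h1 h2

end Cx

/-- abstract cyclic Adams operations -/
structure AdamsOp (R : Type u) [CommRing R] (n : ℕ) where
  /-- the invariants -/
  A : Cx R → Cx R
  /-- the full power -/
  B : Cx R → Cx R
  annA : ∀ F, F.ann ≤ (A F).ann
  annB : ∀ F, F.ann ≤ (B F).ann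
  add : ∀ (ℓ : LenFun R) (F G : Cx R) (f : F.V →ₗ[R] G.V) (hf : KD.IsHom F.K G.K f)
    (hg : (KD.cone hf).IsGr), Small ℓ F.ann → Small ℓ G.ann →
    (n : ℤ) * (A (Cx.cone hf hg)).chi ℓ - (B (Cx.cone hf hg)).chi ℓ =
      ((n : ℤ) * (A G).chi ℓ - (B G).chi ℓ) + ((n : ℤ) * (A F.sh).chi ℓ - (B F.sh).chi ℓ)
  mult : ∀ (ℓ : LenFun R) (F G X : Cx R), Small ℓ (F.ann ⊔ G.ann ⊔ X.ann) →
    ((n : ℤ) - 1) * ((n : ℤ) * ((A (F.ten G)).ten X).chi ℓ - ((B (F.ten G)).ten X).chi ℓ) =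
      (n : ℤ) ^ 2 * (((A F).ten (A G)).ten X).chi ℓ - (n : ℤ) * (((A F).ten (B G)).ten X).chi ℓ
        - (n : ℤ) * (((B F).ten (A G)).ten X).chi ℓ + (((B F).ten (B G)).ten X).chi ℓ
  kos : ∀ (ℓ : LenFun R) (a : R) (F X : Cx R), Small ℓ ((Cx.kos a).ann ⊔ F.ann ⊔ X.ann) →
    ((n : ℤ) * ((A ((Cx.kos a).ten F)).ten X).chi ℓ - ((B ((Cx.kos a).ten F)).ten X).chi ℓ) =
      (n : ℤ) * ((n : ℤ) * ((A F).ten ((Cx.kos a).ten X)).chi ℓ -
        ((B F).ten ((Cx.kos a).ten X)).chi ℓ)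
  unit : ∀ (ℓ : LenFun R) (X : Cx R), (n : ℤ) * ((A (Cx.one R)).ten X).chi ℓ -
    ((B (Cx.one R)).ten X).chi ℓ = ((n : ℤ) - 1) * X.chi ℓ
  zero : ∀ (ℓ : LenFun R) (F : Cx R), (1 : R) ∈ F.ann → (n : ℤ) * (A F).chi ℓ - (B F).chi ℓ = 0

variable (R : Type u) [CommRing R] [IsNoetherianRing R]

/-- the operation for `n = 2` -/
noncomputable def adams2 [Invertible ((2 : ℕ) : R)] : AdamsOp R 2 where
  A F := ⟨F.V ⊗[R] F.V, KD.A2 F.K, F.gr.A2⟩
  B F := F.ten F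
  annA F := KD.A2_ann F.K
  annB F := KD.ann_left F.K F.K
  add := by
    intro ℓ F G f hf hg h1 h2
    obtain ⟨a1, a2, ha⟩ := KD.isIso_A2 (KD.isIso_cone_sub hf)
    obtain ⟨b1, b2, hb⟩ := KD.isIso_A2 (KD.isIso_cone_quo hf)
    have key := KD.add2 (ℓ := ℓ) (KD.cone_stab hf)
      (h2.mono (KD.ann_of_iso (KD.isIso_cone_sub hf).symm))
      (h1.mono ((KD.sh_ann F.K).ge.trans (KD.ann_of_iso (KD.isIso_cone_quo hf).symm)))
    rw [KD.chi_congr ha, KD.chi_congr hb,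
      KD.chi_congr ((KD.isIso_cone_sub hf).tensor (KD.isIso_cone_sub hf)),
      KD.chi_congr ((KD.isIso_cone_quo hf).tensor (KD.isIso_cone_quo hf))] at key
    exact key
  mult := fun ℓ F G X h => KD.mul2 F.K G.K X.K h
  kos := fun ℓ a F X h => KD.kos2 a F.K X.K h
  unit := by
    intro ℓ X
    have h1 : ((KD.A2 (KD.one R)).tensor X.K).chi ℓ = X.K.chi ℓ := by
      rw [KD.A2_one, KD.chi_T2_one]
    have h2 := KD.chi_T2_one X.K ℓ
    show ((2 : ℕ) : ℤ) * ((KD.A2 (KD.one R)).tensor X.K).chi ℓ -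
      (((KD.one R).tensor (KD.one R)).tensor X.K).chi ℓ = (((2 : ℕ) : ℤ) - 1) * X.K.chi ℓ
    rw [h1, h2]
    ring
  zero := by
    intro ℓ F h
    have h1 : (KD.A2 F.K).chi ℓ = 0 := KD.chi_eq_zero_of_one_mem _ (KD.A2_ann F.K h)
    have h2 : (F.K.tensor F.K).chi ℓ = 0 := KD.chi_eq_zero_of_one_mem _ (KD.ann_left F.K F.K h)
    show ((2 : ℕ) : ℤ) * (KD.A2 F.K).chi ℓ - (F.K.tensor F.K).chi ℓ = 0
    rw [h1, h2]
    ring

/-- the operation for `n = 3` -/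
noncomputable def adams3 [Invertible ((3 : ℕ) : R)] : AdamsOp R 3 where
  A F := ⟨F.V ⊗[R] (F.V ⊗[R] F.V), KD.A3 F.K, F.gr.A3⟩
  B F := F.ten (F.ten F)
  annA F := KD.A3_ann F.K
  annB F := KD.ann_left F.K _
  add := by
    intro ℓ F G f hf hg h1 h2
    obtain ⟨a1, a2, ha⟩ := KD.isIso_A3 (KD.isIso_cone_sub hf)
    obtain ⟨b1, b2, hb⟩ := KD.isIso_A3 (KD.isIso_cone_quo hf)
    have key := KD.add3 (ℓ := ℓ) (KD.cone_stab hf)
      (h2.mono (KD.ann_of_iso (KD.isIso_cone_sub hf).symm))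
      (h1.mono ((KD.sh_ann F.K).ge.trans (KD.ann_of_iso (KD.isIso_cone_quo hf).symm)))
    rw [KD.chi_congr ha, KD.chi_congr hb,
      KD.chi_congr ((KD.isIso_cone_sub hf).tensor ((KD.isIso_cone_sub hf).tensor
        (KD.isIso_cone_sub hf))),
      KD.chi_congr ((KD.isIso_cone_quo hf).tensor ((KD.isIso_cone_quo hf).tensor
        (KD.isIso_cone_quo hf)))] at key
    exact key
  mult := fun ℓ F G X h => KD.mul3 F.K G.K X.K h
  kos := fun ℓ a F X h => KD.kos3 a F.K X.K h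
  unit := by
    intro ℓ X
    have h1 : ((KD.A3 (KD.one R)).tensor X.K).chi ℓ = X.K.chi ℓ := by
      rw [KD.A3_one, KD.chi_T3_one]
    have h2 := KD.chi_T3_one X.K ℓ
    show ((3 : ℕ) : ℤ) * ((KD.A3 (KD.one R)).tensor X.K).chi ℓ -
      (((KD.one R).tensor ((KD.one R).tensor (KD.one R))).tensor X.K).chi ℓ =
        (((3 : ℕ) : ℤ) - 1) * X.K.chi ℓ
    rw [h1, h2]
    ring
  zero := by
    intro ℓ F h
    have h1 : (KD.A3 F.K).chi ℓ = 0 := KD.chi_eq_zero_of_one_mem _ (KD.A3_ann F.K h)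
    have h2 : (F.K.tensor (F.K.tensor F.K)).chi ℓ = 0 :=
      KD.chi_eq_zero_of_one_mem _ (KD.ann_left F.K _ h)
    show ((3 : ℕ) : ℤ) * (KD.A3 F.K).chi ℓ - (F.K.tensor (F.K.tensor F.K)).chi ℓ = 0
    rw [h1, h2]
    ring

end Groth.Agent.Books.AdKD
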