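import Groth.Agent.Books.AdFilt

set_option autoImplicit false
universe u

/-!
# Cyclic actions and averaging
-/

open TensorProduct

namespace Groth.Agent.Books.AdKD

open Groth.Agent.Books.AdLen

namespace KD

variable {R : Type u} [CommRing R] {V W U : Type u} [AddCommGroup V] [Module R V]
  [AddCommGroup W] [Module R W] [AddCommGroup U] [Module R U]

/-- isomorphisms between cuts -/
theorem isIso_cut {K : KD R V} {L : KD R W} {a : V →ₗ[R] V} {b : W →ₗ[R] W}
    {f : V →ₗ[R] W} {g : W →ₗ[R] V} (ha : K.Cen a) (hb : L.Cen b) (hf : IsHom K L f)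
    (hg : IsHom L K g) (h1 : ∀ x, a (g (b (f (a x)))) = a (K.pi x))
    (h2 : ∀ y, b (f (a (g (b y)))) = b (L.pi y)) :
    IsIso (cutG ha.good) (cutG hb.good) (b ∘ₗ f ∘ₗ a) (a ∘ₗ g ∘ₗ b) := by
  refine ⟨⟨?_, ?_⟩, ⟨?_, ?_⟩, ?_, ?_⟩
  · intro x
    rw [ha.cut_d, hb.cut_d]
    simp only [LinearMap.comp_apply, ha.ee]
    rw [ha.ed, hf.fd, hb.ed, hb.ed, hb.ee]
  · intro c x
    rw [cutG_p, cutG_p]
    simp only [LinearMap.comp_apply, hf.fp, ha.ep, hb.ep, ha.ee, hb.ee]
  · intro x
    rw [ha.cut_d, hb.cut_d]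
    simp only [LinearMap.comp_apply, hb.ee]
    rw [hb.ed, hg.fd, ha.ed, ha.ed, ha.ee]
  · intro c x
    rw [cutG_p, cutG_p]
    simp only [LinearMap.comp_apply, hg.fp, ha.ep, hb.ep, ha.ee, hb.ee]
  · intro x
    rw [cutG_pi, ← ha.good.epi]
    simp only [LinearMap.comp_apply, ha.ee, hb.ee]
    rw [h1, K.pi_pi]
  · intro x
    rw [cutG_pi, ← hb.good.epi]
    simp only [LinearMap.comp_apply, ha.ee, hb.ee]
    rw [h2, L.pi_pi]

/-- a cyclic operator of order `n` -/
structure Cyc (n : ℕ) (K : KD R V) (σ : Module.End R V) : Prop where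
  hom : IsHom K K σ
  spi : ∀ x, σ (K.pi x) = σ x
  sn : ∀ x, (σ ^ n) x = K.pi x

variable {n : ℕ} {K : KD R V} {σ : Module.End R V}

theorem IsHom.pow (h : IsHom K K σ) (i : ℕ) : IsHom K K (σ ^ i : Module.End R V) := by
  induction i with
  | zero => exact IsHom.id K
  | succ i ih => 
    rw [pow_succ']
    exact ih.comp h

/-- averaging operator -/
noncomputable def av (n : ℕ) [Invertible (n : R)] (σ : Module.End R V) : Module.End R V :=
  ⅟(n : R) • ∑ i ∈ Finset.range n, σ ^ (i + 1)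

theorem av_apply [Invertible (n : R)] (x : V) :
    av n σ x = ⅟(n : R) • ∑ i ∈ Finset.range n, (σ ^ (i + 1)) x := by
  simp [av]

theorem smul_av [Invertible (n : R)] (x : V) :
    (n : R) • av n σ x = ∑ i ∈ Finset.range n, (σ ^ (i + 1)) x := by
  rw [av_apply, smul_smul, mul_invOf_self, one_smul]

namespace Cyc

variable (h : Cyc n K σ)
include h

theorem pow_succ_n (x : V) : (σ ^ (n + 1)) x = σ x := by
  rw [pow_succ', Module.End.mul_apply, h.sn, h.spi]

theorem sum_shift (x : V) :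
    ∑ i ∈ Finset.range n, (σ ^ (i + 1 + 1)) x = ∑ i ∈ Finset.range n, (σ ^ (i + 1)) x := by
  have e1 := Finset.sum_range_succ (fun i => (σ ^ (i + 1)) x) n
  have e2 := Finset.sum_range_succ' (fun i => (σ ^ (i + 1)) x) n
  rw [e1] at e2
  rw [h.pow_succ_n, zero_add, pow_one] at e2
  exact (add_right_cancel e2).symm

variable [Invertible (n : R)]

theorem s_av (x : V) : σ (av n σ x) = av n σ x := by
  rw [av_apply, map_smul, map_sum]
  congr 1
  rw [← h.sum_shift]
  exact Finset.sum_congr rfl fun i _ => by rw [pow_succ' σ (i + 1), Module.End.mul_apply]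

theorem av_s (x : V) : av n σ (σ x) = av n σ x := by
  rw [av_apply, av_apply]
  congr 1
  rw [← h.sum_shift x]
  exact Finset.sum_congr rfl fun i _ => by rw [pow_succ σ (i + 1), Module.End.mul_apply]

theorem pow_av (i : ℕ) (x : V) : (σ ^ i) (av n σ x) = av n σ x := by
  induction i with
  | zero => simp
  | succ i ih => rw [pow_succ', Module.End.mul_apply, ih, h.s_av]

theorem av_pow (i : ℕ) (x : V) : av n σ ((σ ^ i) x) = av n σ x := by
  induction i generalizing x with
  | zero => simp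
  | succ i ih => rw [pow_succ, Module.End.mul_apply, ih, h.av_s]

theorem av_pi (x : V) : av n σ (K.pi x) = av n σ x := by
  rw [← h.sn, h.av_pow]

theorem pi_av (x : V) : K.pi (av n σ x) = av n σ x := by
  rw [← h.sn, h.pow_av]

theorem av_av (x : V) : av n σ (av n σ x) = av n σ x := by
  conv_lhs => rw [av_apply]
  rw [Finset.sum_congr rfl fun i _ => h.pow_av (i + 1) x, Finset.sum_const, Finset.card_range,
    ← Nat.cast_smul_eq_nsmul R, smul_smul, invOf_mul_self, one_smul]

theorem isHom_av : IsHom K K (av n σ) := by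
  constructor
  · intro x
    rw [av_apply, av_apply, map_smul, map_sum]
    congr 1
    exact Finset.sum_congr rfl fun i _ => (h.hom.pow (i + 1)).fd x
  · intro a x
    rw [av_apply, av_apply, map_smul, map_sum]
    congr 1
    exact Finset.sum_congr rfl fun i _ => (h.hom.pow (i + 1)).fp a x

theorem cen_av : K.Cen (av n σ) := ⟨h.av_av, h.isHom_av.fp, h.isHom_av.fd⟩

/-- Key lemma: induced action. -/
theorem iso_ind {a : V →ₗ[R] V} (ha : K.Cen a)
    (ho : ∀ i, 0 < i → i < n → ∀ x, a ((σ ^ i) (a x)) = 0)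
    (hs : ∀ x, ∑ i ∈ Finset.range n, (σ ^ (n - i)) (a ((σ ^ i) x)) = K.pi x) :
    IsIso (cutG h.cen_av.good) (cutG ha.good) (a ∘ₗ LinearMap.id ∘ₗ av n σ)
      (av n σ ∘ₗ ((n : R) • LinearMap.id) ∘ₗ a) := by
  refine isIso_cut h.cen_av ha (IsHom.id K) ((IsHom.id K).smul _) ?_ ?_
  · intro x
    simp only [LinearMap.smul_apply, LinearMap.id_apply, map_smul]
    have e2 : (n : R) • av n σ (a (av n σ x)) =
        ∑ i ∈ Finset.range n, av n σ ((σ ^ (n - i)) (a ((σ ^ i) (av n σ x)))) := by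
      rw [Finset.sum_congr rfl fun i _ => by rw [h.av_pow, h.pow_av], Finset.sum_const,
        Finset.card_range, Nat.cast_smul_eq_nsmul]
    rw [e2, ← map_sum, hs, h.av_pi, h.av_av, h.av_pi]
  · intro x
    simp only [LinearMap.smul_apply, LinearMap.id_apply]
    rw [map_smul (av n σ), smul_av, map_sum]
    rcases n with _ | m
    · have h0 := hs x
      rw [Finset.range_zero, Finset.sum_empty] at h0
      rw [← h0]
      simp
    · rw [Finset.sum_range_succ, Finset.sum_eq_zero, zero_add, h.sn, ← ha.good.epi, ha.ee]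
      intro i hi
      exact ho (i + 1) (Nat.succ_pos _) (by have := Finset.mem_range.mp hi; omega) x

omit [Invertible (n : R)] in
theorem pi_s (x : V) : K.pi (σ x) = σ x := by
  rw [← h.hom.pi, h.spi]

omit [Invertible (n : R)] in
theorem pi_pow {i : ℕ} (hi : 0 < i) (x : V) : K.pi ((σ ^ i) x) = (σ ^ i) x := by
  obtain ⟨j, rfl⟩ := Nat.exists_eq_succ_of_ne_zero hi.ne'
  rw [pow_succ', Module.End.mul_apply, h.pi_s]

omit [Invertible (n : R)] in
theorem pow_pi {i : ℕ} (hi : 0 < i) (x : V) : (σ ^ i) (K.pi x) = (σ ^ i) x := by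
  rw [(h.hom.pow i).pi, h.pi_pow hi]

omit [Invertible (n : R)] in
theorem pow_pow {i j : ℕ} (hij : i + j = n) (x : V) : (σ ^ i) ((σ ^ j) x) = K.pi x := by
  rw [← Module.End.mul_apply, ← pow_add, hij, h.sn]

omit [Invertible (n : R)] h in
/-- the conjugates of an idempotent -/
def conj (n : ℕ) (σ : Module.End R V) (a : V →ₗ[R] V) (i : ℕ) : V →ₗ[R] V :=
  if i < n then (σ ^ (n - i) : Module.End R V) ∘ₗ a ∘ₗ (σ ^ i : Module.End R V) else 0

omit [Invertible (n : R)] h in
theorem conj_apply {a : V →ₗ[R] V} {i : ℕ} (hi : i < n) (x : V) :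
    conj n σ a i x = (σ ^ (n - i)) (a ((σ ^ i) x)) := by
  rw [conj, if_pos hi]; rfl

theorem conj_cen {a : V →ₗ[R] V} (ha : K.Cen a) (i : ℕ) : K.Cen (conj n σ a i) := by
  by_cases hi : i < n
  · refine ⟨?_, ?_, ?_⟩
    · intro x
      rw [conj_apply hi, conj_apply hi, h.pow_pow (Nat.add_sub_cancel' hi.le), ha.good.epi, ha.ee,
        h.pow_pi (by omega)]
    · intro b x
      rw [conj_apply hi, conj_apply hi, (h.hom.pow i).fp, ha.ep, (h.hom.pow _).fp]
    · intro x
      rw [conj_apply hi, conj_apply hi, (h.hom.pow i).fd, ha.ed, (h.hom.pow _).fd]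
  · rw [conj, if_neg hi]
    exact ⟨fun x => rfl, fun b x => by simp, fun x => by simp⟩

theorem filt_conj {a : V →ₗ[R] V} (ha : K.Cen a)
    (ho : ∀ i, 0 < i → i < n → ∀ x, a ((σ ^ i) (a x)) = 0)
    (hs : ∀ x, ∑ i ∈ Finset.range n, (σ ^ (n - i)) (a ((σ ^ i) x)) = K.pi x) :
    K.Filt n (conj n σ a) := by
  have orth : ∀ i j, i ≠ j → ∀ x, conj n σ a i (conj n σ a j x) = 0 := by
    intro i j hij x
    by_cases hi : i < n
    · by_cases hj : j < n
      · rw [conj_apply hi, conj_apply hj]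
        rcases lt_or_gt_of_ne hij with h1 | h1
        · have e1 : (σ ^ i) ((σ ^ (n - j)) (a ((σ ^ j) x))) = (σ ^ (n - (j - i))) (a ((σ ^ j) x)) := by
            rw [← Module.End.mul_apply, ← pow_add]
            congr 2
            omega
          rw [e1, ho _ (by omega) (by omega), map_zero]
        · have e1 : ∀ y, (σ ^ i) ((σ ^ (n - j)) y) = (σ ^ (i - j)) (K.pi y) := by
            intro y
            rw [← h.sn, ← Module.End.mul_apply, ← Module.End.mul_apply, ← pow_add, ← pow_add]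
            congr 2
            omega
          rw [e1, h.pow_pi (by omega), ho _ (by omega) (by omega), map_zero]
      · have : conj n σ a j = 0 := by rw [conj, if_neg hj]
        rw [this]; simp
    · have : conj n σ a i = 0 := by rw [conj, if_neg hi]
      rw [this]; simp
  refine ⟨fun i => (h.conj_cen ha i).good, orth, ?_, ?_⟩
  · intro i j hij x
    rw [(h.conj_cen ha j).ed, orth j i hij.ne', map_zero]
  · intro x
    have e2 := hs (K.pi x)
    rw [K.pi_pi] at e2
    rw [← e2]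
    refine Finset.sum_congr rfl fun i hi => ?_
    rw [conj_apply (Finset.mem_range.mp hi), e2]

theorem iso_conj {a : V →ₗ[R] V} (ha : K.Cen a) {i : ℕ} (hi : i < n) :
    IsIso (cutG (h.conj_cen ha i).good) (cutG ha.good)
      (a ∘ₗ (σ ^ i : Module.End R V) ∘ₗ conj n σ a i)
      (conj n σ a i ∘ₗ (σ ^ (n - i) : Module.End R V) ∘ₗ a) := by
  refine isIso_cut (h.conj_cen ha i) ha (h.hom.pow i) (h.hom.pow (n - i)) ?_ ?_
  · intro x
    rw [← conj_apply hi, (h.conj_cen ha i).ee, (h.conj_cen ha i).ee,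
      (h.conj_cen ha i).good.epi, conj_apply hi, h.pi_pow (by omega)]
  · intro x
    rw [conj_apply hi, h.pow_pow (Nat.add_sub_cancel' hi.le), h.pow_pow (Nat.add_sub_cancel' hi.le)]
    simp only [ha.good.epi, ha.ee, K.pi_pi]

/-- Euler characteristics for an induced action. -/
theorem chi_ind {a : V →ₗ[R] V} (ha : K.Cen a)
    (ho : ∀ i, 0 < i → i < n → ∀ x, a ((σ ^ i) (a x)) = 0)
    (hs : ∀ x, ∑ i ∈ Finset.range n, (σ ^ (n - i)) (a ((σ ^ i) x)) = K.pi x)
    {ℓ : LenFun R} (hF : (cutG ha.good).Fin ℓ) :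
    K.Fin ℓ ∧ (cutG h.cen_av.good).Fin ℓ ∧
      (n : ℤ) * (cutG h.cen_av.good).chi ℓ = K.chi ℓ := by
  have h1 := h.iso_ind ha ho hs
  have h2 := (h.filt_conj ha ho hs).chi_eq (ℓ := ℓ) (fun i hi => by
    rw [fin_congr (h.iso_conj ha hi)]; exact hF)
  refine ⟨h2.1, (fin_congr h1 ℓ).mpr hF, ?_⟩
  rw [h2.2, Finset.sum_congr rfl (fun i hi => chi_congr (h.iso_conj ha (Finset.mem_range.mp hi)) ℓ),
    Finset.sum_const, Finset.card_range, chi_congr h1, nsmul_eq_mul]

end Cyc

end KD

end Groth.Agent.Books.AdKD
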