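import Groth.Agent.Books.AdRes
import Mathlib.RingTheory.Ideal.AssociatedPrime.Finiteness

set_option autoImplicit false
universe u

/-!
# Dévissage for complexes
-/

open TensorProduct

namespace Groth.Agent.Books.AdKD

open Groth.Agent.Books.AdLen

namespace KD

variable {R : Type u} [CommRing R] {V W U : Type u} [AddCommGroup V] [Module R V]
  [AddCommGroup W] [Module R W] [AddCommGroup U] [Module R U]
  {M : Type u} [AddCommGroup M] [Module R M]

section cone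

variable {K : KD R V} {N : ℕ} {g : ℕ → V →ₗ[R] V} {n : ℕ} {ε : V →ₗ[R] M}
  {L : KD R W} {N' : ℕ} {g' : ℕ → W →ₗ[R] W}
  {M' : Type u} [AddCommGroup M'] [Module R M'] {θ : Zg L g' n →ₗ[R] M'}
  {φ : M →ₗ[R] M'} {f : V →ₗ[R] W}

theorem cone_exact_above (hg : K.Gr N g) (h : Res K g n ε) (hg' : L.Gr N' g')
    (hex : ∀ i, n < i → Zg L g' i ≤ Bg L g' i)
    (hθB : ∀ z : Zg L g' n, θ z = 0 ↔ (z : W) ∈ Bg L g' n) (hφ : Function.Injective φ)
    (hf : IsHom K L f) (hfg : ∀ i x, f (g i x) = g' i (f x))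
    (hfφ : ∀ x (hx : f (g n x) ∈ Zg L g' n), θ ⟨f (g n x), hx⟩ = φ (ε x))
    (i : ℕ) (hi : n < i) :
    Zg (cone hf) (fun i => LinearMap.prodMap (g' i) (Gr.shg g i)) i ≤
      Bg (cone hf) (fun i => LinearMap.prodMap (g' i) (Gr.shg g i)) i := by
  rintro ⟨w, v⟩ ⟨h1, h2⟩
  rw [cone_d] at h1
  simp only [LinearMap.prodMap_apply, Prod.mk.injEq] at h1 h2
  obtain ⟨j, rfl⟩ : ∃ j, i = j + 1 := ⟨i - 1, by omega⟩
  rw [Gr.shg_succ] at h2
  obtain ⟨d1, d2⟩ := Prod.mk_eq_zero.mp h1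
  obtain ⟨g1, g2⟩ := h2
  rw [neg_eq_zero] at d2
  have hpi : K.pi v = v := by rw [← g2, hg.pi_g]
  rw [hpi] at d1
  have hv : v ∈ Bg K g j := by
    rcases Nat.lt_or_ge n j with hj | hj
    · exact h.ex j hj ⟨d2, g2⟩
    · have hjn : j = n := by omega
      subst hjn
      apply h.ker v g2
      have hz : f (g j v) ∈ Bg L g' j := by
        rw [g2]
        refine ⟨-w, by rw [map_neg, g1], ?_⟩
        rw [map_neg]
        exact neg_eq_of_add_eq_zero_right d1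
      have h3 := hfφ v (hg'.Bg_le_Zg j hz)
      rw [(hθB _).mpr hz] at h3
      apply hφ
      rw [← h3, map_zero]
  obtain ⟨v', hv1, hv2⟩ := hv
  have hpi' : K.pi v' = v' := by rw [← hv1, hg.pi_g]
  have hw' : w + f v' ∈ Zg L g' (j + 1) := by
    refine ⟨?_, ?_⟩
    · rw [map_add, ← hf.fd, hv2, d1]
    · rw [map_add, ← hfg, hv1, g1]
  obtain ⟨w'', hw1, hw2⟩ := hex _ hi hw'
  refine ⟨(w'', -v'), ?_, ?_⟩
  · simp only [LinearMap.prodMap_apply]
    rw [Gr.shg_succ, map_neg, hv1, hw1]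
  · rw [cone_d]
    simp only []
    rw [map_neg, map_neg, map_neg, hpi', hw2, hv2, neg_neg, add_neg_cancel_right]

theorem cone_theta (hg : K.Gr N g) (h : Res K g n ε) (hg' : L.Gr N' g')
    (hθ : Function.Surjective θ) (hθB : ∀ z : Zg L g' n, θ z = 0 ↔ (z : W) ∈ Bg L g' n)
    (hf : IsHom K L f) (hfg : ∀ i x, f (g i x) = g' i (f x))
    (hfφ : ∀ x (hx : f (g n x) ∈ Zg L g' n), θ ⟨f (g n x), hx⟩ = φ (ε x))
    {M'' : Type u} [AddCommGroup M''] [Module R M''] {ψ : M' →ₗ[R] M''}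
    (hψ : Function.Surjective ψ) (hφψ : Function.Exact φ ψ) :
    ∃ θ' : Zg (cone hf) (fun i => LinearMap.prodMap (g' i) (Gr.shg g i)) n →ₗ[R] M'',
      Function.Surjective θ' ∧ ∀ z, θ' z = 0 ↔
        (z : W × V) ∈ Bg (cone hf) (fun i => LinearMap.prodMap (g' i) (Gr.shg g i)) n := by
  have hv0 : ∀ x ∈ Zg (cone hf) (fun i => LinearMap.prodMap (g' i) (Gr.shg g i)) n,
      x.2 = 0 := by
    rintro ⟨w, v⟩ ⟨h1, h2⟩
    simp only [LinearMap.prodMap_apply, Prod.mk.injEq] at h2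
    rw [← h2.2]
    rcases n with _ | n
    · rfl
    · exact h.low n (Nat.lt_succ_self n) v
  have hfst : ∀ x ∈ Zg (cone hf) (fun i => LinearMap.prodMap (g' i) (Gr.shg g i)) n,
      LinearMap.fst R W V x ∈ Zg L g' n := by
    intro x hx
    have h0 := hv0 x hx
    obtain ⟨h1, h2⟩ := hx
    rw [cone_d, h0] at h1
    simp only [map_zero, add_zero, neg_zero] at h1
    obtain ⟨d1, -⟩ := Prod.mk_eq_zero.mp h1
    exact ⟨d1, congrArg Prod.fst h2⟩
  refine ⟨ψ ∘ₗ θ ∘ₗ (LinearMap.fst R W V).restrict hfst, ?_, ?_⟩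
  · intro y
    obtain ⟨m, rfl⟩ := hψ y
    obtain ⟨⟨z, hz⟩, rfl⟩ := hθ m
    refine ⟨⟨(z, 0), ?_, ?_⟩, ?_⟩
    · rw [cone_d]; simp [hz.1]
    · simp [hz.2]
    · rfl
  · rintro ⟨⟨w, v⟩, hx⟩
    have h0 : v = 0 := hv0 _ hx
    have hw : w ∈ Zg L g' n := hfst _ hx
    have e1 : (ψ ∘ₗ θ ∘ₗ (LinearMap.fst R W V).restrict hfst) ⟨(w, v), hx⟩ = ψ (θ ⟨w, hw⟩) := rfl
    rw [e1, hφψ]
    constructor
    · rintro ⟨m, hm⟩
      obtain ⟨v', rfl⟩ := h.surj m
      have hz : f (g n v') ∈ Zg L g' n := by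
        refine ⟨?_, ?_⟩
        · rw [← hf.fd, hg.low_d h.low, map_zero]
        · rw [hfg, hg'.oi.ee]
      rw [← hfφ v' hz, eq_comm, ← sub_eq_zero, ← map_sub, hθB] at hm
      obtain ⟨w', hw1, hw2⟩ := hm
      have hw2' : L.d w' = w - f (g n v') := hw2
      refine ⟨(w', g n v'), ?_, ?_⟩
      · simp only [LinearMap.prodMap_apply]
        rw [Gr.shg_succ, hg.oi.ee, hw1]
      · rw [cone_d]
        simp only []
        rw [hg.pi_g, hw2', sub_add_cancel, hg.low_d h.low, h0, neg_zero]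
    · rintro ⟨⟨w', v'⟩, h1, h2⟩
      simp only [LinearMap.prodMap_apply, Prod.mk.injEq] at h1
      rw [Gr.shg_succ] at h1
      rw [cone_d] at h2
      have h3 : L.d w' + f (K.pi v') = w := congrArg Prod.fst h2
      have hpi : K.pi v' = v' := by rw [← h1.2, hg.pi_g]
      rw [hpi] at h3
      have hz : f (g n v') ∈ Zg L g' n := by
        refine ⟨?_, ?_⟩
        · rw [← hf.fd, hg.low_d h.low, map_zero]
        · rw [hfg, hg'.oi.ee]
      refine ⟨ε v', ?_⟩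
      rw [← hfφ v' hz, eq_comm, ← sub_eq_zero, ← map_sub, hθB]
      refine ⟨w', h1.1, ?_⟩
      show L.d w' = w - f (g n v')
      rw [h1.2, ← h3, add_sub_cancel_right]

end cone

/-- the cone of the identity is contractible -/
theorem cone_id_one_mem (K : KD R V) : (1 : R) ∈ (cone (IsHom.id K)).ann := by
  refine ⟨LinearMap.inr R V V ∘ₗ K.pi ∘ₗ LinearMap.fst R V V, ?_, ?_⟩
  · intro a x
    simp [cone_p, K.pi_p, K.p_pi]
  · intro x
    rw [one_smul, cone_pi]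
    ext <;> simp [cone_d, K.pi_d, K.pi_pi, K.d_pi]

end KD

end Groth.Agent.Books.AdKD
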