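import Groth.Agent.Books.AdDev

set_option autoImplicit false
universe u

/-!
# Dévissage for complexes, II
-/

open TensorProduct

namespace Groth.Agent.Books.AdKD

open Groth.Agent.Books.AdLen

namespace KD

variable {R : Type u} [CommRing R] {V W U : Type u} [AddCommGroup V] [Module R V]
  [AddCommGroup W] [Module R W] [AddCommGroup U] [Module R U]
  {M : Type u} [AddCommGroup M] [Module R M]

theorem Gr.smul_mem_Bg {K : KD R V} {N : ℕ} {g : ℕ → V →ₗ[R] V} (h : K.Gr N g) {y : R}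
    (hy : y ∈ K.ann) {n : ℕ} {z : V} (hz : z ∈ Zg K g n) : y • z ∈ Bg K g n := by
  obtain ⟨s, -, h2⟩ := hy
  have h3 := h2 z
  have hpi : K.pi z = z := by rw [← hz.2, h.pi_g]
  rw [hz.1, map_zero, add_zero, hpi] at h3
  refine ⟨g (n + 1) (s z), h.oi.ee _ _, ?_⟩
  rw [← h.gd, h3, map_smul, hz.2]

/-- the augmentation as a description of homology -/
theorem Res.theta {K : KD R V} {N : ℕ} {g : ℕ → V →ₗ[R] V} (hg : K.Gr N g) {n : ℕ}
    {ε : V →ₗ[R] M} (h : Res K g n ε) :
    Function.Surjective (ε ∘ₗ (Zg K g n).subtype) ∧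
      ∀ z : Zg K g n, (ε ∘ₗ (Zg K g n).subtype) z = 0 ↔ (z : V) ∈ Bg K g n := by
  constructor
  · intro m
    obtain ⟨v, rfl⟩ := h.surj m
    exact ⟨⟨g n v, hg.low_d h.low v, hg.oi.ee _ _⟩, h.εg v⟩
  · rintro ⟨z, hz⟩
    constructor
    · intro h1
      exact h.ker z hz.2 h1
    · rintro ⟨w, -, hw⟩
      have hw' : K.d w = z := hw
      show ε z = 0
      rw [← hw', h.εd]

end KD

namespace Cx

variable {R : Type u} [CommRing R]

/-- `F` is a resolution of `M` -/
def IsRes (F : Cx R) (n : ℕ) (M : Type u) [AddCommGroup M] [Module R M] : Prop :=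
  ∃ (N : ℕ) (g : ℕ → F.V →ₗ[R] F.V) (ε : F.V →ₗ[R] M), F.K.Gr N g ∧ KD.Res F.K g n ε

theorem IsRes.shift {F : Cx R} {n : ℕ} {M : Type u} [AddCommGroup M] [Module R M]
    (h : F.IsRes n M) : F.sh.IsRes (n + 1) M := by
  obtain ⟨N, g, ε, hg, h⟩ := h
  exact ⟨_, _, ε, hg.sh, h.shift⟩

theorem IsRes.shiftN {F : Cx R} {M : Type u} [AddCommGroup M] [Module R M]
    (h : F.IsRes 0 M) (n : ℕ) : (Cx.sh^[n] F).IsRes n M := by
  induction n with
  | zero => exact h
  | succ n ih =>
    rw [Function.iterate_succ_apply']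
    exact ih.shift

/-- supported on `J` -/
def InJ (J : Ideal R) (F : Cx R) : Prop := ∃ m : ℕ, J ^ m ≤ F.ann

variable {J : Ideal R}

theorem InJ.sh {F : Cx R} (h : InJ J F) : InJ J F.sh := by
  obtain ⟨m, h⟩ := h
  exact ⟨m, by rwa [sh_ann]⟩

theorem InJ.shN {F : Cx R} (h : InJ J F) (n : ℕ) : InJ J (Cx.sh^[n] F) := by
  induction n with
  | zero => exact h
  | succ n ih =>
    rw [Function.iterate_succ_apply']
    exact ih.sh

theorem InJ.of_le {F G : Cx R} (h : InJ J F) (hFG : F.ann ≤ G.ann) : InJ J G := by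
  obtain ⟨m, h⟩ := h
  exact ⟨m, h.trans hFG⟩

theorem InJ.ten {F : Cx R} (h : InJ J F) (G : Cx R) : InJ J (F.ten G) :=
  h.of_le (le_sup_left.trans (ann_ten F G))

theorem InJ.cone {F G : Cx R} {f : F.V →ₗ[R] G.V} (hF : InJ J F) (hG : InJ J G)
    (hf : KD.IsHom F.K G.K f) (hg : (KD.cone hf).IsGr) : InJ J (Cx.cone hf hg) := by
  obtain ⟨m, h⟩ := hF
  obtain ⟨m', h'⟩ := hG
  refine ⟨m' + m, ?_⟩
  rw [pow_add]
  apply Ideal.mul_le.mpr
  intro z hz y hy
  exact KD.cone_ann hf (h hy) (h' hz)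

theorem IsRes.mem_ann {F : Cx R} {n : ℕ} {M : Type u} [AddCommGroup M] [Module R M]
    (h : F.IsRes n M) {y : R} (hy : ∀ m : M, y • m = 0) : y ∈ F.ann := by
  obtain ⟨N, g, ε, hg, h⟩ := h
  exact h.mem_ann hg hy

variable [IsNoetherianRing R] {μ : Cx R → ℤ}

/-- The dévissage theorem. -/
theorem dev
    (hcone : ∀ (F G : Cx R) (f : F.V →ₗ[R] G.V) (hf : KD.IsHom F.K G.K f)
      (hg : (KD.cone hf).IsGr), InJ J F → InJ J G → μ (Cx.cone hf hg) = μ G + μ F.sh)
    (hzero : ∀ F : Cx R, (1 : R) ∈ F.ann → μ F = 0)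
    (hprime : ∀ P : Ideal R, P.IsPrime → J ≤ P → ∃ F : Cx R, F.IsRes 0 (R ⧸ P) ∧ μ F = 0)
    (hres : ∀ (M : Type u) [AddCommGroup M] [Module R M] [Module.Finite R M],
      ∃ F : Cx R, F.IsRes 0 M)
    (F : Cx R) (hF : InJ J F) : μ F = 0 := by
  have hsh : ∀ F : Cx R, InJ J F → μ F.sh = - μ F := by
    intro F hF
    obtain ⟨N, g, hg⟩ := F.gr
    have hg' : (KD.cone (KD.IsHom.id F.K)).IsGr :=
      ⟨_, _, hg.cone hg (KD.IsHom.id F.K) (fun _ _ => rfl)⟩
    have h1 := hcone F F LinearMap.id (KD.IsHom.id F.K) hg' hF hF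
    rw [hzero (Cx.cone (KD.IsHom.id F.K) hg') (KD.cone_id_one_mem F.K)] at h1
    linarith
  have hshN : ∀ F : Cx R, InJ J F → μ F = 0 → ∀ n, μ (Cx.sh^[n] F) = 0 := by
    intro F hF h0 n
    induction n with
    | zero => exact h0
    | succ n ih =>
      rw [Function.iterate_succ_apply', hsh _ (hF.shN n), ih, neg_zero]
  -- the cone step
  have step : ∀ (n : ℕ) (F : Cx R), InJ J F → ∀ (N : ℕ) (g : ℕ → F.V →ₗ[R] F.V), F.K.Gr N g →
      (∀ i, n < i → KD.Zg F.K g i ≤ KD.Bg F.K g i) →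
      ∀ (M' : Type u) [AddCommGroup M'] [Module R M'] (θ : KD.Zg F.K g n →ₗ[R] M'),
      Function.Surjective θ → (∀ z, θ z = 0 ↔ (z : F.V) ∈ KD.Bg F.K g n) →
      ∀ (M : Type u) [AddCommGroup M] [Module R M] (φ : M →ₗ[R] M'), Function.Injective φ →
      ∀ (M'' : Type u) [AddCommGroup M''] [Module R M''] (ψ : M' →ₗ[R] M''),
      Function.Surjective ψ → Function.Exact φ ψ →
      ∀ G : Cx R, G.IsRes n M → InJ J G → μ G = 0 →
      (∀ C : Cx R, InJ J C → ∀ (N : ℕ) (g : ℕ → C.V →ₗ[R] C.V), C.K.Gr N g →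
        (∀ i, n < i → KD.Zg C.K g i ≤ KD.Bg C.K g i) →
        ∀ (θ : KD.Zg C.K g n →ₗ[R] M''), Function.Surjective θ →
        (∀ z, θ z = 0 ↔ (z : C.V) ∈ KD.Bg C.K g n) → μ C = 0) → μ F = 0 := by
    intro n F hF N g hg hex M' _ _ θ hθ hθB M _ _ φ hφ M'' _ _ ψ hψ hφψ G hG hGJ hG0 hC
    obtain ⟨NG, gG, ε, hgG, hG⟩ := hG
    obtain ⟨f, hf, hfg, hfφ⟩ := hG.lift hgG hg hex hθ hθB φ
    have hgr := hgG.cone hg hf hfg
    obtain ⟨θ', hθ', hθB'⟩ := KD.cone_theta hgG hG hg hθ hθB hf hfg hfφ hψ hφψ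
    have h1 := hcone G F f hf ⟨_, _, hgr⟩ hGJ hF
    have h2 := hC (Cx.cone hf ⟨_, _, hgr⟩) (hGJ.cone hF hf _) _ _ hgr
      (KD.cone_exact_above hgG hG hg hex hθB hφ hf hfg hfφ) θ' hθ' hθB'
    rw [h2, hsh G hGJ, hG0] at h1
    linarith
  -- main induction
  have main : ∀ (n : ℕ) (F : Cx R), InJ J F → ∀ (N : ℕ) (g : ℕ → F.V →ₗ[R] F.V), F.K.Gr N g →
      (∀ i, n ≤ i → KD.Zg F.K g i ≤ KD.Bg F.K g i) → μ F = 0 := by
    intro n
    induction n with
    | zero =>
      intro F hF N g hg hex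
      exact hzero F (hg.one_mem_ann fun i => hex i (Nat.zero_le i))
    | succ n ih =>
      have key : ∀ (M : Type u) [AddCommGroup M] [Module R M] [Module.Finite R M],
          ∀ F : Cx R, InJ J F → ∀ (N : ℕ) (g : ℕ → F.V →ₗ[R] F.V), F.K.Gr N g →
          (∀ i, n < i → KD.Zg F.K g i ≤ KD.Bg F.K g i) →
          ∀ (θ : KD.Zg F.K g n →ₗ[R] M), Function.Surjective θ →
          (∀ z, θ z = 0 ↔ (z : F.V) ∈ KD.Bg F.K g n) → μ F = 0 := by
        intro M _ _ hM
        induction hM using IsNoetherianRing.induction_on_isQuotientEquivQuotientPrime R with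
        | subsingleton M =>
          intro F hF N g hg hex θ hθ hθB
          refine ih F hF N g hg (fun i hi => ?_)
          rcases Nat.lt_or_ge n i with h | h
          · exact hex i h
          · have : i = n := by omega
            subst this
            intro z hz
            exact (hθB ⟨z, hz⟩).mp (Subsingleton.elim _ _)
        | quotient M p e =>
          intro F hF N g hg hex θ hθ hθB
          have hJp : J ≤ p.1 := by
            obtain ⟨m, hm⟩ := hF
            have : J ^ m ≤ p.1 := by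
              intro y hy
              obtain ⟨z, hz⟩ := hθ (e.symm 1)
              have h1 : (y • z : KD.Zg F.K g n).1 ∈ KD.Bg F.K g n := hg.smul_mem_Bg (hm hy) z.2
              rw [← hθB, map_smul, hz, ← map_smul, LinearEquiv.map_eq_zero_iff] at h1
              have h2 : Ideal.Quotient.mk p.1 y = 0 := by
                rw [← h1, Algebra.smul_def, mul_one]; rfl
              exact Ideal.Quotient.eq_zero_iff_mem.mp h2
            exact p.2.le_of_pow_le this
          obtain ⟨G, hG, hG0⟩ := hprime p.1 p.2 hJp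
          have hGJ : InJ J G := ⟨1, by
            rw [pow_one]
            intro y hy
            apply hG.mem_ann
            intro m
            obtain ⟨m, rfl⟩ := Ideal.Quotient.mk_surjective m
            rw [← Ideal.Quotient.mk_eq_mk, ← Submodule.Quotient.mk_smul,
              Submodule.Quotient.mk_eq_zero, smul_eq_mul]
            exact Ideal.mul_mem_right _ _ (hJp hy)⟩
          refine step n F hF N g hg hex M θ hθ hθB (R ⧸ p.1) e.symm.toLinearMap e.symm.injective
            PUnit.{u + 1} 0 (Function.surjective_to_subsingleton _)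
            ((LinearMap.exact_zero_iff_surjective _ _).mpr e.symm.surjective) (Cx.sh^[n] G)
            (hG.shiftN n) (hGJ.shN n) (hshN G hGJ hG0 n) ?_
          intro C hC N g hg hex θ hθ hθB
          refine ih C hC N g hg (fun i hi => ?_)
          rcases Nat.lt_or_ge n i with h | h
          · exact hex i h
          · have : i = n := by omega
            subst this
            intro z hz
            exact (hθB ⟨z, hz⟩).mp (Subsingleton.elim _ _)
        | exact N₁ N₂ N₃ φ ψ hφ hψ hφψ h₁ h₃ =>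
          intro F hF N g hg hex θ hθ hθB
          obtain ⟨G, hG⟩ := hres N₁
          have hGJ : InJ J G := by
            obtain ⟨m, hm⟩ := hF
            refine ⟨m, fun y hy => hG.mem_ann fun x => ?_⟩
            apply hφ
            rw [map_smul, map_zero]
            obtain ⟨z, hz⟩ := hθ (φ x)
            have h1 : (y • z : KD.Zg F.K g n).1 ∈ KD.Bg F.K g n := hg.smul_mem_Bg (hm hy) z.2
            rw [← hθB, map_smul, hz] at h1
            exact h1
          have hGn := hG.shiftN n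
          have hG0 : μ (Cx.sh^[n] G) = 0 := by
            obtain ⟨NG, gG, ε, hgG, hGr⟩ := hGn
            have := hGr.theta hgG
            exact h₁ _ (hGJ.shN n) NG gG hgG hGr.ex _ this.1 this.2
          exact step n F hF N g hg hex N₂ θ hθ hθB N₁ φ hφ N₃ ψ hψ hφψ (Cx.sh^[n] G) hGn
            (hGJ.shN n) hG0 h₃
      intro F hF N g hg hex
      refine key (KD.Zg F.K g n ⧸ (KD.Bg F.K g n).comap (KD.Zg F.K g n).subtype) F hF N g hg
        (fun i hi => hex i hi) (Submodule.mkQ _) (Submodule.mkQ_surjective _) ?_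
      intro z
      rw [Submodule.mkQ_apply, Submodule.Quotient.mk_eq_zero]
      rfl
  obtain ⟨N, g, hg⟩ := F.gr
  refine main N F hF N g hg (fun i hi z hz => ?_)
  rw [← hz.2, hg.g_of_le hi]
  exact Submodule.zero_mem _

end Cx

end Groth.Agent.Books.AdKD
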