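import Groth.Agent.Books.AdVan
import Groth.Agent.CalgA.RegProjDim

set_option autoImplicit false
universe u

/-!
# Existence of resolutions
-/

open TensorProduct

namespace Groth.Agent.Books.AdKD

open Groth.Agent.Books.AdLen Groth.Agent.CalgA.RegProjDim

namespace KD

variable {R : Type u} [CommRing R] {V W U : Type u} [AddCommGroup V] [Module R V]
  [AddCommGroup W] [Module R W] [AddCommGroup U] [Module R U]
  {M : Type u} [AddCommGroup M] [Module R M]

/-- a module placed in degree zero -/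
def conc (R : Type u) [CommRing R] (M : Type u) [AddCommGroup M] [Module R M] : KD R M where
  d := 0
  p a := if a then 0 else LinearMap.id
  pp a x := by cases a <;> simp
  pn a x := by cases a <;> simp
  dp a x := by simp
  dd x := rfl
  dpi x := by simp

@[simp] theorem conc_d (x : M) : (conc R M).d x = 0 := rfl
@[simp] theorem conc_p_true (x : M) : (conc R M).p true x = 0 := rfl
@[simp] theorem conc_p_false (x : M) : (conc R M).p false x = x := rfl
@[simp] theorem conc_pi (x : M) : (conc R M).pi x = x := by simp [pi_apply]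
@[simp] theorem conc_eps (x : M) : (conc R M).eps x = x := by simp [eps_apply]

/-- the grading in degree zero -/
def cg (i : ℕ) : M →ₗ[R] M := if i = 0 then LinearMap.id else 0

theorem cg_zero : (cg 0 : M →ₗ[R] M) = LinearMap.id := rfl
theorem cg_pos {i : ℕ} (hi : i ≠ 0) : (cg i : M →ₗ[R] M) = 0 := if_neg hi

theorem conc_gr : (conc R M).Gr 1 cg where
  oi := by
    refine ⟨fun i x => ?_, fun i j hij x => ?_⟩
    · by_cases hi : i = 0
      · subst hi; rfl
      · rw [cg_pos hi]; simp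
    · by_cases hi : i = 0
      · rw [cg_pos (show j ≠ 0 by omega)]; simp
      · rw [cg_pos hi]; simp
  gd i x := by simp
  g0 x := by simp
  pg i a x := by
    rcases i with _ | i
    · rw [cg_zero]; cases a <;> simp
    · rw [cg_pos (Nat.succ_ne_zero i)]; simp
  gp i a x := by
    rcases i with _ | i
    · rw [cg_zero]; cases a <;> simp
    · rw [cg_pos (Nat.succ_ne_zero i)]; simp
  sum x := by simp [cg_zero]

theorem conc_theta : ∃ θ : Zg (conc R M) cg 0 →ₗ[R] M, Function.Surjective θ ∧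
    ∀ z, θ z = 0 ↔ (z : M) ∈ Bg (conc R M) cg 0 := by
  refine ⟨(Zg (conc R M) cg 0).subtype, fun m => ⟨⟨m, rfl, rfl⟩, rfl⟩, ?_⟩
  rintro ⟨z, hz⟩
  constructor
  · intro h
    have h' : z = 0 := h
    subst h'
    exact Submodule.zero_mem _
  · rintro ⟨y, -, hy⟩
    exact hy.symm

theorem conc_ex (i : ℕ) (hi : 0 < i) : Zg (conc R M) cg i ≤ Bg (conc R M) cg i := by
  rintro x ⟨-, hx⟩
  rw [cg_pos hi.ne'] at hx
  have : x = 0 := hx.symm
  rw [this]
  exact Submodule.zero_mem _

theorem Res.of_theta {K : KD R V} {N : ℕ} {g : ℕ → V →ₗ[R] V} (hg : K.Gr N g)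
    (hex : ∀ i, 0 < i → Zg K g i ≤ Bg K g i) {θ : Zg K g 0 →ₗ[R] M}
    (hθ : Function.Surjective θ) (hθB : ∀ z, θ z = 0 ↔ (z : V) ∈ Bg K g 0) :
    ∃ ε : V →ₗ[R] M, Res K g 0 ε := by
  have hz : ∀ x, g 0 x ∈ Zg K g 0 := fun x => ⟨hg.g0 x, hg.oi.ee 0 x⟩
  refine ⟨θ ∘ₗ LinearMap.codRestrict _ (g 0) hz, fun i hi => absurd hi (Nat.not_lt_zero i), ?_, ?_,
    ?_, ?_, hex⟩
  · intro m
    obtain ⟨z, rfl⟩ := hθ m
    refine ⟨z, ?_⟩
    rw [LinearMap.comp_apply]
    congr 1
    exact Subtype.ext z.2.2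
  · intro x
    rw [LinearMap.comp_apply, LinearMap.comp_apply]
    congr 1
    exact Subtype.ext (hg.oi.ee 0 x)
  · intro x
    rw [LinearMap.comp_apply, hθB]
    show g 0 (K.d x) ∈ _
    exact ⟨g 1 x, hg.oi.ee 1 x, (hg.gd 0 x).symm⟩
  · intro x hx h0
    rw [LinearMap.comp_apply, hθB] at h0
    have h0' : g 0 x ∈ Bg K g 0 := h0
    rwa [hx] at h0'

theorem isHom_aug {K : KD R V} {N : ℕ} {g : ℕ → V →ₗ[R] V} (hg : K.Gr N g) {ε : V →ₗ[R] M}
    (h : Res K g 0 ε) : IsHom K (conc R M) ε where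
  fd x := by rw [h.εd]; rfl
  fp a x := by
    rw [← h.εg, hg.gp]
    cases a
    · simp [h.εg]
    · simp

theorem aug_g {K : KD R V} {N : ℕ} {g : ℕ → V →ₗ[R] V} (hg : K.Gr N g) {ε : V →ₗ[R] M}
    (h : Res K g 0 ε) (i : ℕ) (x : V) : ε (g i x) = cg (R := R) i (ε x) := by
  by_cases hi : i = 0
  · subst hi
    rw [h.εg, cg_zero]; rfl
  · rw [← h.εg, hg.oi.orth 0 i (Ne.symm hi), cg_pos hi, map_zero]; rfl

end KD

namespace Cx

variable {R : Type u} [CommRing R]

/-- a finite projective module in degree zero -/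
def pt (R : Type u) [CommRing R] (P : Type u) [AddCommGroup P] [Module R P] [Module.Finite R P]
    [Module.Projective R P] : Cx R where
  V := P
  K := KD.conc R P
  gr := ⟨_, _, KD.conc_gr⟩

theorem isRes_pt (P : Type u) [AddCommGroup P] [Module R P] [Module.Finite R P]
    [Module.Projective R P] : (pt R P).IsRes 0 P := by
  obtain ⟨θ, h1, h2⟩ := KD.conc_theta (R := R) (M := P)
  obtain ⟨ε, hε⟩ := KD.Res.of_theta KD.conc_gr KD.conc_ex h1 h2
  exact ⟨1, KD.cg, ε, KD.conc_gr, hε⟩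

theorem exists_res [IsNoetherianRing R] (n : ℕ) : ∀ (M : Type u) [AddCommGroup M] [Module R M]
    [Module.Finite R M], PD R M (n + 1) → ∃ F : Cx R, F.IsRes 0 M := by
  induction n with
  | zero =>
    intro M _ _ _ hM
    have := PD.one_iff.mp hM
    exact ⟨_, isRes_pt M⟩
  | succ n ih =>
    intro M _ _ _ hM
    obtain ⟨P, _, _, _, _, q, hq⟩ := exists_finite_free_cover R M
    have hex : Function.Exact (LinearMap.ker q).subtype q := LinearMap.exact_subtype_ker_map q
    have hK := (PD.ses_iff (LinearMap.ker q).subtype q (Submodule.injective_subtype _) hex hq n).mp hM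
    obtain ⟨F, N, g, ε, hg, hF⟩ := ih (LinearMap.ker q) hK
    obtain ⟨θ, hθ, hθB⟩ := KD.conc_theta (R := R) (M := P)
    obtain ⟨f, hf, hfg, hfφ⟩ := hF.lift hg KD.conc_gr KD.conc_ex hθ hθB
      (LinearMap.ker q).subtype
    have hgr := hg.cone KD.conc_gr hf hfg
    obtain ⟨θ', hθ', hθB'⟩ := KD.cone_theta hg hF KD.conc_gr hθ hθB hf hfg hfφ hq hex
    have hexa := KD.cone_exact_above hg hF KD.conc_gr KD.conc_ex hθB
      (Submodule.injective_subtype _) hf hfg hfφ
    obtain ⟨ε', hε'⟩ := KD.Res.of_theta hgr hexa hθ' hθB'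
    exact ⟨Cx.cone (F := F) (G := Cx.pt R P) hf ⟨_, _, hgr⟩, _, _, ε', hgr, hε'⟩

end Cx

end Groth.Agent.Books.AdKD
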