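import Groth.Agent.Books.AdFiltT

set_option autoImplicit false
universe u

/-!
# Families of idempotents indexed by words
-/

open TensorProduct

namespace Groth.Agent.Books.AdKD

open Groth.Agent.Books.AdLen

namespace KD

variable {R : Type u} [CommRing R] {V W U : Type u} [AddCommGroup V] [Module R V]
  [AddCommGroup W] [Module R W] [AddCommGroup U] [Module R U]

/-- a family of orthogonal good idempotents, triangular with respect to a weight -/
structure Fam (K : KD R V) {ι : Type} [Fintype ι] [DecidableEq ι] (e : ι → V →ₗ[R] V)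
    (wt : ι → ℕ) : Prop where
  good : ∀ w, K.Good (e w)
  orth : ∀ w v, w ≠ v → ∀ x, e w (e v x) = 0
  tri : ∀ w v, w ≠ v → wt v ≤ wt w → ∀ x, e w (K.d (e v x)) = 0
  sum : ∀ x, ∑ w, e w (K.pi x) = K.pi x

/-- sum of the idempotents of given weight -/
noncomputable def cls {ι : Type} [Fintype ι] (e : ι → V →ₗ[R] V) (wt : ι → ℕ) (k : ℕ) :
    V →ₗ[R] V := ∑ w ∈ Finset.univ.filter (fun w => wt w = k), e w

theorem cls_apply {ι : Type} [Fintype ι] (e : ι → V →ₗ[R] V) (wt : ι → ℕ) (k : ℕ) (x : V) :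
    cls e wt k x = ∑ w ∈ Finset.univ.filter (fun w => wt w = k), e w x := by
  rw [cls, LinearMap.sum_apply]

namespace Fam

variable {K : KD R V} {ι : Type} [Fintype ι] [DecidableEq ι] {e : ι → V →ₗ[R] V} {wt : ι → ℕ}
  {m : ℕ}

theorem cls_e (h : K.Fam e wt) (k : ℕ) (v : ι) (x : V) :
    cls e wt k (e v x) = if wt v = k then e v x else 0 := by
  rw [cls_apply]
  split_ifs with hv
  · rw [Finset.sum_eq_single v]
    · exact (h.good v).ee x
    · intro w _ hw
      exact h.orth w v hw x
    · intro hn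
      exact absurd (Finset.mem_filter.mpr ⟨Finset.mem_univ v, hv⟩) hn
  · refine Finset.sum_eq_zero fun w hw => ?_
    have : w ≠ v := by
      rintro rfl
      exact hv (Finset.mem_filter.mp hw).2
    exact h.orth w v this x

theorem e_cls (h : K.Fam e wt) {k : ℕ} {v : ι} (hv : wt v = k) (x : V) :
    e v (cls e wt k x) = e v x := by
  rw [cls_apply, map_sum, Finset.sum_eq_single v]
  · exact (h.good v).ee x
  · intro w _ hw
    exact h.orth v w hw.symm x
  · intro hn
    exact absurd (Finset.mem_filter.mpr ⟨Finset.mem_univ v, hv⟩) hn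

theorem e_d_cls (h : K.Fam e wt) {k : ℕ} {v : ι} (hv : wt v = k) (x : V) :
    e v (K.d (cls e wt k x)) = e v (K.d (e v x)) := by
  rw [cls_apply, map_sum, map_sum, Finset.sum_eq_single v]
  · intro w hw hwv
    exact h.tri v w hwv.symm (by rw [(Finset.mem_filter.mp hw).2, hv]) x
  · intro hn
    exact absurd (Finset.mem_filter.mpr ⟨Finset.mem_univ v, hv⟩) hn

theorem cls_d_e (h : K.Fam e wt) {k : ℕ} {v : ι} (hv : wt v = k) (x : V) :
    cls e wt k (K.d (e v x)) = e v (K.d (e v x)) := by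
  rw [cls_apply, Finset.sum_eq_single v]
  · intro w hw hwv
    exact h.tri w v hwv (by rw [(Finset.mem_filter.mp hw).2, hv]) x
  · intro hn
    exact absurd (Finset.mem_filter.mpr ⟨Finset.mem_univ v, hv⟩) hn

theorem filt (h : K.Fam e wt) (hm : ∀ w, wt w < m) : K.Filt m (cls e wt) where
  good k := by
    refine ⟨?_, ?_, ?_⟩
    · intro x
      conv_lhs => rw [cls_apply e wt k x]
      rw [map_sum, cls_apply]
      refine Finset.sum_congr rfl fun w hw => ?_
      rw [h.cls_e, if_pos (Finset.mem_filter.mp hw).2]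
    · intro a x
      rw [cls_apply, cls_apply, map_sum]
      exact Finset.sum_congr rfl fun w hw => (h.good w).ep a x
    · intro x
      rw [cls_apply]
      refine Finset.sum_eq_zero fun w hw => ?_
      have hw' := (Finset.mem_filter.mp hw).2
      rw [h.e_d_cls hw', h.e_d_cls hw', (h.good w).ed]
  orth k l hkl x := by
    rw [cls_apply e wt l x, map_sum]
    refine Finset.sum_eq_zero fun w hw => ?_
    rw [h.cls_e, if_neg]
    rw [(Finset.mem_filter.mp hw).2]
    exact Ne.symm hkl
  tri k l hkl x := by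
    rw [cls_apply e wt k x, map_sum, map_sum]
    refine Finset.sum_eq_zero fun w hw => ?_
    rw [cls_apply]
    refine Finset.sum_eq_zero fun v hv => ?_
    have h1 := (Finset.mem_filter.mp hw).2
    have h2 := (Finset.mem_filter.mp hv).2
    refine h.tri v w ?_ (by omega) x
    rintro rfl
    omega
  sum x := by
    conv_rhs => rw [← h.sum x]
    rw [← Finset.sum_fiberwise_of_maps_to (s := Finset.univ) (t := Finset.range m) (g := wt)
      (fun w _ => Finset.mem_range.mpr (hm w))]
    refine Finset.sum_congr rfl fun k _ => ?_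
    rw [cls_apply]

/-- tensor product of families -/
theorem tensor {L : KD R W} {κ : Type} [Fintype κ] [DecidableEq κ] {f : κ → W →ₗ[R] W} {wt' : κ → ℕ}
    (h : K.Fam e wt) (h' : L.Fam f wt') :
    (K.tensor L).Fam (fun w : ι × κ => TensorProduct.map (e w.1) (f w.2))
      (fun w => wt w.1 + wt' w.2) := by
  have heps : ∀ w x, e w (K.eps x) = K.eps (e w x) := fun w x => by
    simp [eps_apply, (h.good w).ep]
  refine ⟨?_, ?_, ?_, ?_⟩
  · rintro ⟨i, j⟩
    simp only []
    refine ⟨?_, ?_, ?_⟩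
    · intro z
      refine lin_eq (F := TensorProduct.map (e i) (f j) ∘ₗ TensorProduct.map (e i) (f j))
        (G := TensorProduct.map (e i) (f j)) (fun x y => ?_) z
      simp [(h.good i).ee, (h'.good j).ee]
    · intro a z
      refine lin_eq (F := TensorProduct.map (e i) (f j) ∘ₗ (K.tensor L).p a)
        (G := (K.tensor L).p a ∘ₗ TensorProduct.map (e i) (f j)) (fun x y => ?_) z
      simp [tensor_p, (h.good i).ep, (h'.good j).ep]
    · intro z
      refine lin_eq (F := TensorProduct.map (e i) (f j) ∘ₗ (K.tensor L).d ∘ₗ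
        TensorProduct.map (e i) (f j) ∘ₗ (K.tensor L).d ∘ₗ TensorProduct.map (e i) (f j))
        (G := 0) (fun x y => ?_) z
      have e1 : ∀ x y, TensorProduct.map (e i) (f j) ((K.tensor L).d (e i x ⊗ₜ f j y)) =
          e i (K.d (e i x)) ⊗ₜ f j (L.pi y) + e i (K.eps x) ⊗ₜ f j (L.d (f j y)) := by
        intro x y
        rw [tensor_d, map_add, map_tmul, map_tmul, ← (h'.good j).epi, (h'.good j).ee, ← heps,
          (h.good i).ee]
      simp only [LinearMap.comp_apply, LinearMap.zero_apply, map_tmul]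
      rw [e1, map_add, map_add, e1, e1, (h.good i).ed, (h'.good j).ed, zero_tmul, tmul_zero, zero_add,
        add_zero, heps, heps, d_eps, map_neg, heps, (h'.good j).epi, L.d_pi, L.pi_d, neg_tmul]
      exact add_neg_cancel _
  · rintro ⟨i, j⟩ ⟨i', j'⟩ hne z
    simp only [] at hne ⊢
    refine lin_eq (F := TensorProduct.map (e i) (f j) ∘ₗ TensorProduct.map (e i') (f j'))
        (G := 0) (fun x y => ?_) z
    simp only [LinearMap.comp_apply, LinearMap.zero_apply, map_tmul]
    by_cases hi : i = i'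
    · have hj : j ≠ j' := fun hj => hne (by rw [hi, hj])
      rw [h'.orth j j' hj, tmul_zero]
    · rw [h.orth i i' hi, zero_tmul]
  · rintro ⟨i, j⟩ ⟨i', j'⟩ hne hwt z
    simp only [] at hne hwt ⊢
    refine lin_eq (F := TensorProduct.map (e i) (f j) ∘ₗ (K.tensor L).d ∘ₗ
        TensorProduct.map (e i') (f j'))
        (G := 0) (fun x y => ?_) z
    simp only [LinearMap.comp_apply, LinearMap.zero_apply, map_tmul]
    rw [tensor_d, map_add, map_tmul, map_tmul, ← (h'.good j').epi, ← heps]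
    by_cases hi : i = i'
    · have hj : j ≠ j' := fun hj => hne (by rw [hi, hj])
      rw [h'.orth j j' hj, tmul_zero, zero_add, h'.tri j j' hj (by rw [hi] at hwt; omega), tmul_zero]
    · rw [h.orth i i' hi, zero_tmul, add_zero]
      by_cases hj : j = j'
      · rw [h.tri i i' hi (by rw [hj] at hwt; omega), zero_tmul]
      · rw [h'.orth j j' hj, tmul_zero]
  · intro z
    have key : ∀ z, (∑ w : ι × κ, TensorProduct.map (e w.1) (f w.2) ∘ₗ (K.tensor L).pi) z =
        (K.tensor L).pi z := by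
      refine lin_eq (fun x y => ?_)
      rw [LinearMap.sum_apply]
      simp only [LinearMap.comp_apply, tensor_pi, map_tmul]
      rw [Fintype.sum_prod_type]
      conv_rhs => rw [← h.sum, ← h'.sum, sum_tmul]
      exact Finset.sum_congr rfl fun i _ => by rw [tmul_sum]
    have k2 := key z
    rw [LinearMap.sum_apply] at k2
    simpa only [LinearMap.comp_apply] using k2

section cyc

variable {n : ℕ} {σ : Module.End R V} {ρ : ι → ι}

theorem cls_comm (hσ : ∀ w x, σ (e w x) = e (ρ w) (σ x)) (hρ : Function.Bijective ρ)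
    (hwt : ∀ w, wt (ρ w) = wt w) (k : ℕ) (x : V) :
    cls e wt k (σ x) = σ (cls e wt k x) := by
  rw [cls_apply, cls_apply, map_sum]
  symm
  refine Finset.sum_bij (fun w _ => ρ w) ?_ ?_ ?_ ?_
  · intro w hw
    rw [Finset.mem_filter] at hw ⊢
    exact ⟨Finset.mem_univ _, by rw [hwt, hw.2]⟩
  · intro w _ v _ hwv
    exact hρ.1 hwv
  · intro v hv
    obtain ⟨w, rfl⟩ := hρ.2 v
    refine ⟨w, ?_, rfl⟩
    rw [Finset.mem_filter] at hv ⊢
    exact ⟨Finset.mem_univ _, by rw [← hwt, hv.2]⟩
  · intro w _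
    exact hσ w x

theorem pow_e (hσ : ∀ w x, σ (e w x) = e (ρ w) (σ x)) (i : ℕ) (w : ι) (x : V) :
    (σ ^ i) (e w x) = e (ρ^[i] w) ((σ ^ i) x) := by
  induction i generalizing w x with
  | zero => simp
  | succ i ih =>
    rw [pow_succ, Module.End.mul_apply, Module.End.mul_apply, hσ, ih, Function.iterate_succ_apply]

theorem cls_cen (h : K.Fam e wt) {m : ℕ} (hF : K.Filt m (cls e wt)) {k : ℕ} {v : ι} (hv : wt v = k) :
    (cutG (hF.good k)).Cen (e v) where
  ee := (h.good v).ee
  ep a x := by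
    rw [cutG_p, cutG_p, h.cls_e, if_pos hv, (h.good v).ep, h.e_cls hv]
  ed x := by
    rw [cutG_d, cutG_d, h.e_cls hv, h.e_d_cls hv, h.cls_e, if_pos hv, h.cls_d_e hv]

theorem orbit (h : K.Fam e wt) (hF : K.Filt m (cls e wt)) (hcyc : Cyc n K σ) (hn : 0 < n)
    (hσ : ∀ w x, σ (e w x) = e (ρ w) (σ x))
    (hc : ∀ i x, cls e wt i (σ x) = σ (cls e wt i x)) {k : ℕ} {v : ι} (hv : wt v = k)
    (hrn : ρ^[n] v = v) (hr : ∀ i, 0 < i → i < n → ρ^[i] v ≠ v)
    (hsum : ∀ x, cls e wt k x = ∑ i ∈ Finset.range n, e (ρ^[n - i] v) x)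
    (hwt : ∀ w, wt (ρ w) = wt w)
    [Invertible (n : R)] {ℓ : LenFun R} (hFin : (cutG (h.good v)).Fin ℓ) :
    (cutG (hF.good k)).Fin ℓ ∧ (cutG ((hcyc.cut hn (hF.good k) (hc k)).cen_av.good)).Fin ℓ ∧
      (n : ℤ) * (cutG ((hcyc.cut hn (hF.good k) (hc k)).cen_av.good)).chi ℓ =
        (cutG (hF.good k)).chi ℓ := by
  have hpw : ∀ i x, ((σ * cls e wt k) ^ (i + 1)) x = (σ ^ (i + 1)) (cls e wt k x) :=
    pow_mul_comm (hF.good k).ee (hc k)
  have hpw' : ∀ i, 0 < i → ∀ x, ((σ * cls e wt k) ^ i) x = (σ ^ i) (cls e wt k x) := by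
    intro i hi x
    obtain ⟨j, rfl⟩ := Nat.exists_eq_succ_of_ne_zero hi.ne'
    exact hpw j x
  have hwi : ∀ i w, wt (ρ^[i] w) = wt w := by
    intro i
    induction i with
    | zero => intro w; rfl
    | succ i ih => intro w; rw [Function.iterate_succ_apply, ih, hwt]
  have hcv : ∀ x, cls e wt k (e v x) = e v x := fun x => by rw [h.cls_e, if_pos hv]
  have hcc : cutG (h.cls_cen hF hv).good = cutG (h.good v) := by
    refine KD.ext (fun z => ?_) (fun a z => ?_)
    · rw [cutG_d, cutG_d, cutG_d, hcv, h.e_cls hv]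
    · rw [cutG_p, cutG_p, cutG_p, hcv]
  refine (hcyc.cut hn (hF.good k) (hc k)).chi_ind (h.cls_cen hF hv) ?_ ?_ (by rw [hcc]; exact hFin)
  · intro i hi1 hi2 x
    rw [hpw' i hi1, hcv, pow_e hσ, h.orth v _ (hr i hi1 hi2).symm]
  · intro x
    rw [cutG_pi, hsum x, map_sum]
    refine Finset.sum_congr rfl fun i hi => ?_
    have hi' := Finset.mem_range.mp hi
    rw [hpw' (n - i) (by omega), hcv]
    rcases Nat.eq_zero_or_pos i with h0 | h0
    · subst h0
      rw [pow_zero, Module.End.one_apply, Nat.sub_zero, hrn, hcyc.sn]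
    · rw [hpw' i h0]
      have e1 : e v ((σ ^ i) (cls e wt k x)) = (σ ^ i) (e (ρ^[n - i] v) (cls e wt k x)) := by
        rw [pow_e hσ, ← Function.iterate_add_apply, Nat.add_sub_cancel' hi'.le, hrn]
      rw [e1, hcyc.pow_pow (Nat.sub_add_cancel hi'.le), h.e_cls (by rw [hwi, hv])]

end cyc

end Fam

end KD

end Groth.Agent.Books.AdKD
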