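import Groth.Agent.Books.AdTensor2

set_option autoImplicit false
universe u

/-!
# Euler characteristics of filtered objects, cyclic actions
-/

open TensorProduct

namespace Groth.Agent.Books.AdKD

open Groth.Agent.Books.AdLen

namespace KD

variable {R : Type u} [CommRing R] {V W U : Type u} [AddCommGroup V] [Module R V]
  [AddCommGroup W] [Module R W] [AddCommGroup U] [Module R U]

theorem sub_eq_cutG {K : KD R V} {e : V →ₗ[R] V} (h : K.Stab e) : sub h = cutG h.good := rfl

theorem Good.of_eq {K : KD R V} {e e' : V →ₗ[R] V} (h : K.Good e) (he : e = e') : K.Good e' := he ▸ h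

theorem cutG_congr {K : KD R V} {e e' : V →ₗ[R] V} (h : K.Good e) (h' : K.Good e')
    (he : e = e') : cutG h = cutG h' := by
  subst he; rfl

/-- a finite filtration given by idempotents -/
structure Filt (K : KD R V) (m : ℕ) (c : ℕ → V →ₗ[R] V) : Prop where
  good : ∀ i, K.Good (c i)
  orth : ∀ i j, i ≠ j → ∀ x, c i (c j x) = 0
  tri : ∀ i j, i < j → ∀ x, c j (K.d (c i x)) = 0
  sum : ∀ x, ∑ i ∈ Finset.range m, c i (K.pi x) = K.pi x

namespace Filt

variable {K : KD R V} {m : ℕ} {c : ℕ → V →ₗ[R] V}

theorem stab (h : K.Filt (m + 1) c) : K.Stab (co (c m)) where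
  ee x := by simp [co_apply, (h.good m).ee]
  ep a x := by simp [co_apply, (h.good m).ep]
  ed x := by
    have h1 : c m (K.d (co (c m) x)) = 0 := by
      rw [← K.d_pi]
      have h2 : K.pi (co (c m) x) = ∑ i ∈ Finset.range m, c i (K.pi (co (c m) x)) := by
        have h3 := h.sum (co (c m) x)
        rw [Finset.sum_range_succ] at h3
        have h4 : c m (K.pi (co (c m) x)) = 0 := by
          rw [(h.good m).epi, co_apply, map_sub, (h.good m).ee, sub_self, map_zero]
        rw [h4, add_zero] at h3
        exact h3.symm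
      rw [h2, map_sum, map_sum]
      exact Finset.sum_eq_zero fun i hi => h.tri i m (Finset.mem_range.mp hi) _
    rw [co_apply (c m) (K.d _), h1, sub_zero]

theorem co_c (h : K.Filt (m + 1) c) {i : ℕ} (hi : i ≠ m) (x : V) : co (c m) (c i x) = c i x := by
  rw [co_apply, h.orth m i (Ne.symm hi), sub_zero]

theorem c_co (h : K.Filt (m + 1) c) {i : ℕ} (hi : i ≠ m) (x : V) : c i (co (c m) x) = c i x := by
  rw [co_apply, map_sub, h.orth i m hi, sub_zero]

theorem c_co_self (h : K.Filt (m + 1) c) (x : V) : c m (co (c m) x) = 0 := by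
  rw [co_apply, map_sub, (h.good m).ee, sub_self]

theorem sub (h : K.Filt (m + 1) c) : (KD.sub h.stab).Filt m c where
  good i := by
    refine ⟨(h.good i).ee, ?_, ?_⟩
    · intro a x
      rw [sub_p, sub_p, (h.good i).ep]
      by_cases hi : i = m
      · subst hi
        rw [h.c_co_self, co_apply, (h.good i).ee, sub_self]
      · rw [h.c_co hi, h.co_c hi]
    · intro x
      by_cases hi : i = m
      · subst hi
        rw [sub_d, h.c_co_self]
      · simp only [sub_d]
        rw [h.c_co hi, h.co_c hi, h.c_co hi, h.co_c hi, (h.good i).ed]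
  orth := h.orth
  tri i j hij x := by
    rw [sub_d]
    by_cases hj : j = m
    · subst hj; rw [h.c_co_self]
    · rw [h.c_co hj]
      by_cases hi : i = m
      · subst hi
        rw [co_apply, (h.good i).ee, sub_self, map_zero, map_zero]
      · rw [h.co_c hi, h.tri i j hij]
  sum x := by
    have h0 : (KD.sub h.stab).pi x = K.pi (co (c m) x) := rfl
    rw [h0]
    have h3 := h.sum (co (c m) x)
    rw [Finset.sum_range_succ] at h3
    have h4 : c m (K.pi (co (c m) x)) = 0 := by
      rw [(h.good m).epi, co_apply, map_sub, (h.good m).ee, sub_self, map_zero]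
    rw [h4, add_zero] at h3
    exact h3

theorem cut_sub (h : K.Filt (m + 1) c) {i : ℕ} (hi : i ≠ m) :
    cutG (h.sub.good i) = cutG (h.good i) := by
  refine KD.ext (fun z => ?_) (fun a z => ?_)
  · rw [cutG_d, cutG_d, sub_d, h.c_co hi, h.co_c hi]
  · rw [cutG_p, cutG_p, sub_p, h.co_c hi]

theorem quo_eq (h : K.Filt (m + 1) c) : KD.quo h.stab = cutG (h.good m) := by
  have h1 : co (co (c m)) = c m := by
    ext x; simp [co_apply]
  refine KD.ext (fun z => ?_) (fun a z => ?_)
  · rw [quo_d, cutG_d, h1]
  · rw [quo_p, cutG_p, h1]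

theorem chi_eq {ℓ : LenFun R} : ∀ {m : ℕ} {K : KD R V} (h : K.Filt m c)
    (_ : ∀ i < m, (cutG (h.good i)).Fin ℓ),
    K.Fin ℓ ∧ K.chi ℓ = ∑ i ∈ Finset.range m, (cutG (h.good i)).chi ℓ := by
  intro m
  induction m with
  | zero =>
    intro K h _
    have h0 : ∀ x, K.pi x = 0 := by
      intro x
      have := h.sum x
      simpa using this.symm
    have h1 : ∀ a, K.hl ℓ a = 0 := by
      intro a
      apply ℓ.rel_eq_zero
      intro x hx
      have := pi_of_p hx.2
      rw [h0] at this
      rw [← this]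
      exact Submodule.zero_mem _
    refine ⟨fun a => by rw [h1]; simp, ?_⟩
    unfold chi
    rw [h1, h1]
    simp
  | succ m ih =>
    intro K h hF
    obtain ⟨i1, i2⟩ := ih h.sub (fun i hi => by
      rw [h.cut_sub hi.ne]
      exact hF i (Nat.lt_succ_of_lt hi))
    have hq : (KD.quo h.stab).Fin ℓ := by
      rw [h.quo_eq]
      exact hF m (Nat.lt_succ_self m)
    refine ⟨fin_of_sub_quo h.stab i1 hq, ?_⟩
    rw [chi_add h.stab i1 hq, i2, Finset.sum_range_succ, h.quo_eq]
    congr 1
    exact Finset.sum_congr rfl fun i hi => by rw [h.cut_sub (Finset.mem_range.mp hi).ne]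

end Filt

end KD

end Groth.Agent.Books.AdKD
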