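import Groth.Agent.Books.AdTheta

set_option autoImplicit false
universe u

/-!
# Tensor products of filtrations
-/

open TensorProduct

namespace Groth.Agent.Books.AdKD

open Groth.Agent.Books.AdLen

/-- reindexing a double sum along antidiagonals -/
theorem sum_antidiag {M : Type*} [AddCommMonoid M] (f : ℕ → ℕ → M) (m m' : ℕ)
    (h1 : ∀ i j, m ≤ i → f i j = 0) (h2 : ∀ i j, m' ≤ j → f i j = 0) :
    ∑ n ∈ Finset.range (m + m'), ∑ p ∈ Finset.antidiagonal n, f p.1 p.2 =
      ∑ i ∈ Finset.range m, ∑ j ∈ Finset.range m', f i j := by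
  rw [← Finset.sum_product']
  rw [← Finset.sum_fiberwise_of_maps_to (s := Finset.range m ×ˢ Finset.range m')
    (t := Finset.range (m + m')) (g := fun p => p.1 + p.2)]
  · refine Finset.sum_congr rfl fun n _ => ?_
    symm
    apply Finset.sum_subset
    · intro p hp
      simp only [Finset.mem_filter, Finset.mem_product, Finset.mem_range] at hp
      exact Finset.mem_antidiagonal.mpr hp.2
    · intro p hp hp'
      simp only [Finset.mem_filter, Finset.mem_product, Finset.mem_range, not_and] at hp'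
      rw [Finset.mem_antidiagonal] at hp
      by_cases h3 : m ≤ p.1
      · exact h1 _ _ h3
      · by_cases h4 : m' ≤ p.2
        · exact h2 _ _ h4
        · exact absurd hp (hp' ⟨not_le.mp h3, not_le.mp h4⟩)
  · intro p hp
    simp only [Finset.mem_product, Finset.mem_range] at hp ⊢
    omega

namespace KD

variable {R : Type u} [CommRing R] {V W U : Type u} [AddCommGroup V] [Module R V]
  [AddCommGroup W] [Module R W] [AddCommGroup U] [Module R U]

/-- tensor product of two families of idempotents -/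
noncomputable def tf (c : ℕ → V →ₗ[R] V) (c' : ℕ → W →ₗ[R] W) (k : ℕ) : V ⊗[R] W →ₗ[R] V ⊗[R] W :=
  ∑ p ∈ Finset.antidiagonal k, TensorProduct.map (c p.1) (c' p.2)

theorem tf_tmul (c : ℕ → V →ₗ[R] V) (c' : ℕ → W →ₗ[R] W) (k : ℕ) (x : V) (y : W) :
    tf c c' k (x ⊗ₜ y) = ∑ p ∈ Finset.antidiagonal k, c p.1 x ⊗ₜ c' p.2 y := by
  simp [tf, LinearMap.sum_apply]

namespace Filt

variable {K : KD R V} {L : KD R W} {m m' : ℕ} {c : ℕ → V →ₗ[R] V} {c' : ℕ → W →ₗ[R] W}

theorem c_pi (h : K.Filt m c) {i : ℕ} (hi : m ≤ i) (x : V) : c i (K.pi x) = 0 := by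
  rw [← h.sum, map_sum]
  exact Finset.sum_eq_zero fun j hj => h.orth i j (by have := Finset.mem_range.mp hj; omega) _

theorem sel (h : K.Filt m c) (i j : ℕ) (x : V) : c i (c j x) = if i = j then c j x else 0 := by
  by_cases hij : i = j
  · subst hij; rw [if_pos rfl, (h.good i).ee]
  · rw [if_neg hij, h.orth i j hij]

theorem ceps (h : K.Filt m c) (i : ℕ) (x : V) : c i (K.eps x) = K.eps (c i x) := by
  simp [eps_apply, (h.good i).ep]

theorem tf_sel (h : K.Filt m c) (h' : L.Filt m' c') {k : ℕ} {i j : ℕ} (hij : i + j = k) (x : V) (y : W) :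
    tf c c' k (c i x ⊗ₜ c' j y) = c i x ⊗ₜ c' j y := by
  rw [tf_tmul, Finset.sum_eq_single (i, j)]
  · simp only []
    rw [(h.good i).ee, (h'.good j).ee]
  · intro p hp hne
    rw [h.sel, h'.sel]
    by_cases h1 : p.1 = i
    · have h2 : p.2 ≠ j := fun h2 => hne (Prod.ext h1 h2)
      rw [if_neg h2, tmul_zero]
    · rw [if_neg h1, zero_tmul]
  · intro hn
    exact absurd (Finset.mem_antidiagonal.mpr hij) hn

theorem tf_sel_ne (h : K.Filt m c) (h' : L.Filt m' c') {k : ℕ} {i j : ℕ} (hij : i + j ≠ k) (x : V) (y : W) :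
    tf c c' k (c i x ⊗ₜ c' j y) = 0 := by
  rw [tf_tmul]
  refine Finset.sum_eq_zero fun p hp => ?_
  rw [h.sel, h'.sel]
  rw [Finset.mem_antidiagonal] at hp
  by_cases h1 : p.1 = i
  · have h2 : p.2 ≠ j := fun h2 => hij (by rw [← h1, ← h2, hp])
    rw [if_neg h2, tmul_zero]
  · rw [if_neg h1, zero_tmul]

theorem tf_left (h' : L.Filt m' c') {k : ℕ} {j : ℕ} (hj : j ≤ k) (x : V) (y : W) :
    tf c c' k (x ⊗ₜ c' j y) = c (k - j) x ⊗ₜ c' j y := by
  rw [tf_tmul, Finset.sum_eq_single (k - j, j)]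
  · simp only []
    rw [(h'.good j).ee]
  · intro p hp hne
    rw [h'.sel]
    rw [Finset.mem_antidiagonal] at hp
    have h2 : p.2 ≠ j := fun h2 => hne (Prod.ext (by simp; omega) h2)
    rw [if_neg h2, tmul_zero]
  · intro hn
    exact absurd (Finset.mem_antidiagonal.mpr (by simp; omega)) hn

theorem tf_right (h : K.Filt m c) {k : ℕ} {i : ℕ} (hi : i ≤ k) (x : V) (y : W) :
    tf c c' k (c i x ⊗ₜ y) = c i x ⊗ₜ c' (k - i) y := by
  rw [tf_tmul, Finset.sum_eq_single (i, k - i)]
  · simp only []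
    rw [(h.good i).ee]
  · intro p hp hne
    rw [h.sel]
    rw [Finset.mem_antidiagonal] at hp
    have h2 : p.1 ≠ i := fun h2 => hne (Prod.ext h2 (by simp; omega))
    rw [if_neg h2, zero_tmul]
  · intro hn
    exact absurd (Finset.mem_antidiagonal.mpr (by simp; omega)) hn

theorem tf_D (h : K.Filt m c) (h' : L.Filt m' c') {k : ℕ} {i j : ℕ} (hij : i + j = k) (x : V) (y : W) :
    tf c c' k ((K.tensor L).d (c i x ⊗ₜ c' j y)) =
      c i (K.d (c i x)) ⊗ₜ c' j (L.pi y) + c i (K.eps x) ⊗ₜ c' j (L.d (c' j y)) := by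
  rw [tensor_d, map_add]
  rw [← (h'.good j).epi, tf_left h' (by omega), show k - j = i from by omega]
  rw [← h.ceps, tf_right h (by omega), show k - i = j from by omega]

theorem tf_D_lt (h : K.Filt m c) (h' : L.Filt m' c') {k : ℕ} {i j : ℕ} (hij : i + j < k) (x : V) (y : W) :
    tf c c' k ((K.tensor L).d (c i x ⊗ₜ c' j y)) = 0 := by
  rw [tensor_d, map_add]
  rw [← (h'.good j).epi, tf_left h' (by omega)]
  rw [← h.ceps, tf_right h (by omega)]
  rw [h.tri i (k - j) (by omega), h'.tri j (k - i) (by omega), zero_tmul, tmul_zero, add_zero]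

theorem tensor (h : K.Filt m c) (h' : L.Filt m' c') :
    (K.tensor L).Filt (m + m') (tf c c') where
  good k := by
    refine ⟨?_, ?_, ?_⟩
    · intro z
      refine lin_eq (F := tf c c' k ∘ₗ tf c c' k) (G := tf c c' k) (fun x y => ?_) z
      rw [LinearMap.comp_apply]
      conv_lhs => rw [tf_tmul]
      rw [map_sum, tf_tmul]
      exact Finset.sum_congr rfl fun p hp =>
        tf_sel h h' (Finset.mem_antidiagonal.mp hp) x y
    · intro a z
      refine lin_eq (F := tf c c' k ∘ₗ (K.tensor L).p a) (G := (K.tensor L).p a ∘ₗ tf c c' k)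
        (fun x y => ?_) z
      rw [LinearMap.comp_apply, LinearMap.comp_apply, tensor_p, map_add, tf_tmul, tf_tmul, tf_tmul,
        map_sum, ← Finset.sum_add_distrib]
      refine Finset.sum_congr rfl fun p _ => ?_
      rw [tensor_p, (h.good _).ep, (h.good _).ep, (h'.good _).ep, (h'.good _).ep]
    · intro z
      refine lin_eq (F := tf c c' k ∘ₗ (K.tensor L).d ∘ₗ tf c c' k ∘ₗ (K.tensor L).d ∘ₗ tf c c' k)
        (G := 0) (fun x y => ?_) z
      simp only [LinearMap.comp_apply, LinearMap.zero_apply]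
      rw [tf_tmul, map_sum, map_sum, map_sum, map_sum]
      refine Finset.sum_eq_zero fun p hp => ?_
      have hp' := Finset.mem_antidiagonal.mp hp
      rw [tf_D h h' hp', map_add, map_add, tf_D h h' hp', tf_D h h' hp']
      rw [(h.good p.1).ed, (h'.good p.2).ed, zero_tmul, tmul_zero, zero_add, add_zero]
      rw [h.ceps, h.ceps, K.d_eps, map_neg, h.ceps, (h'.good p.2).epi, L.d_pi, L.pi_d, neg_tmul]
      exact add_neg_cancel _
  orth k l hkl z := by
    refine lin_eq (F := tf c c' k ∘ₗ tf c c' l) (G := 0) (fun x y => ?_) z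
    rw [LinearMap.comp_apply]
    conv_lhs => rw [tf_tmul]
    rw [map_sum]
    refine Finset.sum_eq_zero fun p hp => ?_
    exact tf_sel_ne h h' (by rw [Finset.mem_antidiagonal.mp hp]; exact Ne.symm hkl) x y
  tri k l hkl z := by
    refine lin_eq (F := tf c c' l ∘ₗ (K.tensor L).d ∘ₗ tf c c' k) (G := 0) (fun x y => ?_) z
    simp only [LinearMap.comp_apply, LinearMap.zero_apply]
    rw [tf_tmul, map_sum, map_sum]
    refine Finset.sum_eq_zero fun p hp => ?_
    exact tf_D_lt h h' (by rw [Finset.mem_antidiagonal.mp hp]; exact hkl) x y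
  sum z := by
    have key : ∀ z, (∑ k ∈ Finset.range (m + m'), tf c c' k ∘ₗ (K.tensor L).pi) z =
        (K.tensor L).pi z := by
      refine lin_eq (fun x y => ?_)
      rw [LinearMap.sum_apply]
      simp only [LinearMap.comp_apply, tensor_pi, tf_tmul]
      rw [sum_antidiag (fun i j => c i (K.pi x) ⊗ₜ[R] c' j (L.pi y)) m m'
        (fun i j hi => by simp only [h.c_pi hi, zero_tmul])
        (fun i j hj => by simp only [h'.c_pi hj, tmul_zero])]
      conv_rhs => rw [← h.sum, ← h'.sum, sum_tmul]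
      exact Finset.sum_congr rfl fun i _ => by rw [tmul_sum]
    have k2 := key z
    rw [LinearMap.sum_apply] at k2
    simpa only [LinearMap.comp_apply] using k2

end Filt

section cyc

variable {K : KD R V} {n : ℕ} {σ : Module.End R V}

theorem pow_mul_comm {e : Module.End R V} (he : ∀ x, e (e x) = e x) (hc : ∀ x, e (σ x) = σ (e x))
    (i : ℕ) (x : V) : ((σ * e) ^ (i + 1)) x = (σ ^ (i + 1)) (e x) := by
  induction i generalizing x with
  | zero => simp
  | succ i ih =>
    rw [pow_succ, Module.End.mul_apply, ih, pow_succ (n := i + 1), Module.End.mul_apply,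
      Module.End.mul_apply, hc, he]

theorem av_mul {e : Module.End R V} [Invertible (n : R)] (he : ∀ x, e (e x) = e x)
    (hc : ∀ x, e (σ x) = σ (e x)) (x : V) : av n (σ * e) x = av n σ (e x) := by
  rw [av_apply, av_apply]
  congr 1
  exact Finset.sum_congr rfl fun i _ => pow_mul_comm he hc i x

theorem av_comm {e : Module.End R V} [Invertible (n : R)]
    (hc : ∀ x, e (σ x) = σ (e x)) (x : V) : av n σ (e x) = e (av n σ x) := by
  have : Commute σ e := LinearMap.ext fun x => (hc x).symm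
  exact LinearMap.congr_fun (commute_av (n := n) this) x

theorem Cyc.cut (h : Cyc n K σ) (hn : 0 < n) {e : Module.End R V} (he : K.Good e)
    (hc : ∀ x, e (σ x) = σ (e x)) : Cyc n (cutG he) (σ * e) where
  hom := by
    constructor
    · intro x
      simp only [cutG_d, Module.End.mul_apply]
      rw [he.ee, hc (e x), he.ee, ← h.hom.fd, hc]
    · intro a x
      simp only [cutG_p, Module.End.mul_apply]
      rw [hc (e x), he.ee, ← h.hom.fp, he.ep, he.ee]
  spi x := by
    simp only [cutG_pi, Module.End.mul_apply]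
    rw [he.epi, he.ee, h.spi]
  sn x := by
    obtain ⟨m, rfl⟩ := Nat.exists_eq_succ_of_ne_zero hn.ne'
    rw [Nat.succ_eq_add_one, pow_mul_comm he.ee hc, h.sn, cutG_pi]

variable [Invertible (n : R)] {m : ℕ} {c : ℕ → V →ₗ[R] V}

theorem Filt.cut_av (h : Cyc n K σ) (hF : K.Filt m c) (hc : ∀ i x, c i (σ x) = σ (c i x)) :
    (cutG h.cen_av.good).Filt m c where
  good i := by
    have hav : ∀ x, av n σ (c i x) = c i (av n σ x) := av_comm (e := c i) (hc i)
    refine ⟨(hF.good i).ee, ?_, ?_⟩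
    · intro a x
      rw [cutG_p, cutG_p, (hF.good i).ep, hav]
    · intro x
      rw [h.cen_av.cut_d, h.cen_av.cut_d, ← hav, ← hav, ← h.isHom_av.fd, ← hav,
        (hF.good i).ed, map_zero, map_zero]
  orth := hF.orth
  tri i j hij x := by
    rw [h.cen_av.cut_d, ← av_comm (e := c j) (hc j), hF.tri i j hij, map_zero]
  sum x := by
    rw [cutG_pi]
    exact hF.sum _

theorem cut_av_cut (h : Cyc n K σ) (hn : 0 < n) (hF : K.Filt m c) (hc : ∀ i x, c i (σ x) = σ (c i x))
    (i : ℕ) : cutG ((hF.cut_av h hc).good i) =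
      cutG ((h.cut hn (hF.good i) (hc i)).cen_av.good) := by
  have hav : ∀ x, av n σ (c i x) = c i (av n σ x) := av_comm (e := c i) (hc i)
  refine KD.ext (fun z => ?_) (fun a z => ?_)
  · rw [cutG_d, h.cen_av.cut_d, (h.cut hn (hF.good i) (hc i)).cen_av.cut_d,
      av_mul (hF.good i).ee (hc i), cutG_d, (hF.good i).ee, hav]
  · rw [cutG_p, cutG_p, cutG_p, cutG_p, av_mul (hF.good i).ee (hc i), hav, (hF.good i).ee]

/-- additivity of the operation along a filtration -/
theorem filt_cyc (h : Cyc n K σ) (hn : 0 < n) (hF : K.Filt m c) (hc : ∀ i x, c i (σ x) = σ (c i x))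
    {ℓ : LenFun R} (hf1 : ∀ i < m, (cutG (hF.good i)).Fin ℓ)
    (hf2 : ∀ i < m, (cutG ((h.cut hn (hF.good i) (hc i)).cen_av.good)).Fin ℓ) :
    (n : ℤ) * (cutG h.cen_av.good).chi ℓ - K.chi ℓ =
      ∑ i ∈ Finset.range m, ((n : ℤ) * (cutG ((h.cut hn (hF.good i) (hc i)).cen_av.good)).chi ℓ -
        (cutG (hF.good i)).chi ℓ) := by
  have e1 := (hF.chi_eq (ℓ := ℓ) hf1).2
  have e2 := ((hF.cut_av h hc).chi_eq (ℓ := ℓ) (fun i hi => by
    rw [cut_av_cut h hn hF hc]; exact hf2 i hi)).2
  rw [e1, e2, Finset.mul_sum, ← Finset.sum_sub_distrib]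
  exact Finset.sum_congr rfl fun i _ => by rw [cut_av_cut h hn hF hc]

end cyc

end KD

end Groth.Agent.Books.AdKD
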