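import Groth.Agent.Books.AdUnit

set_option autoImplicit false
universe u

/-!
# Gradings
-/

open TensorProduct

namespace Groth.Agent.Books.AdKD

open Groth.Agent.Books.AdLen

namespace KD

variable {R : Type u} [CommRing R] {V W U : Type u} [AddCommGroup V] [Module R V]
  [AddCommGroup W] [Module R W] [AddCommGroup U] [Module R U]

/-- orthogonal idempotents -/
structure OI (c : ℕ → V →ₗ[R] V) : Prop where
  ee : ∀ i x, c i (c i x) = c i x
  orth : ∀ i j, i ≠ j → ∀ x, c i (c j x) = 0

namespace OI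

variable {c : ℕ → V →ₗ[R] V} {c' : ℕ → W →ₗ[R] W}

theorem sel (h : OI c) (i j : ℕ) (x : V) : c i (c j x) = if i = j then c j x else 0 := by
  by_cases hij : i = j
  · subst hij; rw [if_pos rfl, h.ee]
  · rw [if_neg hij, h.orth i j hij]

theorem tf_sel (h : OI c) (h' : OI c') (k i j : ℕ) (x : V) (y : W) :
    tf c c' k (c i x ⊗ₜ c' j y) = if i + j = k then c i x ⊗ₜ c' j y else 0 := by
  rw [tf_tmul]
  split_ifs with hij
  · rw [Finset.sum_eq_single (i, j)]
    · simp only []
      rw [h.ee, h'.ee]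
    · intro p hp hne
      rw [h.sel, h'.sel]
      by_cases h1 : p.1 = i
      · have h2 : p.2 ≠ j := fun h2 => hne (Prod.ext h1 h2)
        rw [if_neg h2, tmul_zero]
      · rw [if_neg h1, zero_tmul]
    · intro hn
      exact absurd (Finset.mem_antidiagonal.mpr hij) hn
  · refine Finset.sum_eq_zero fun p hp => ?_
    rw [h.sel, h'.sel]
    rw [Finset.mem_antidiagonal] at hp
    by_cases h1 : p.1 = i
    · have h2 : p.2 ≠ j := fun h2 => hij (by rw [← h1, ← h2, hp])
      rw [if_neg h2, tmul_zero]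
    · rw [if_neg h1, zero_tmul]

theorem tf_selT (h : OI c) (h' : OI c') (k i j : ℕ) (z : V ⊗[R] W) :
    tf c c' k (TensorProduct.map (c i) (c' j) z) =
      if i + j = k then TensorProduct.map (c i) (c' j) z else 0 := by
  induction z using TensorProduct.induction_on with
  | zero => simp
  | tmul x y => rw [map_tmul, h.tf_sel h']
  | add x y hx hy =>
    rw [map_add, map_add, hx, hy]
    split_ifs <;> simp

theorem tensor (h : OI c) (h' : OI c') : OI (tf c c') where
  ee k z := by
    refine lin_eq (F := tf c c' k ∘ₗ tf c c' k) (G := tf c c' k) (fun x y => ?_) z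
    rw [LinearMap.comp_apply]
    conv_lhs => rw [tf_tmul]
    rw [map_sum, tf_tmul]
    exact Finset.sum_congr rfl fun p hp => by
      rw [tf_sel h h', if_pos (Finset.mem_antidiagonal.mp hp)]
  orth k l hkl z := by
    refine lin_eq (F := tf c c' k ∘ₗ tf c c' l) (G := 0) (fun x y => ?_) z
    rw [LinearMap.comp_apply]
    conv_lhs => rw [tf_tmul]
    rw [map_sum]
    refine Finset.sum_eq_zero fun p hp => ?_
    rw [tf_sel h h', if_neg]
    rw [Finset.mem_antidiagonal.mp hp]
    exact Ne.symm hkl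

end OI

/-- a bounded grading by natural numbers, with differential of degree -1 -/
structure Gr (K : KD R V) (N : ℕ) (g : ℕ → V →ₗ[R] V) : Prop where
  oi : OI g
  gd : ∀ i x, g i (K.d x) = K.d (g (i + 1) x)
  g0 : ∀ x, K.d (g 0 x) = 0
  pg : ∀ i a x, K.p a (g i x) = if i.bodd = a then g i x else 0
  gp : ∀ i a x, g i (K.p a x) = if i.bodd = a then g i x else 0
  sum : ∀ x, ∑ i ∈ Finset.range N, g i x = K.pi x

namespace Gr

variable {K : KD R V} {L : KD R W} {N N' : ℕ} {g : ℕ → V →ₗ[R] V} {g' : ℕ → W →ₗ[R] W}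

theorem comm_p (h : K.Gr N g) (i : ℕ) (a : Bool) (x : V) : g i (K.p a x) = K.p a (g i x) := by
  rw [h.gp, h.pg]

theorem g_pi (h : K.Gr N g) (i : ℕ) (x : V) : g i (K.pi x) = g i x := by
  rw [pi_apply, map_add, h.gp, h.gp]
  cases i.bodd <;> simp

theorem pi_g (h : K.Gr N g) (i : ℕ) (x : V) : K.pi (g i x) = g i x := by
  rw [pi_apply, h.pg, h.pg]
  cases i.bodd <;> simp

theorem g_of_le (h : K.Gr N g) {i : ℕ} (hi : N ≤ i) (x : V) : g i x = 0 := by
  rw [← h.g_pi, ← h.sum, map_sum]
  exact Finset.sum_eq_zero fun j hj =>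
    h.oi.orth i j (by have := Finset.mem_range.mp hj; omega) _

theorem mono (h : K.Gr N g) {M : ℕ} (hM : N ≤ M) : K.Gr M g where
  oi := h.oi
  gd := h.gd
  g0 := h.g0
  pg := h.pg
  gp := h.gp
  sum x := by
    rw [← h.sum x]
    symm
    apply Finset.sum_subset
    · intro i hi
      rw [Finset.mem_range] at hi ⊢
      omega
    · intro i hi hi'
      rw [Finset.mem_range] at hi hi'
      exact h.g_of_le (by omega) x

theorem tensor (h : K.Gr N g) (h' : L.Gr N' g') : (K.tensor L).Gr (N + N') (tf g g') where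
  oi := h.oi.tensor h'.oi
  gd k z := by
    refine lin_eq (F := tf g g' k ∘ₗ (K.tensor L).d) (G := (K.tensor L).d ∘ₗ tf g g' (k + 1))
      (fun x y => ?_) z
    have heps : ∀ i x, g i (K.eps x) = K.eps (g i x) := fun i x => by
      simp [eps_apply, h.comm_p]
    rw [LinearMap.comp_apply, LinearMap.comp_apply, tensor_d, map_add, tf_tmul, tf_tmul, tf_tmul,
      map_sum]
    simp only [tensor_d, h.gd, h'.gd, h'.g_pi, h'.pi_g, heps]
    rw [Finset.sum_add_distrib, Finset.Nat.sum_antidiagonal_succ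
      (f := fun p : ℕ × ℕ => K.d (g p.1 x) ⊗ₜ[R] g' p.2 y),
      Finset.Nat.sum_antidiagonal_succ'
      (f := fun p : ℕ × ℕ => K.eps (g p.1 x) ⊗ₜ[R] L.d (g' p.2 y)), h.g0, h'.g0, zero_tmul,
      tmul_zero, zero_add, zero_add]
  g0 z := by
    refine lin_eq (F := (K.tensor L).d ∘ₗ tf g g' 0) (G := 0) (fun x y => ?_) z
    rw [LinearMap.comp_apply, tf_tmul, Finset.Nat.antidiagonal_zero, Finset.sum_singleton, tensor_d, h.g0,
      h'.g0, zero_tmul, tmul_zero, add_zero, LinearMap.zero_apply]
  pg k a z := by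
    have e : (if k.bodd = a then tf g g' k z else 0) = ((if k.bodd = a then (1 : R) else 0) •
        tf g g' k) z := by
      split_ifs <;> simp
    rw [e]
    refine lin_eq (F := (K.tensor L).p a ∘ₗ tf g g' k) (G := (if k.bodd = a then (1 : R) else 0) •
        tf g g' k) (fun x y => ?_) z
    rw [LinearMap.comp_apply, LinearMap.smul_apply, tf_tmul, map_sum, Finset.smul_sum]
    refine Finset.sum_congr rfl fun p hp => ?_
    have hp' := Finset.mem_antidiagonal.mp hp
    rw [tensor_p, h.pg, h.pg, h'.pg, h'.pg, ← hp', Nat.bodd_add]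
    cases p.1.bodd <;> cases p.2.bodd <;> cases a <;> simp
  gp k a z := by
    have e : (if k.bodd = a then tf g g' k z else 0) = ((if k.bodd = a then (1 : R) else 0) •
        tf g g' k) z := by
      split_ifs <;> simp
    rw [e]
    refine lin_eq (F := tf g g' k ∘ₗ (K.tensor L).p a) (G := (if k.bodd = a then (1 : R) else 0) •
        tf g g' k) (fun x y => ?_) z
    rw [LinearMap.comp_apply, LinearMap.smul_apply, tf_tmul, Finset.smul_sum, tensor_p, map_add,
      tf_tmul, tf_tmul, ← Finset.sum_add_distrib]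
    refine Finset.sum_congr rfl fun p hp => ?_
    have hp' := Finset.mem_antidiagonal.mp hp
    rw [h.gp, h.gp, h'.gp, h'.gp, ← hp', Nat.bodd_add]
    cases p.1.bodd <;> cases p.2.bodd <;> cases a <;> simp
  sum z := by
    have key : ∀ z, (∑ k ∈ Finset.range (N + N'), tf g g' k) z = (K.tensor L).pi z := by
      refine lin_eq (fun x y => ?_)
      rw [LinearMap.sum_apply]
      simp only [tensor_pi, tf_tmul]
      rw [sum_antidiag (fun i j => g i x ⊗ₜ[R] g' j y) N N'
        (fun i j hi => by simp only [h.g_of_le hi, zero_tmul])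
        (fun i j hj => by simp only [h'.g_of_le hj, tmul_zero])]
      conv_rhs => rw [← h.sum, ← h'.sum, sum_tmul]
      exact Finset.sum_congr rfl fun i _ => by rw [tmul_sum]
    have k2 := key z
    rw [LinearMap.sum_apply] at k2
    exact k2

theorem cut (h : K.Gr N g) {c : V →ₗ[R] V} (hc : K.Cen c) (hcg : ∀ i x, c (g i x) = g i (c x)) :
    (cutG hc.good).Gr N (fun i => g i ∘ₗ c) where
  oi := by
    refine ⟨fun i x => ?_, fun i j hij x => ?_⟩
    · simp only [LinearMap.comp_apply, hcg, hc.ee, h.oi.ee]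
    · simp only [LinearMap.comp_apply, hcg, h.oi.orth i j hij]
  gd i x := by
    simp only [LinearMap.comp_apply, hc.cut_d, hc.ed, hc.ee, h.gd, hcg]
  g0 x := by
    rw [hc.cut_d, LinearMap.comp_apply, h.g0, map_zero]
  pg i a x := by
    rw [cutG_p]
    simp only [LinearMap.comp_apply, hcg, hc.ee, h.pg]
  gp i a x := by
    rw [cutG_p]
    simp only [LinearMap.comp_apply, hc.ep, hc.ee, h.gp]
  sum x := by
    rw [cutG_pi, ← h.sum]
    rfl

/-- index shift -/
def shg (g : ℕ → V →ₗ[R] V) (i : ℕ) : V →ₗ[R] V := if i = 0 then 0 else g (i - 1)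

theorem shg_zero (g : ℕ → V →ₗ[R] V) : shg g 0 = 0 := rfl
theorem shg_succ (g : ℕ → V →ₗ[R] V) (i : ℕ) : shg g (i + 1) = g i := rfl

theorem shg_of_pos (g : ℕ → V →ₗ[R] V) {i : ℕ} (hi : 0 < i) : shg g i = g (i - 1) := by
  rw [shg, if_neg hi.ne']

theorem oi_shg (h : OI g) : OI (shg g) where
  ee i x := by
    rcases i with _ | i
    · rfl
    · rw [shg_succ, h.ee]
  orth i j hij x := by
    rcases i with _ | i
    · rfl
    · rcases j with _ | j
      · rw [shg_zero]; simp
      · rw [shg_succ, shg_succ, h.orth i j (by omega)]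

theorem sh (h : K.Gr N g) : (KD.sh K).Gr (N + 1) (shg g) where
  oi := oi_shg h.oi
  gd i x := by
    rcases i with _ | i
    · rw [shg_zero, shg_succ, sh_d, sh_d, h.g0]; rfl
    · rw [shg_succ, shg_succ, sh_d, sh_d, h.gd]
  g0 x := by rw [shg_zero]; simp
  pg i a x := by
    rcases i with _ | i
    · rw [shg_zero]; simp
    · rw [shg_succ, sh_p, h.pg, Nat.bodd_succ]
      cases i.bodd <;> cases a <;> simp
  gp i a x := by
    rcases i with _ | i
    · rw [shg_zero]; simp
    · rw [shg_succ, sh_p, h.gp, Nat.bodd_succ]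
      cases i.bodd <;> cases a <;> simp
  sum x := by
    rw [Finset.sum_range_succ', sh_pi, shg_zero, LinearMap.zero_apply, add_zero]
    exact h.sum x

theorem cone {f : V →ₗ[R] W} (h : K.Gr N g) (h' : L.Gr N' g') (hf : IsHom K L f)
    (hfg : ∀ i x, f (g i x) = g' i (f x)) :
    (KD.cone hf).Gr (N + N' + 1) (fun i => LinearMap.prodMap (g' i) (shg g i)) where
  oi := by
    have ho := oi_shg h.oi
    refine ⟨fun i x => ?_, fun i j hij x => ?_⟩
    · ext <;> simp [ho.ee, h'.oi.ee]
    · ext <;> simp [ho.orth i j hij, h'.oi.orth i j hij]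
  gd i x := by
    rw [cone_d, cone_d]
    rcases i with _ | i
    · ext
      · simp [shg_succ, h'.gd, ← hfg, h.g_pi, h.pi_g]
      · simp [shg_zero, shg_succ, h.g0]
    · ext
      · simp [shg_succ, h'.gd, ← hfg, h.g_pi, h.pi_g]
      · simp [shg_succ, h.gd]
  g0 x := by
    rw [cone_d]
    ext
    · simp [shg_zero, h'.g0]
    · simp [shg_zero]
  pg i a x := by
    have hs := h.sh.pg i a x.2
    have ht := h'.pg i a x.1
    rw [sh_p] at hs
    rw [cone_p]
    simp only [LinearMap.prodMap_apply]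
    rw [hs, ht]
    split_ifs <;> rfl
  gp i a x := by
    have hs := h.sh.gp i a x.2
    have ht := h'.gp i a x.1
    rw [sh_p] at hs
    rw [cone_p]
    simp only [LinearMap.prodMap_apply]
    rw [hs, ht]
    split_ifs <;> rfl
  sum x := by
    have hs := (h.sh.mono (show N + 1 ≤ N + N' + 1 by omega)).sum x.2
    have ht := (h'.mono (show N' ≤ N + N' + 1 by omega)).sum x.1
    rw [sh_pi] at hs
    rw [cone_pi, ← hs, ← ht]
    ext
    · simp [Prod.fst_sum]
    · simp [Prod.snd_sum]

theorem one : (KD.one R).Gr 1 (fun i => if i = 0 then LinearMap.id else 0) where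
  oi := by
    refine ⟨fun i x => ?_, fun i j hij x => ?_⟩
    · split_ifs <;> simp
    · by_cases hi : i = 0
      · have hj : j ≠ 0 := by omega
        simp [hj]
      · simp [hi]
  gd i x := by simp
  g0 x := by simp
  pg i a x := by
    rcases i with _ | i
    · cases a <;> simp
    · simp
  gp i a x := by
    rcases i with _ | i
    · cases a <;> simp
    · simp
  sum x := by simp

end Gr

end KD

end Groth.Agent.Books.AdKD
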