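import Groth.Agent.Books.AdGr

set_option autoImplicit false
universe u

/-!
# Gradings on invariants
-/

open TensorProduct

namespace Groth.Agent.Books.AdKD

open Groth.Agent.Books.AdLen

namespace KD

variable {R : Type u} [CommRing R] {V W U : Type u} [AddCommGroup V] [Module R V]
  [AddCommGroup W] [Module R W] [AddCommGroup U] [Module R U]
  {Y : Type u} [AddCommGroup Y] [Module R Y]

namespace Gr

variable {K : KD R V} {L : KD R W} {N N' : ℕ} {g : ℕ → V →ₗ[R] V} {g' : ℕ → W →ₗ[R] W}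

/-- testing equalities on homogeneous elements -/
theorem ext1 (h : K.Gr N g) {F G : V →ₗ[R] Y} (hF : ∀ x, F (K.pi x) = F x)
    (hG : ∀ x, G (K.pi x) = G x) (hg : ∀ i x, F (g i x) = G (g i x)) (x : V) : F x = G x := by
  rw [← hF, ← hG, ← h.sum, map_sum, map_sum]
  exact Finset.sum_congr rfl fun i _ => hg i x

theorem ext2 (h : K.Gr N g) (h' : L.Gr N' g') {F G : V ⊗[R] W →ₗ[R] Y}
    (hF : ∀ x, F ((K.tensor L).pi x) = F x)
    (hG : ∀ x, G ((K.tensor L).pi x) = G x)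
    (hg : ∀ i j x, F (TensorProduct.map (g i) (g' j) x) = G (TensorProduct.map (g i) (g' j) x))
    (x : V ⊗[R] W) : F x = G x := by
  refine (h.tensor h').ext1 hF hG (fun k x => ?_) x
  rw [tf, LinearMap.sum_apply, map_sum, map_sum]
  exact Finset.sum_congr rfl fun p _ => hg _ _ x

theorem ext3 {M : KD R U} {N'' : ℕ} {g'' : ℕ → U →ₗ[R] U} (h : K.Gr N g) (h' : L.Gr N' g')
    (h'' : M.Gr N'' g'') {F G : V ⊗[R] (W ⊗[R] U) →ₗ[R] Y}
    (hF : ∀ x, F ((K.tensor (L.tensor M)).pi x) = F x)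
    (hG : ∀ x, G ((K.tensor (L.tensor M)).pi x) = G x)
    (hg : ∀ i j l x, F (TensorProduct.map (g i) (TensorProduct.map (g' j) (g'' l)) x) =
      G (TensorProduct.map (g i) (TensorProduct.map (g' j) (g'' l)) x))
    (x : V ⊗[R] (W ⊗[R] U)) : F x = G x := by
  refine ext2 h (h'.tensor h'') hF hG (fun i k x => ?_) x
  have : TensorProduct.map (g i) (tf g' g'' k) x =
      ∑ p ∈ Finset.antidiagonal k, TensorProduct.map (g i) (TensorProduct.map (g' p.1) (g'' p.2)) x := by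
    rw [← LinearMap.sum_apply]
    refine lin_eq (F := TensorProduct.map (g i) (tf g' g'' k))
      (G := ∑ p ∈ Finset.antidiagonal k, TensorProduct.map (g i) (TensorProduct.map (g' p.1) (g'' p.2)))
      (fun x y => ?_) x
    rw [map_tmul, tf, LinearMap.sum_apply, LinearMap.sum_apply, tmul_sum]
    exact Finset.sum_congr rfl fun p _ => by rw [map_tmul]
  rw [this, map_sum, map_sum]
  exact Finset.sum_congr rfl fun p _ => hg _ _ _ x

theorem s2_comm (h : K.Gr N g) (k : ℕ) (z : V ⊗[R] V) :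
    s2 K (tf g g k z) = tf g g k (s2 K z) := by
  have hT := h.tensor h
  refine ext2 h h (F := s2 K ∘ₗ tf g g k) (G := tf g g k ∘ₗ s2 K) ?_ ?_ ?_ z
  · intro x
    rw [LinearMap.comp_apply, hT.g_pi]; rfl
  · intro x
    rw [LinearMap.comp_apply, (cyc_s2 K).spi]; rfl
  · intro i j x
    rw [LinearMap.comp_apply, LinearMap.comp_apply, h.oi.tf_selT h.oi,
      s2_nat (h.comm_p i) (h.comm_p j), h.oi.tf_selT h.oi, add_comm j i]
    split_ifs
    · rw [s2_nat (h.comm_p i) (h.comm_p j)]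
    · rw [map_zero]

theorem tf_selT3 {M : KD R U} {N'' : ℕ} {g'' : ℕ → U →ₗ[R] U} (h : K.Gr N g) (h' : L.Gr N' g')
    (h'' : M.Gr N'' g'') (k i j l : ℕ) (z : V ⊗[R] (W ⊗[R] U)) :
    tf g (tf g' g'') k (TensorProduct.map (g i) (TensorProduct.map (g' j) (g'' l)) z) =
      if i + (j + l) = k then TensorProduct.map (g i) (TensorProduct.map (g' j) (g'' l)) z else 0 := by
  have e : TensorProduct.map (g i) (TensorProduct.map (g' j) (g'' l)) z =
      TensorProduct.map (g i) (tf g' g'' (j + l))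
        (TensorProduct.map (g i) (TensorProduct.map (g' j) (g'' l)) z) := by
    refine lin_eq (F := TensorProduct.map (g i) (TensorProduct.map (g' j) (g'' l)))
      (G := TensorProduct.map (g i) (tf g' g'' (j + l)) ∘ₗ
        (TensorProduct.map (g i) (TensorProduct.map (g' j) (g'' l)))) (fun x y => ?_) z
    rw [LinearMap.comp_apply, map_tmul, map_tmul, h.oi.ee, h'.oi.tf_selT h''.oi, if_pos rfl]
  rw [e, h.oi.tf_selT (h'.oi.tensor h''.oi)]

theorem s3_comm (h : K.Gr N g) (k : ℕ) (z : V ⊗[R] (V ⊗[R] V)) :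
    s3 K (tf g (tf g g) k z) = tf g (tf g g) k (s3 K z) := by
  have hT := h.tensor (h.tensor h)
  refine ext3 h h h (F := s3 K ∘ₗ tf g (tf g g) k) (G := tf g (tf g g) k ∘ₗ s3 K) ?_ ?_ ?_ z
  · intro x
    rw [LinearMap.comp_apply, hT.g_pi]; rfl
  · intro x
    rw [LinearMap.comp_apply, (cyc_s3 K).spi]; rfl
  · intro i j l x
    rw [LinearMap.comp_apply, LinearMap.comp_apply, tf_selT3 h h h,
      s3_nat (h.comm_p i) (h.comm_p j) (h.comm_p l), tf_selT3 h h h, show j + (l + i) = i + (j + l) by omega]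
    split_ifs
    · rw [s3_nat (h.comm_p i) (h.comm_p j) (h.comm_p l)]
    · rw [map_zero]

theorem A2 [Invertible ((2 : ℕ) : R)] (h : K.Gr N g) :
    (KD.A2 K).Gr (N + N) (fun k => tf g g k ∘ₗ av 2 (s2 K)) :=
  (h.tensor h).cut (cyc_s2 K).cen_av
    (fun k x => (av_comm (e := tf g g k) (fun z => (h.s2_comm k z).symm) x))

theorem A3 [Invertible ((3 : ℕ) : R)] (h : K.Gr N g) :
    (KD.A3 K).Gr (N + (N + N)) (fun k => tf g (tf g g) k ∘ₗ av 3 (s3 K)) :=
  (h.tensor (h.tensor h)).cut (cyc_s3 K).cen_av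
    (fun k x => (av_comm (e := tf g (tf g g) k) (fun z => (h.s3_comm k z).symm) x))

end Gr

/-- existence of a grading -/
def IsGr (K : KD R V) : Prop := ∃ N g, K.Gr N g

theorem IsGr.tensor {K : KD R V} {L : KD R W} (h : K.IsGr) (h' : L.IsGr) : (K.tensor L).IsGr := by
  obtain ⟨N, g, h⟩ := h
  obtain ⟨N', g', h'⟩ := h'
  exact ⟨_, _, h.tensor h'⟩

theorem IsGr.sh {K : KD R V} (h : K.IsGr) : (KD.sh K).IsGr := by
  obtain ⟨N, g, h⟩ := h
  exact ⟨_, _, h.sh⟩

theorem IsGr.A2 [Invertible ((2 : ℕ) : R)] {K : KD R V} (h : K.IsGr) : (KD.A2 K).IsGr := by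
  obtain ⟨N, g, h⟩ := h
  exact ⟨_, _, h.A2⟩

theorem IsGr.A3 [Invertible ((3 : ℕ) : R)] {K : KD R V} (h : K.IsGr) : (KD.A3 K).IsGr := by
  obtain ⟨N, g, h⟩ := h
  exact ⟨_, _, h.A3⟩

theorem IsGr.one : (KD.one R).IsGr := ⟨_, _, Gr.one⟩

theorem IsGr.kos (a : R) : (KD.kos a).IsGr :=
  ⟨_, _, Gr.one.cone Gr.one _ (fun i x => by simp only [LinearMap.smul_apply, LinearMap.id_apply, map_smul])⟩

end KD

end Groth.Agent.Books.AdKD
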