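import Groth.Agent.Books.AdLen

set_option autoImplicit false
universe u

/-!
# `ℤ/2`-graded differential modules given by projections (a Karoubi version)

A `KD R V` is a differential `d` on `V` together with two orthogonal projections `p false` (even part)
and `p true` (odd part); the sum of the projections need not be the identity.
-/

namespace Groth.Agent.Books.AdKD

open Groth.Agent.Books.AdLen

/-- `ℤ/2`-graded differential module structure, given by projections. -/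
structure KD (R : Type u) [CommRing R] (V : Type u) [AddCommGroup V] [Module R V] where
  /-- the differential -/
  d : V →ₗ[R] V
  /-- the projections on even and odd part -/
  p : Bool → V →ₗ[R] V
  pp : ∀ a x, p a (p a x) = p a x
  pn : ∀ a x, p a (p (!a) x) = 0
  dp : ∀ a x, d (p a x) = p (!a) (d x)
  dd : ∀ x, d (d x) = 0
  dpi : ∀ x, d (p false x + p true x) = d x

namespace KD

variable {R : Type u} [CommRing R] {V W : Type u} [AddCommGroup V] [Module R V]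
  [AddCommGroup W] [Module R W]

@[ext] theorem ext {K L : KD R V} (h1 : ∀ x, K.d x = L.d x) (h2 : ∀ a x, K.p a x = L.p a x) :
    K = L := by
  cases K; cases L
  congr
  · exact LinearMap.ext h1
  · funext a
    exact LinearMap.ext (h2 a)

variable (K : KD R V)

/-- total projection -/
def pi : V →ₗ[R] V := K.p false + K.p true

/-- the sign operator -/
def eps : V →ₗ[R] V := K.p false - K.p true

theorem pi_apply (x : V) : K.pi x = K.p false x + K.p true x := rfl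
theorem eps_apply (x : V) : K.eps x = K.p false x - K.p true x := rfl

theorem ppn (a b : Bool) (x : V) : K.p a (K.p b x) = if a = b then K.p b x else 0 := by
  cases a <;> cases b
  · simpa using K.pp false x
  · simpa using K.pn false x
  · simpa using K.pn true x
  · simpa using K.pp true x

theorem p_pi (a : Bool) (x : V) : K.p a (K.pi x) = K.p a x := by
  cases a <;> simp [pi_apply, ppn]

theorem pi_p (a : Bool) (x : V) : K.pi (K.p a x) = K.p a x := by
  cases a <;> simp [pi_apply, ppn]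

theorem pi_pi (x : V) : K.pi (K.pi x) = K.pi x := by
  simp [pi_apply, ppn]

theorem d_pi (x : V) : K.d (K.pi x) = K.d x := K.dpi x

theorem pi_d (x : V) : K.pi (K.d x) = K.d x := by
  have h1 := K.dp true x
  have h2 := K.dp false x
  simp only [Bool.not_true, Bool.not_false] at h1 h2
  rw [pi_apply, ← h1, ← h2, ← map_add, add_comm, K.dpi]

theorem p_d (a : Bool) (x : V) : K.p a (K.d x) = K.d (K.p (!a) x) := by
  rw [K.dp, Bool.not_not]

/-- cycles of parity `a` -/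
def Z (a : Bool) : Submodule R V where
  carrier := {x | K.d x = 0 ∧ K.p a x = x}
  add_mem' := by
    rintro x y ⟨h1, h2⟩ ⟨h3, h4⟩
    exact ⟨by rw [map_add, h1, h3, add_zero], by rw [map_add, h2, h4]⟩
  zero_mem' := ⟨map_zero _, map_zero _⟩
  smul_mem' := by
    rintro c x ⟨h1, h2⟩
    exact ⟨by rw [map_smul, h1, smul_zero], by rw [map_smul, h2]⟩

/-- boundaries of parity `a` -/
def B (a : Bool) : Submodule R V where
  carrier := {x | ∃ y, K.p (!a) y = y ∧ K.d y = x}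
  add_mem' := by
    rintro x y ⟨x', h1, h2⟩ ⟨y', h3, h4⟩
    exact ⟨x' + y', by rw [map_add, h1, h3], by rw [map_add, h2, h4]⟩
  zero_mem' := ⟨0, map_zero _, map_zero _⟩
  smul_mem' := by
    rintro c x ⟨x', h1, h2⟩
    exact ⟨c • x', by rw [map_smul, h1], by rw [map_smul, h2]⟩

theorem mem_Z {a : Bool} {x : V} : x ∈ K.Z a ↔ K.d x = 0 ∧ K.p a x = x := Iff.rfl
theorem mem_B {a : Bool} {x : V} : x ∈ K.B a ↔ ∃ y, K.p (!a) y = y ∧ K.d y = x := Iff.rfl

theorem B_le_Z (a : Bool) : K.B a ≤ K.Z a := by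
  rintro x ⟨y, h1, rfl⟩
  refine ⟨K.dd y, ?_⟩
  rw [K.p_d, h1]

theorem d_mem_B {a : Bool} {y : V} (h : K.p (!a) y = y) : K.d y ∈ K.B a := ⟨y, h, rfl⟩

/-- length of homology -/
noncomputable def hl (ℓ : LenFun R) (a : Bool) : ℕ∞ := ℓ.rel (K.B a) (K.Z a)

/-- finite homology -/
def Fin (ℓ : LenFun R) : Prop := ∀ a, K.hl ℓ a ≠ ⊤

/-- Euler characteristic -/
noncomputable def chi (ℓ : LenFun R) : ℤ := ((K.hl ℓ false).toNat : ℤ) - ((K.hl ℓ true).toNat : ℤ)

/-- compression by an idempotent -/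
def cut (e : V →ₗ[R] V) (he : ∀ x, e (e x) = e x) (hp : ∀ a x, e (K.p a x) = K.p a (e x))
    (hd : ∀ x, e (K.d (e (K.d (e x)))) = 0) : KD R V where
  d := e ∘ₗ K.d ∘ₗ e
  p a := K.p a ∘ₗ e
  pp a x := by simp [hp, he, K.ppn]
  pn a x := by simp [hp, he, K.pn]
  dp a x := by simp [hp, he, K.dp]
  dd x := by simp [he, hd]
  dpi x := by
    simp only [LinearMap.comp_apply]
    rw [map_add e, hp, hp, he, K.dpi]

/-- complementary idempotent -/
def co (e : V →ₗ[R] V) : V →ₗ[R] V := LinearMap.id - e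

theorem co_apply (e : V →ₗ[R] V) (x : V) : co e x = x - e x := rfl

/-- A good idempotent with stable range. -/
structure Stab (e : V →ₗ[R] V) : Prop where
  ee : ∀ x, e (e x) = e x
  ep : ∀ a x, e (K.p a x) = K.p a (e x)
  ed : ∀ x, K.d (e x) = e (K.d (e x))

namespace Stab

variable {K} {e : V →ₗ[R] V} (h : K.Stab e)
include h

theorem co_co (x : V) : co e (co e x) = co e x := by
  simp [co_apply, h.ee]

theorem e_co (x : V) : e (co e x) = 0 := by
  simp [co_apply, h.ee]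

theorem co_e (x : V) : co e (e x) = 0 := by
  simp [co_apply, h.ee]

theorem co_p (a : Bool) (x : V) : co e (K.p a x) = K.p a (co e x) := by
  simp [co_apply, h.ep]

theorem hd1 (x : V) : e (K.d (e (K.d (e x)))) = 0 := by
  rw [← h.ed, ← h.ed, K.dd]

theorem co_d_co (x : V) : co e (K.d (co e x)) = co e (K.d x) := by
  conv_lhs => rw [co_apply e x, map_sub, map_sub, h.ed, h.co_e, sub_zero]

theorem hd2 (x : V) : co e (K.d (co e (K.d (co e x)))) = 0 := by
  rw [h.co_d_co, K.dd, map_zero]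

end Stab

/-- the sub-object cut out by `e` -/
def sub {K : KD R V} {e : V →ₗ[R] V} (h : K.Stab e) : KD R V := K.cut e h.ee h.ep h.hd1
/-- the quotient object cut out by `1 - e` -/
def quo {K : KD R V} {e : V →ₗ[R] V} (h : K.Stab e) : KD R V := K.cut (co e) h.co_co h.co_p h.hd2

section Add

variable {K} (ℓ : LenFun R) {e : V →ₗ[R] V} (h : K.Stab e)

theorem sub_d (x : V) : (sub h).d x = e (K.d (e x)) := rfl
theorem sub_p (a : Bool) (x : V) : (sub h).p a x = K.p a (e x) := rfl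
theorem quo_d (x : V) : (quo h).d x = co e (K.d (co e x)) := rfl
theorem quo_p (a : Bool) (x : V) : (quo h).p a x = K.p a (co e x) := rfl

theorem mem_sub_range {a : Bool} {x : V} : (sub h).p a x = x ↔ K.p a x = x ∧ e x = x := by
  rw [sub_p]
  constructor
  · intro hx
    have h1 : K.p a x = x := by rw [← hx, K.pp]
    refine ⟨h1, ?_⟩
    rw [← hx, h.ep, h.ee]
  · rintro ⟨h1, h2⟩
    rw [h2, h1]

theorem mem_quo_range {a : Bool} {x : V} : (quo h).p a x = x ↔ K.p a x = x ∧ e x = 0 := by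
  rw [quo_p]
  constructor
  · intro hx
    have h1 : K.p a x = x := by rw [← hx, K.pp]
    refine ⟨h1, ?_⟩
    rw [← hx, h.ep, h.e_co, map_zero]
  · rintro ⟨h1, h2⟩
    rw [co_apply, h2, sub_zero, h1]

theorem mem_Z_sub {a : Bool} {x : V} : x ∈ (sub h).Z a ↔ K.d x = 0 ∧ K.p a x = x ∧ e x = x := by
  rw [mem_Z, mem_sub_range, sub_d]
  constructor
  · rintro ⟨h1, h2, h3⟩
    refine ⟨?_, h2, h3⟩
    rw [← h.ed, h3] at h1
    exact h1
  · rintro ⟨h1, h2, h3⟩
    refine ⟨?_, h2, h3⟩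
    rw [h3, h1, map_zero]

theorem mem_B_sub {a : Bool} {x : V} :
    x ∈ (sub h).B a ↔ ∃ y, K.p (!a) y = y ∧ e y = y ∧ K.d y = x := by
  rw [mem_B]
  constructor
  · rintro ⟨y, h1, h2⟩
    rw [mem_sub_range] at h1
    rw [sub_d, ← h.ed, h1.2] at h2
    exact ⟨y, h1.1, h1.2, h2⟩
  · rintro ⟨y, h1, h2, h3⟩
    refine ⟨y, (mem_sub_range h).mpr ⟨h1, h2⟩, ?_⟩
    rw [sub_d, ← h.ed, h2, h3]

theorem mem_Z_quo {a : Bool} {x : V} :
    x ∈ (quo h).Z a ↔ co e (K.d x) = 0 ∧ K.p a x = x ∧ e x = 0 := by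
  rw [mem_Z, mem_quo_range, quo_d, h.co_d_co]

theorem mem_B_quo {a : Bool} {x : V} :
    x ∈ (quo h).B a ↔ ∃ y, K.p (!a) y = y ∧ e y = 0 ∧ co e (K.d y) = x := by
  rw [mem_B]
  constructor
  · rintro ⟨y, h1, h2⟩
    rw [mem_quo_range] at h1
    rw [quo_d, h.co_d_co] at h2
    exact ⟨y, h1.1, h1.2, h2⟩
  · rintro ⟨y, h1, h2, h3⟩
    refine ⟨y, (mem_quo_range h).mpr ⟨h1, h2⟩, ?_⟩
    rw [quo_d, h.co_d_co, h3]

theorem e_of_co_d {x : V} (hx : co e (K.d x) = 0) : e (K.d x) = K.d x := by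
  rw [co_apply, sub_eq_zero] at hx
  exact hx.symm

theorem hl_eq (a : Bool) :
    K.hl ℓ a = ℓ.rel (K.B a) ((sub h).Z a) + ℓ.rel ((quo h).B a) ((K.Z a).map (co e)) := by
  have h1 : K.B a ≤ K.B a ⊔ (sub h).Z a := le_sup_left
  have h2 : K.B a ⊔ (sub h).Z a ≤ K.Z a := by
    refine sup_le (K.B_le_Z a) ?_
    intro x hx
    rw [mem_Z_sub] at hx
    exact ⟨hx.1, hx.2.1⟩
  rw [hl, ℓ.rel_trans h1 h2, ℓ.rel_sup]
  congr 1
  apply ℓ.rel_congr (co e) le_rfl le_sup_right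
  · intro x hx hx'
    rw [mem_B_quo] at hx'
    obtain ⟨y, h3, h4, h5⟩ := hx'
    have hxy : co e (x - K.d y) = 0 := by rw [map_sub, h5, sub_self]
    have h6 : x - K.d y ∈ (sub h).Z a := by
      rw [mem_Z_sub]
      refine ⟨?_, ?_, ?_⟩
      · rw [map_sub, hx.1, K.dd, sub_self]
      · rw [map_sub, hx.2, K.p_d, h3]
      · rw [co_apply, sub_eq_zero] at hxy
        exact hxy.symm
    have h7 : x = K.d y + (x - K.d y) := by abel
    rw [h7]
    exact Submodule.add_mem_sup (K.d_mem_B h3) h6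
  · rintro _ ⟨x, hx, rfl⟩
    obtain ⟨u, hu, v, hv, rfl⟩ := Submodule.mem_sup.mp hx
    obtain ⟨y, h3, rfl⟩ := hu
    rw [mem_Z_sub] at hv
    rw [mem_B_quo]
    refine ⟨co e y, ?_, h.e_co y, ?_⟩
    · rw [← h.co_p, h3]
    · rw [h.co_d_co, map_add, co_apply e v, hv.2.2, sub_self, add_zero]
  · intro x hx
    rw [mem_B_quo] at hx
    obtain ⟨y, h3, h4, rfl⟩ := hx
    exact ⟨K.d y, ⟨K.dd y, by rw [K.p_d, h3]⟩, rfl⟩

theorem B_sub_le (a : Bool) : (sub h).B a ≤ K.B a ⊓ (sub h).Z a := by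
  intro x hx
  refine ⟨?_, (sub h).B_le_Z a hx⟩
  rw [mem_B_sub] at hx
  obtain ⟨y, h1, h2, rfl⟩ := hx
  exact ⟨y, h1, rfl⟩

theorem hl_sub (a : Bool) :
    (sub h).hl ℓ a = ℓ.rel ((sub h).B a) (K.B a ⊓ (sub h).Z a) + ℓ.rel (K.B a) ((sub h).Z a) := by
  rw [hl, ℓ.rel_trans (B_sub_le h a) inf_le_right, inf_comm (K.B a), ℓ.rel_inf']

theorem hl_quo (a : Bool) :
    (quo h).hl ℓ a = ℓ.rel ((quo h).B a) ((K.Z a).map (co e)) +
      ℓ.rel ((sub h).B (!a)) (K.B (!a) ⊓ (sub h).Z (!a)) := by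
  have h1 : (quo h).B a ≤ (K.Z a).map (co e) := by
    intro x hx
    rw [mem_B_quo] at hx
    obtain ⟨y, h3, h4, rfl⟩ := hx
    exact ⟨K.d y, ⟨K.dd y, by rw [K.p_d, h3]⟩, rfl⟩
  have h2 : (K.Z a).map (co e) ≤ (quo h).Z a := by
    rintro _ ⟨x, hx, rfl⟩
    rw [mem_Z_quo]
    refine ⟨?_, ?_, h.e_co x⟩
    · rw [h.co_d_co, hx.1, map_zero]
    · rw [← h.co_p, hx.2]
  rw [hl, ℓ.rel_trans h1 h2]
  congr 1
  apply ℓ.rel_congr K.d
  · rintro _ ⟨x, hx, rfl⟩
    have hx' := hx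
    rw [SetLike.mem_coe, mem_Z_quo] at hx
    refine ⟨K.d_mem_B (by rw [Bool.not_not]; exact hx.2.1), ?_⟩
    rw [SetLike.mem_coe, mem_Z_sub]
    refine ⟨K.dd x, ?_, e_of_co_d hx.1⟩
    rw [K.p_d, Bool.not_not, hx.2.1]
  · rintro y ⟨hy1, hy2⟩
    obtain ⟨x, h3, rfl⟩ := hy1
    rw [Bool.not_not] at h3
    rw [SetLike.mem_coe, mem_Z_sub] at hy2
    have h4 : K.d x = K.d (e x) + K.d (co e x) := by
      rw [← map_add, co_apply]; congr 1; abel
    rw [h4]
    apply Submodule.add_mem_sup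
    · rw [mem_B_sub]
      refine ⟨e x, ?_, h.ee x, rfl⟩
      rw [← h.ep, Bool.not_not, h3]
    · refine ⟨co e x, ?_, rfl⟩
      rw [SetLike.mem_coe, mem_Z_quo]
      refine ⟨?_, ?_, h.e_co x⟩
      · rw [h.co_d_co, co_apply, hy2.2.2, sub_self]
      · rw [← h.co_p, h3]
  · intro x hx hx'
    rw [mem_Z_quo] at hx
    rw [mem_B_sub] at hx'
    obtain ⟨y, h3, h4, h5⟩ := hx'
    rw [Bool.not_not] at h3
    refine ⟨x - y, ⟨?_, ?_⟩, ?_⟩
    · rw [map_sub, h5, sub_self]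
    · rw [map_sub, hx.2.1, h3]
    · rw [co_apply, map_sub, hx.2.2, h4]
      abel
  · rintro _ ⟨_, ⟨z, hz, rfl⟩, rfl⟩
    rw [mem_B_sub]
    refine ⟨- e z, ?_, ?_, ?_⟩
    · rw [map_neg, Bool.not_not, ← h.ep, hz.2]
    · rw [map_neg, h.ee]
    · rw [map_neg, co_apply, map_sub, hz.1, zero_sub]
  · exact B_sub_le h (!a)

variable {ℓ}

theorem fin_of_sub_quo (h1 : (sub h).Fin ℓ) (h2 : (quo h).Fin ℓ) : K.Fin ℓ := by
  intro a
  have e1 := h1 a
  have e2 := h2 a
  rw [hl_sub] at e1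
  rw [hl_quo] at e2
  rw [hl_eq ℓ h]
  exact WithTop.add_ne_top.mpr ⟨(WithTop.add_ne_top.mp e1).2, (WithTop.add_ne_top.mp e2).1⟩

theorem chi_add (h1 : (sub h).Fin ℓ) (h2 : (quo h).Fin ℓ) :
    K.chi ℓ = (sub h).chi ℓ + (quo h).chi ℓ := by
  have e0 := fun a => hl_eq ℓ h a
  have e1 := fun a => hl_sub ℓ h a
  have e2 := fun a => hl_quo ℓ h a
  have f1 : ∀ a, ℓ.rel ((sub h).B a) (K.B a ⊓ (sub h).Z a) ≠ ⊤ ∧ ℓ.rel (K.B a) ((sub h).Z a) ≠ ⊤ := by
    intro a
    have := h1 a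
    rw [e1] at this
    exact WithTop.add_ne_top.mp this
  have f2 : ∀ a, ℓ.rel ((quo h).B a) ((K.Z a).map (co e)) ≠ ⊤ := by
    intro a
    have := h2 a
    rw [e2] at this
    exact (WithTop.add_ne_top.mp this).1
  unfold chi
  rw [e0, e0, e1, e1, e2, e2]
  rw [ENat.toNat_add (f1 _).2 (f2 _), ENat.toNat_add (f1 _).2 (f2 _),
    ENat.toNat_add (f1 _).1 (f1 _).2, ENat.toNat_add (f1 _).1 (f1 _).2,
    ENat.toNat_add (f2 _) (f1 _).1, ENat.toNat_add (f2 _) (f1 _).1]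
  push_cast
  simp only [Bool.not_false, Bool.not_true]
  ring

end Add

end KD

end Groth.Agent.Books.AdKD
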