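import Groth.Agent.Books.AdKD

set_option autoImplicit false
universe u

/-!
# Isomorphism invariance, general cuts, homotopy annihilators, finiteness
-/

namespace Groth.Agent.Books.AdKD

open Groth.Agent.Books.AdLen

namespace KD

variable {R : Type u} [CommRing R] {V W U : Type u} [AddCommGroup V] [Module R V]
  [AddCommGroup W] [Module R W] [AddCommGroup U] [Module R U]

/-- An even chain map. -/
structure IsHom (K : KD R V) (L : KD R W) (f : V →ₗ[R] W) : Prop where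
  fd : ∀ x, f (K.d x) = L.d (f x)
  fp : ∀ a x, f (K.p a x) = L.p a (f x)

namespace IsHom

variable {K : KD R V} {L : KD R W} {M : KD R U} {f : V →ₗ[R] W} {g : W →ₗ[R] U}

theorem pi (h : IsHom K L f) (x : V) : f (K.pi x) = L.pi (f x) := by
  simp [KD.pi_apply, h.fp]

theorem eps (h : IsHom K L f) (x : V) : f (K.eps x) = L.eps (f x) := by
  simp [KD.eps_apply, h.fp]

theorem comp (h : IsHom K L f) (h' : IsHom L M g) : IsHom K M (g ∘ₗ f) where
  fd x := by simp [h.fd, h'.fd]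
  fp a x := by simp [h.fp, h'.fp]

theorem id (K : KD R V) : IsHom K K LinearMap.id := ⟨fun _ => rfl, fun _ _ => rfl⟩

theorem add {f' : V →ₗ[R] W} (h : IsHom K L f) (h' : IsHom K L f') : IsHom K L (f + f') where
  fd x := by simp [h.fd, h'.fd]
  fp a x := by simp [h.fp, h'.fp]

theorem smul (r : R) (h : IsHom K L f) : IsHom K L (r • f) where
  fd x := by simp [h.fd]
  fp a x := by simp [h.fp]

end IsHom

/-- Karoubi isomorphism data. -/
structure IsIso (K : KD R V) (L : KD R W) (f : V →ₗ[R] W) (g : W →ₗ[R] V) : Prop where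
  hf : IsHom K L f
  hg : IsHom L K g
  gf : ∀ x, g (f (K.pi x)) = K.pi x
  fg : ∀ x, f (g (L.pi x)) = L.pi x

theorem pi_of_p {K : KD R V} {a : Bool} {x : V} (h : K.p a x = x) : K.pi x = x := by
  rw [← h, K.pi_p]

theorem hl_le_of_iso {K : KD R V} {L : KD R W} {f : V →ₗ[R] W} {g : W →ₗ[R] V}
    (h : IsIso K L f g) (ℓ : LenFun R) (a : Bool) : K.hl ℓ a = L.hl ℓ a := by
  unfold hl
  apply ℓ.rel_congr f
  · rintro _ ⟨x, hx, rfl⟩
    exact ⟨by rw [← h.hf.fd, hx.1, map_zero], by rw [← h.hf.fp, hx.2]⟩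
  · intro y hy
    apply Submodule.mem_sup_right
    refine ⟨g y, ⟨?_, ?_⟩, ?_⟩
    · rw [← h.hg.fd, hy.1, map_zero]
    · rw [← h.hg.fp, hy.2]
    · have := h.fg y
      rwa [pi_of_p hy.2] at this
  · rintro x hx ⟨y, hy, hy2⟩
    refine ⟨g y, by rw [← h.hg.fp, hy], ?_⟩
    rw [← h.hg.fd, hy2]
    have := h.gf x
    rwa [pi_of_p hx.2] at this
  · rintro _ ⟨_, ⟨y, hy, rfl⟩, rfl⟩
    exact ⟨f y, by rw [← h.hf.fp, hy], by rw [h.hf.fd]⟩
  · exact L.B_le_Z a

theorem chi_congr {K : KD R V} {L : KD R W} {f : V →ₗ[R] W} {g : W →ₗ[R] V}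
    (h : IsIso K L f g) (ℓ : LenFun R) : K.chi ℓ = L.chi ℓ := by
  unfold chi
  rw [hl_le_of_iso h, hl_le_of_iso h]

theorem fin_congr {K : KD R V} {L : KD R W} {f : V →ₗ[R] W} {g : W →ₗ[R] V}
    (h : IsIso K L f g) (ℓ : LenFun R) : K.Fin ℓ ↔ L.Fin ℓ := by
  unfold Fin
  simp only [hl_le_of_iso h]

theorem IsIso.symm {K : KD R V} {L : KD R W} {f : V →ₗ[R] W} {g : W →ₗ[R] V}
    (h : IsIso K L f g) : IsIso L K g f := ⟨h.hg, h.hf, h.fg, h.gf⟩

theorem IsIso.trans {K : KD R V} {L : KD R W} {M : KD R U} {f : V →ₗ[R] W} {g : W →ₗ[R] V}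
    {f' : W →ₗ[R] U} {g' : U →ₗ[R] W}
    (h : IsIso K L f g) (h' : IsIso L M f' g') : IsIso K M (f' ∘ₗ f) (g ∘ₗ g') where
  hf := h.hf.comp h'.hf
  hg := h'.hg.comp h.hg
  gf x := by
    simp only [LinearMap.comp_apply]
    rw [h.hf.pi, h'.gf, ← h.hf.pi, h.gf]
  fg x := by
    simp only [LinearMap.comp_apply]
    rw [h'.hg.pi, h.fg, ← h'.hg.pi, h'.fg]

/-- A good idempotent. -/
structure Good (K : KD R V) (e : V →ₗ[R] V) : Prop where
  ee : ∀ x, e (e x) = e x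
  ep : ∀ a x, e (K.p a x) = K.p a (e x)
  ed : ∀ x, e (K.d (e (K.d (e x)))) = 0

/-- compression -/
def cutG {K : KD R V} {e : V →ₗ[R] V} (h : K.Good e) : KD R V := K.cut e h.ee h.ep h.ed

theorem cutG_d {K : KD R V} {e : V →ₗ[R] V} (h : K.Good e) (x : V) :
    (cutG h).d x = e (K.d (e x)) := rfl
theorem cutG_p {K : KD R V} {e : V →ₗ[R] V} (h : K.Good e) (a : Bool) (x : V) :
    (cutG h).p a x = K.p a (e x) := rfl

theorem Good.epi {K : KD R V} {e : V →ₗ[R] V} (h : K.Good e) (x : V) :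
    e (K.pi x) = K.pi (e x) := by simp [pi_apply, h.ep]

theorem cutG_pi {K : KD R V} {e : V →ₗ[R] V} (h : K.Good e) (x : V) :
    (cutG h).pi x = K.pi (e x) := rfl

theorem cutG_eps {K : KD R V} {e : V →ₗ[R] V} (h : K.Good e) (x : V) :
    (cutG h).eps x = K.eps (e x) := rfl

/-- idempotent commuting with everything -/
structure Cen (K : KD R V) (e : V →ₗ[R] V) : Prop where
  ee : ∀ x, e (e x) = e x
  ep : ∀ a x, e (K.p a x) = K.p a (e x)
  ed : ∀ x, e (K.d x) = K.d (e x)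

theorem Cen.good {K : KD R V} {e : V →ₗ[R] V} (h : K.Cen e) : K.Good e :=
  ⟨h.ee, h.ep, fun x => by simp only [h.ed, h.ee, K.dd, map_zero]⟩

theorem Stab.good {K : KD R V} {e : V →ₗ[R] V} (h : K.Stab e) : K.Good e :=
  ⟨h.ee, h.ep, h.hd1⟩

theorem Cen.stab {K : KD R V} {e : V →ₗ[R] V} (h : K.Cen e) : K.Stab e :=
  ⟨h.ee, h.ep, fun x => by rw [h.ed, h.ee]⟩

theorem Cen.co {K : KD R V} {e : V →ₗ[R] V} (h : K.Cen e) : K.Cen (co e) :=
  ⟨h.stab.co_co, h.stab.co_p, fun x => by simp [co_apply, h.ed]⟩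

theorem Cen.isHom {K : KD R V} {e : V →ₗ[R] V} (h : K.Cen e) : IsHom K K e := ⟨h.ed, h.ep⟩

theorem Cen.cut_d {K : KD R V} {e : V →ₗ[R] V} (h : K.Cen e) (x : V) :
    (cutG h.good).d x = e (K.d x) := by
  rw [cutG_d, ← h.ed, h.ee]

/-- homotopy annihilator -/
def ann (K : KD R V) : Ideal R where
  carrier := {y | ∃ s : V →ₗ[R] V, (∀ a x, s (K.p a x) = K.p (!a) (s x)) ∧
    ∀ x, K.d (s x) + s (K.d x) = y • K.pi x}
  add_mem' := by
    rintro y z ⟨s, h1, h2⟩ ⟨t, h3, h4⟩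
    refine ⟨s + t, fun a x => ?_, fun x => ?_⟩
    · simp [h1, h3]
    · simp only [LinearMap.add_apply, map_add, add_smul, ← h2, ← h4]
      abel
  zero_mem' := ⟨0, fun a x => by simp, fun x => by simp⟩
  smul_mem' := by
    rintro c y ⟨s, h1, h2⟩
    refine ⟨c • s, fun a x => ?_, fun x => ?_⟩
    · simp [h1]
    · simp only [LinearMap.smul_apply, map_smul, smul_eq_mul, mul_smul, ← h2, smul_add]

theorem mem_ann {K : KD R V} {y : R} : y ∈ K.ann ↔ ∃ s : V →ₗ[R] V,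
    (∀ a x, s (K.p a x) = K.p (!a) (s x)) ∧ ∀ x, K.d (s x) + s (K.d x) = y • K.pi x := Iff.rfl

/-- normalised homotopies -/
theorem mem_ann_iff_norm {K : KD R V} {y : R} : y ∈ K.ann ↔ ∃ s : V →ₗ[R] V,
    (∀ a x, s (K.p a x) = K.p (!a) (s x)) ∧ (∀ x, K.pi (s x) = s x) ∧ (∀ x, s (K.pi x) = s x) ∧
    ∀ x, K.d (s x) + s (K.d x) = y • K.pi x := by
  constructor
  · rintro ⟨s, h1, h2⟩
    have hpi : ∀ x, s (K.pi x) = K.pi (s x) := by
      intro x
      simp only [pi_apply, map_add, h1, Bool.not_true, Bool.not_false]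
      abel
    refine ⟨K.pi ∘ₗ s, ?_, ?_, ?_, ?_⟩
    · intro a x
      simp [h1, pi_p, p_pi]
    · intro x
      simp [pi_pi]
    · intro x
      simp [hpi, pi_pi]
    · intro x
      simp only [LinearMap.comp_apply]
      rw [K.d_pi]
      have := congrArg K.pi (h2 x)
      rw [map_add, map_smul, pi_pi, K.pi_d] at this
      exact this
  · rintro ⟨s, h1, -, -, h2⟩
    exact ⟨s, h1, h2⟩

theorem smul_mem_B {K : KD R V} {y : R} (hy : y ∈ K.ann) {a : Bool} {x : V} (hx : x ∈ K.Z a) :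
    y • x ∈ K.B a := by
  obtain ⟨s, h1, h2⟩ := hy
  have h3 := h2 x
  rw [hx.1, map_zero, add_zero, pi_of_p hx.2] at h3
  rw [← h3]
  apply K.d_mem_B
  have := h1 a x
  rw [hx.2] at this
  exact this.symm

theorem ann_of_iso {K : KD R V} {L : KD R W} {f : V →ₗ[R] W} {g : W →ₗ[R] V}
    (h : IsIso K L f g) : K.ann ≤ L.ann := by
  rintro y ⟨s, h1, h2⟩
  refine ⟨f ∘ₗ s ∘ₗ g, ?_, ?_⟩
  · intro a x
    simp only [LinearMap.comp_apply, h.hg.fp, h1, h.hf.fp]
  · intro x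
    simp only [LinearMap.comp_apply]
    rw [← h.hf.fd, h.hg.fd, ← map_add, h2, map_smul, ← h.hg.pi, h.fg]

theorem ann_cut {K : KD R V} {e : V →ₗ[R] V} (h : K.Cen e) : K.ann ≤ (cutG h.good).ann := by
  rintro y ⟨s, h1, h2⟩
  refine ⟨e ∘ₗ s ∘ₗ e, ?_, ?_⟩
  · intro a x
    simp only [LinearMap.comp_apply, cutG_p, h.ep, h1, h.ee]
  · intro x
    simp only [LinearMap.comp_apply, h.cut_d, cutG_pi]
    have A : e (K.d (e (s (e x)))) = e (K.d (s (e x))) := by rw [← h.ed, h.ee]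
    have B : e (s (e (e (K.d x)))) = e (s (K.d (e x))) := by rw [h.ee, h.ed]
    rw [A, B, ← map_add, h2, map_smul, h.good.epi, h.ee]

end KD

/-- smallness of an ideal with respect to a length function -/
def Small {R : Type u} [CommRing R] (ℓ : LenFun R) (J : Ideal R) : Prop := ℓ.len (R ⧸ J) ≠ ⊤

variable {R : Type u} [CommRing R]

theorem Small.mono {ℓ : LenFun R} {I J : Ideal R} (h : I ≤ J) (hI : Small ℓ I) : Small ℓ J :=
  ne_top_of_le_ne_top hI (ℓ.le_of_surjective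
    (Submodule.factor h) (Submodule.factor_surjective h))

theorem len_fg_induction {ℓ : LenFun R} {J : Ideal R} (Q : ℕ∞ → Prop)
    (hQ : ∀ a b, b ≤ a → Q a → Q b) (hQ' : ∀ a b, Q a → Q b → Q (a + b))
    (hJ : Q (ℓ.len (R ⧸ J)))
    {M : Type u} [AddCommGroup M] [Module R M] [Module.Finite R M]
    (hM : ∀ y ∈ J, ∀ m : M, y • m = 0) : Q (ℓ.len M) := by
  have key : ∀ N : Submodule R M, N.FG → Q (ℓ.len N) := by
    intro N hN
    refine Submodule.fg_induction (motive := fun N _ => Q (ℓ.len N)) ?_ ?_ N hN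
    · intro x
      refine hQ _ _ ?_ hJ
      let f : R →ₗ[R] (R ∙ x) := LinearMap.toSpanSingleton R (R ∙ x) ⟨x, Submodule.mem_span_singleton_self x⟩
      have hf : J ≤ LinearMap.ker f := by
        intro y hy
        rw [LinearMap.mem_ker]
        ext
        simp [f, hM y hy]
      refine ℓ.le_of_surjective (Submodule.liftQ J f hf) ?_
      rw [← LinearMap.range_eq_top, Submodule.range_liftQ, LinearMap.range_eq_top]
      rintro ⟨z, hz⟩
      obtain ⟨c, rfl⟩ := Submodule.mem_span_singleton.mp hz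
      exact ⟨c, by ext; simp [f]⟩
    · intro N₁ N₂ _ _ h1 h2
      rw [ℓ.len_eq_add_rel (le_sup_left : N₁ ≤ N₁ ⊔ N₂), ℓ.rel_sup]
      refine hQ' _ _ h1 (hQ _ _ ?_ h2)
      rw [← ℓ.rel_bot N₂]
      exact ℓ.rel_mono_left bot_le
  have := key ⊤ (Module.finite_def.mp inferInstance)
  rwa [ℓ.congr (Submodule.topEquiv)] at this

theorem rel_fg_induction [IsNoetherianRing R] {ℓ : LenFun R} {J : Ideal R} (Q : ℕ∞ → Prop)
    (hQ : ∀ a b, b ≤ a → Q a → Q b) (hQ' : ∀ a b, Q a → Q b → Q (a + b))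
    (hJ : Q (ℓ.len (R ⧸ J)))
    {V : Type u} [AddCommGroup V] [Module R V] [Module.Finite R V] {B Z : Submodule R V}
    (h : ∀ y ∈ J, ∀ z ∈ Z, y • z ∈ B) : Q (ℓ.rel B Z) := by
  unfold LenFun.rel
  apply len_fg_induction Q hQ hQ' hJ
  intro y hy m
  obtain ⟨z, rfl⟩ := Submodule.mkQ_surjective _ m
  rw [← map_smul, Submodule.mkQ_apply, Submodule.Quotient.mk_eq_zero]
  exact h y hy z z.2

theorem rel_ne_top_of_small [IsNoetherianRing R] {ℓ : LenFun R} {J : Ideal R} (hJ : Small ℓ J)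
    {V : Type u} [AddCommGroup V] [Module R V] [Module.Finite R V] {B Z : Submodule R V}
    (h : ∀ y ∈ J, ∀ z ∈ Z, y • z ∈ B) : ℓ.rel B Z ≠ ⊤ :=
  rel_fg_induction (fun a => a ≠ ⊤) (fun _ _ h1 h2 => ne_top_of_le_ne_top h2 h1)
    (fun _ _ h1 h2 => WithTop.add_ne_top.mpr ⟨h1, h2⟩) hJ h

theorem rel_eq_zero_of_null [IsNoetherianRing R] {ℓ : LenFun R} {J : Ideal R}
    (hJ : ℓ.len (R ⧸ J) = 0)
    {V : Type u} [AddCommGroup V] [Module R V] [Module.Finite R V] {B Z : Submodule R V}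
    (h : ∀ y ∈ J, ∀ z ∈ Z, y • z ∈ B) : ℓ.rel B Z = 0 :=
  rel_fg_induction (fun a => a = 0) (fun a b h1 h2 => by
    rw [h2] at h1; exact le_antisymm h1 bot_le)
    (fun a b h1 h2 => by rw [h1, h2, add_zero]) hJ h

theorem KD.fin_of_small [IsNoetherianRing R] {ℓ : LenFun R}
    {V : Type u} [AddCommGroup V] [Module R V] [Module.Finite R V] (K : KD R V)
    (hJ : Small ℓ K.ann) : K.Fin ℓ := fun _ =>
  rel_ne_top_of_small hJ fun _ hy _ hz => KD.smul_mem_B hy hz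

/-- If the annihilator is null for the length, homology has zero length. -/
theorem KD.hl_eq_zero_of_null [IsNoetherianRing R] {ℓ : LenFun R}
    {V : Type u} [AddCommGroup V] [Module R V] [Module.Finite R V] (K : KD R V)
    (hJ : ℓ.len (R ⧸ K.ann) = 0) (a : Bool) : K.hl ℓ a = 0 :=
  rel_eq_zero_of_null hJ fun _ hy _ hz => KD.smul_mem_B hy hz

theorem KD.chi_eq_zero_of_null [IsNoetherianRing R] {ℓ : LenFun R}
    {V : Type u} [AddCommGroup V] [Module R V] [Module.Finite R V] (K : KD R V)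
    (hJ : ℓ.len (R ⧸ K.ann) = 0) : K.chi ℓ = 0 := by
  unfold KD.chi
  rw [K.hl_eq_zero_of_null hJ, K.hl_eq_zero_of_null hJ]
  simp

theorem KD.chi_eq_zero_of_one_mem {ℓ : LenFun R}
    {V : Type u} [AddCommGroup V] [Module R V] (K : KD R V)
    (hJ : (1 : R) ∈ K.ann) : K.chi ℓ = 0 := by
  have : ∀ a, K.hl ℓ a = 0 := by
    intro a
    apply ℓ.rel_eq_zero
    intro x hx
    have := KD.smul_mem_B hJ hx
    rwa [one_smul] at this
  unfold KD.chi
  rw [this, this]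
  simp

theorem KD.fin_of_one_mem {ℓ : LenFun R}
    {V : Type u} [AddCommGroup V] [Module R V] (K : KD R V)
    (hJ : (1 : R) ∈ K.ann) : K.Fin ℓ := by
  intro a
  have : K.hl ℓ a = 0 := by
    apply ℓ.rel_eq_zero
    intro x hx
    have := KD.smul_mem_B hJ hx
    rwa [one_smul] at this
  rw [this]
  simp

end Groth.Agent.Books.AdKD
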