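import Groth.Agent.Books.AdCone
import Mathlib.RingTheory.Finiteness.Prod

set_option autoImplicit false
universe u

/-!
# The Koszul complex of one element
-/

open TensorProduct

namespace Groth.Agent.Books.AdKD

open Groth.Agent.Books.AdLen

namespace KD

variable {R : Type u} [CommRing R] {V W U : Type u} [AddCommGroup V] [Module R V]
  [AddCommGroup W] [Module R W] [AddCommGroup U] [Module R U]

/-- additivity for tensor products with a cone-like object -/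
theorem chi_tensor_stab [IsNoetherianRing R] [Module.Finite R V] [Module.Finite R W]
    {ℓ : LenFun R} {K : KD R V} {e : V →ₗ[R] V} (h : K.Stab e) (Z : KD R W)
    (h1 : Small ℓ ((sub h).tensor Z).ann) (h2 : Small ℓ ((quo h).tensor Z).ann) :
    (K.tensor Z).chi ℓ = ((sub h).tensor Z).chi ℓ + ((quo h).tensor Z).chi ℓ := by
  have hco : K.Good (co e) := ⟨h.co_co, h.co_p, h.hd2⟩
  have e1 : (sub h).tensor Z = sub (h.tensor Z) := cutG_tensor h.good Z
  have e2 : (quo h).tensor Z = quo (h.tensor Z) := by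
    have := cutG_tensor hco Z
    refine Eq.trans this ?_
    refine cutG_congr (hco.tensor Z) ⟨(h.tensor Z).co_co, (h.tensor Z).co_p, (h.tensor Z).hd2⟩ ?_
    apply TensorProduct.ext'
    intro x y
    simp [co_apply, sub_tmul]
  rw [e1, e2]
  exact chi_add (h.tensor Z) (fin_of_small _ (by rw [← e1]; exact h1))
    (fin_of_small _ (by rw [← e2]; exact h2))

theorem chi_tensor_cone [IsNoetherianRing R] [Module.Finite R V] [Module.Finite R W]
    [Module.Finite R U] {ℓ : LenFun R} {K : KD R V} {L : KD R W} {f : V →ₗ[R] W} (hf : IsHom K L f)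
    (Z : KD R U) (h1 : Small ℓ (K.tensor Z).ann) (h2 : Small ℓ (L.tensor Z).ann) :
    ((cone hf).tensor Z).chi ℓ = (L.tensor Z).chi ℓ - (K.tensor Z).chi ℓ := by
  have i1 := (isIso_cone_sub hf).tensor (IsIso.refl Z)
  have i2 := ((isIso_cone_quo hf).tensor (IsIso.refl Z)).trans (isIso_sh_tensor K Z)
  have e1 := chi_tensor_stab (ℓ := ℓ) (cone_stab hf) Z (h2.mono (ann_of_iso i1.symm))
    (by
      refine Small.mono ?_ h1
      rw [← sh_ann]
      exact ann_of_iso i2.symm)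
  rw [e1, chi_congr i1, chi_congr i2, sh_chi, sub_eq_add_neg]

/-- The underlying module of the Koszul complex -/
def KV (R : Type u) : Type u := R × R

instance : AddCommGroup (KV R) := inferInstanceAs (AddCommGroup (R × R))
instance : Module R (KV R) := inferInstanceAs (Module R (R × R))
instance : Module.Free R (KV R) := inferInstanceAs (Module.Free R (R × R))
instance : Module.Finite R (KV R) := inferInstanceAs (Module.Finite R (R × R))

/-- Koszul complex on one element -/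
def kos (a : R) : KD R (KV R) := cone ((IsHom.id (one R)).smul a)

theorem kos_d (a : R) (x : R × R) : (kos a).d x = ((a * x.2, 0) : R × R) := by
  have := cone_d ((IsHom.id (one R)).smul a) x
  refine Eq.trans this ?_
  apply Prod.ext <;> simp

theorem kos_p_false (a : R) (x : R × R) : (kos a).p false x = ((x.1, 0) : R × R) := by
  have := cone_p ((IsHom.id (one R)).smul a) false x
  refine Eq.trans this ?_
  apply Prod.ext <;> simp

theorem kos_p_true (a : R) (x : R × R) : (kos a).p true x = ((0, x.2) : R × R) := by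
  have := cone_p ((IsHom.id (one R)).smul a) true x
  refine Eq.trans this ?_
  apply Prod.ext <;> simp

theorem kos_pi (a : R) (x : KV R) : (kos a).pi x = x := by
  have := cone_pi ((IsHom.id (one R)).smul a) x
  refine Eq.trans this ?_
  apply Prod.ext <;> simp

theorem mem_kos_ann (a : R) : a ∈ (kos a).ann := by
  refine ⟨(LinearMap.prod 0 (LinearMap.fst R R R) : R × R →ₗ[R] R × R), ?_, ?_⟩
  · intro b x
    cases b
    · refine Eq.trans (congrArg _ (kos_p_false a x)) ?_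
      refine Eq.trans ?_ (kos_p_true a _).symm
      rfl
    · refine Eq.trans (congrArg _ (kos_p_true a x)) ?_
      refine Eq.trans ?_ (kos_p_false a _).symm
      rfl
  · intro x
    rw [kos_pi]
    refine Eq.trans (congrArg₂ (· + ·) (kos_d a _) (congrArg _ (kos_d a x))) ?_
    change ((a * x.1 + 0, 0 + a * x.2) : R × R) = (a * x.1, a * x.2)
    rw [add_zero, zero_add]

theorem chi_kos_tensor [IsNoetherianRing R] [Module.Finite R W]
    {ℓ : LenFun R} (a : R) (Z : KD R W) (h : Small ℓ Z.ann) : ((kos a).tensor Z).chi ℓ = 0 := by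
  have h1 : Small ℓ ((one R).tensor Z).ann := h.mono (ann_right _ _)
  have := chi_tensor_cone ((IsHom.id (one R)).smul a) Z h1 h1
  rw [sub_self] at this
  exact this

/-- basis vector of degree 0 -/
def k0 : KV R := ((1, 0) : R × R)
/-- basis vector of degree 1 -/
def k1 : KV R := ((0, 1) : R × R)

theorem kv_eq (x : KV R) : x = (x.1 : R) • k0 + (x.2 : R) • k1 := by
  change ((x.1, x.2) : R × R) = (x.1 * 1 + x.2 * 0, x.1 * 0 + x.2 * 1)
  ext <;> simp

theorem kext {Y : Type u} [AddCommGroup Y] [Module R Y] {F G : KV R →ₗ[R] Y} (h0 : F k0 = G k0)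
    (h1 : F k1 = G k1) : F = G := by
  apply LinearMap.ext
  intro x
  rw [kv_eq x, map_add, map_add, map_smul, map_smul, map_smul, map_smul, h0, h1]

theorem kextT {Y : Type u} [AddCommGroup Y] [Module R Y] {F G : (KV R) ⊗[R] W →ₗ[R] Y}
    (h0 : ∀ w, F (k0 ⊗ₜ w) = G (k0 ⊗ₜ w)) (h1 : ∀ w, F (k1 ⊗ₜ w) = G (k1 ⊗ₜ w)) : F = G := by
  apply TensorProduct.ext'
  intro x w
  have := kext (F := F ∘ₗ (TensorProduct.mk R (KV R) W).flip w)
    (G := G ∘ₗ (TensorProduct.mk R (KV R) W).flip w) (h0 w) (h1 w)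
  exact LinearMap.congr_fun this x

theorem kext2 {Y : Type u} [AddCommGroup Y] [Module R Y] {F G : (KV R) ⊗[R] (KV R) →ₗ[R] Y}
    (h00 : F (k0 ⊗ₜ k0) = G (k0 ⊗ₜ k0)) (h01 : F (k0 ⊗ₜ k1) = G (k0 ⊗ₜ k1))
    (h10 : F (k1 ⊗ₜ k0) = G (k1 ⊗ₜ k0)) (h11 : F (k1 ⊗ₜ k1) = G (k1 ⊗ₜ k1)) : F = G := by
  apply kextT
  · intro w
    exact LinearMap.congr_fun (kext (F := F ∘ₗ TensorProduct.mk R (KV R) (KV R) k0)
      (G := G ∘ₗ TensorProduct.mk R (KV R) (KV R) k0) h00 h01) w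
  · intro w
    exact LinearMap.congr_fun (kext (F := F ∘ₗ TensorProduct.mk R (KV R) (KV R) k1)
      (G := G ∘ₗ TensorProduct.mk R (KV R) (KV R) k1) h10 h11) w

theorem kext3 {Y : Type u} [AddCommGroup Y] [Module R Y]
    {F G : (KV R) ⊗[R] ((KV R) ⊗[R] (KV R)) →ₗ[R] Y}
    (h000 : F (k0 ⊗ₜ (k0 ⊗ₜ k0)) = G (k0 ⊗ₜ (k0 ⊗ₜ k0)))
    (h001 : F (k0 ⊗ₜ (k0 ⊗ₜ k1)) = G (k0 ⊗ₜ (k0 ⊗ₜ k1)))
    (h010 : F (k0 ⊗ₜ (k1 ⊗ₜ k0)) = G (k0 ⊗ₜ (k1 ⊗ₜ k0)))
    (h011 : F (k0 ⊗ₜ (k1 ⊗ₜ k1)) = G (k0 ⊗ₜ (k1 ⊗ₜ k1)))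
    (h100 : F (k1 ⊗ₜ (k0 ⊗ₜ k0)) = G (k1 ⊗ₜ (k0 ⊗ₜ k0)))
    (h101 : F (k1 ⊗ₜ (k0 ⊗ₜ k1)) = G (k1 ⊗ₜ (k0 ⊗ₜ k1)))
    (h110 : F (k1 ⊗ₜ (k1 ⊗ₜ k0)) = G (k1 ⊗ₜ (k1 ⊗ₜ k0)))
    (h111 : F (k1 ⊗ₜ (k1 ⊗ₜ k1)) = G (k1 ⊗ₜ (k1 ⊗ₜ k1))) : F = G := by
  apply kextT
  · intro w
    exact LinearMap.congr_fun (kext2
      (F := F ∘ₗ TensorProduct.mk R (KV R) ((KV R) ⊗[R] (KV R)) k0)
      (G := G ∘ₗ TensorProduct.mk R (KV R) ((KV R) ⊗[R] (KV R)) k0) h000 h001 h010 h011) w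
  · intro w
    exact LinearMap.congr_fun (kext2
      (F := F ∘ₗ TensorProduct.mk R (KV R) ((KV R) ⊗[R] (KV R)) k1)
      (G := G ∘ₗ TensorProduct.mk R (KV R) ((KV R) ⊗[R] (KV R)) k1) h100 h101 h110 h111) w

section vals

variable (a : R)

theorem d_k0 : (kos a).d k0 = 0 := by
  refine (kos_d a (1, 0)).trans ?_
  change ((a * 0, 0) : R × R) = (0, 0)
  rw [mul_zero]
theorem d_k1 : (kos a).d k1 = a • k0 := by
  refine (kos_d a (0, 1)).trans ?_
  change ((a * 1, 0) : R × R) = (a * 1, a * 0)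
  rw [mul_zero]
theorem pf_k0 : (kos a).p false k0 = k0 := kos_p_false a (1, 0)
theorem pf_k1 : (kos a).p false k1 = 0 := kos_p_false a (0, 1)
theorem pt_k0 : (kos a).p true k0 = 0 := kos_p_true a (1, 0)
theorem pt_k1 : (kos a).p true k1 = k1 := kos_p_true a (0, 1)
theorem pi_k (x : KV R) : (kos a).pi x = x := kos_pi a x
theorem eps_k0 : (kos a).eps k0 = k0 := by rw [eps_apply, pf_k0, pt_k0, sub_zero]
theorem eps_k1 : (kos a).eps k1 = - k1 := by rw [eps_apply, pf_k1, pt_k1, zero_sub]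

end vals

/-- a retract -/
theorem cen_retract {K : KD R V} {L : KD R W} {f : V →ₗ[R] W} {g : W →ₗ[R] V} (hf : IsHom K L f)
    (hg : IsHom L K g) (h : ∀ x, g (f x) = x) : L.Cen (f ∘ₗ g) where
  ee x := by simp [h]
  ep a x := by simp [hf.fp, hg.fp]
  ed x := by simp [hf.fd, hg.fd]

theorem isIso_retract {K : KD R V} {L : KD R W} {f : V →ₗ[R] W} {g : W →ₗ[R] V} (hf : IsHom K L f)
    (hg : IsHom L K g) (h : ∀ x, g (f x) = x) {c : W →ₗ[R] W} (hc : L.Cen c) (hcf : c = f ∘ₗ g) :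
    IsIso (cutG hc.good) K g f := by
  subst hcf
  refine ⟨⟨?_, ?_⟩, ⟨?_, ?_⟩, ?_, ?_⟩
  · intro x
    rw [hc.cut_d]
    simp [h, hg.fd]
  · intro a x
    rw [cutG_p]
    simp [h, hg.fp]
  · intro x
    rw [hc.cut_d]
    simp [h, hf.fd, hg.fd]
  · intro a x
    rw [cutG_p]
    simp [h, hf.fp]
  · intro x
    rw [cutG_pi, ← hc.good.epi]
    simp [h]
  · intro x
    rw [h]

end KD

end Groth.Agent.Books.AdKD
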