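import Groth.Agent.Books.AdKos
import Mathlib.Tactic.LinearCombination

set_option autoImplicit false
universe u

/-!
# The operations on Koszul complexes
-/

open TensorProduct

namespace Groth.Agent.Books.AdKD

open Groth.Agent.Books.AdLen

namespace KD

variable {R : Type u} [CommRing R] {V W U : Type u} [AddCommGroup V] [Module R V]
  [AddCommGroup W] [Module R W] [AddCommGroup U] [Module R U]

/-- coordinates -/
def c0 : KV R →ₗ[R] R := LinearMap.fst R R R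
/-- coordinates -/
def c1 : KV R →ₗ[R] R := LinearMap.snd R R R

theorem c0_k0 : (c0 : KV R →ₗ[R] R) k0 = 1 := rfl
theorem c0_k1 : (c0 : KV R →ₗ[R] R) k1 = 0 := rfl
theorem c1_k0 : (c1 : KV R →ₗ[R] R) k0 = 0 := rfl
theorem c1_k1 : (c1 : KV R →ₗ[R] R) k1 = 1 := rfl

/-- the linear map out of `KV R` with given values -/
def kmap {Y : Type u} [AddCommGroup Y] [Module R Y] (y0 y1 : Y) : KV R →ₗ[R] Y :=
  LinearMap.toSpanSingleton R Y y0 ∘ₗ c0 + LinearMap.toSpanSingleton R Y y1 ∘ₗ c1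

theorem kmap_k0 {Y : Type u} [AddCommGroup Y] [Module R Y] (y0 y1 : Y) :
    kmap (R := R) y0 y1 k0 = y0 := by simp [kmap, c0_k0, c1_k0]
theorem kmap_k1 {Y : Type u} [AddCommGroup Y] [Module R Y] (y0 y1 : Y) :
    kmap (R := R) y0 y1 k1 = y1 := by simp [kmap, c0_k1, c1_k1]

theorem isHom_kos {a : R} {L : KD R W} {y0 y1 : W} (h0 : L.p false y0 = y0) (h1 : L.p true y1 = y1)
    (hd0 : L.d y0 = 0) (hd1 : L.d y1 = a • y0) : IsHom (kos a) L (kmap y0 y1) where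
  fd := by
    refine LinearMap.congr_fun (kext (F := kmap y0 y1 ∘ₗ (kos a).d) (G := L.d ∘ₗ kmap y0 y1) ?_ ?_)
    · simp [kmap_k0, d_k0, hd0]
    · simp [kmap_k0, kmap_k1, d_k1, hd1]
  fp := by
    have h0' : L.p true y0 = 0 := by
      rw [← h0]; exact L.pn true y0
    have h1' : L.p false y1 = 0 := by
      rw [← h1]; exact L.pn false y1
    intro b
    refine LinearMap.congr_fun (kext (F := kmap y0 y1 ∘ₗ (kos a).p b)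
      (G := L.p b ∘ₗ kmap y0 y1) ?_ ?_)
    · cases b <;> simp [kmap_k0, pf_k0, pt_k0, h0, h0']
    · cases b <;> simp [kmap_k1, pf_k1, pt_k1, h1, h1']

/-- product of functionals -/
noncomputable def m2 (f : V →ₗ[R] R) (g : W →ₗ[R] R) : V ⊗[R] W →ₗ[R] R :=
  LinearMap.mul' R R ∘ₗ TensorProduct.map f g

theorem m2_tmul (f : V →ₗ[R] R) (g : W →ₗ[R] R) (x : V) (y : W) :
    m2 f g (x ⊗ₜ y) = f x * g y := by simp [m2]

section two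

variable [Invertible ((2 : ℕ) : R)] (a : R)

theorem half : ⅟((2 : ℕ) : R) * (1 + 1) = 1 := by
  have := invOf_mul_self ((2 : ℕ) : R)
  rw [show (1 + 1 : R) = ((2 : ℕ) : R) by norm_num]
  exact this

theorem s2_00 : s2 (kos a) (k0 ⊗ₜ k0) = k0 ⊗ₜ k0 := by
  simp [s2, sw_tmul, pi_k, pf_k0, pt_k0]
theorem s2_01 : s2 (kos a) (k0 ⊗ₜ k1) = k1 ⊗ₜ k0 := by
  simp [s2, sw_tmul, pi_k, pf_k0, pt_k0]
theorem s2_10 : s2 (kos a) (k1 ⊗ₜ k0) = k0 ⊗ₜ k1 := by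
  simp [s2, sw_tmul, pf_k1, pt_k1, eps_k0]
theorem s2_11 : s2 (kos a) (k1 ⊗ₜ k1) = - k1 ⊗ₜ k1 := by
  simp [s2, sw_tmul, pf_k1, pt_k1, eps_k1, neg_tmul]

/-- `T² → K` -/
noncomputable def g2 : (KV R) ⊗[R] (KV R) →ₗ[R] KV R :=
  LinearMap.toSpanSingleton R _ k0 ∘ₗ (m2 c0 c0) +
    LinearMap.toSpanSingleton R _ k1 ∘ₗ (m2 c1 c0 + m2 c0 c1)

theorem g2_00 : g2 (k0 ⊗ₜ k0) = (k0 : KV R) := by
  simp [g2, m2_tmul, c0_k0, c1_k0]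
theorem g2_01 : g2 (k0 ⊗ₜ k1) = (k1 : KV R) := by
  simp [g2, m2_tmul, c0_k0, c1_k0, c0_k1, c1_k1]
theorem g2_10 : g2 (k1 ⊗ₜ k0) = (k1 : KV R) := by
  simp [g2, m2_tmul, c0_k0, c1_k0, c0_k1, c1_k1]
theorem g2_11 : g2 (k1 ⊗ₜ k1) = (0 : KV R) := by
  simp [g2, m2_tmul, c0_k1, c1_k1]

/-- `K → T²` -/
noncomputable def f2 (a : R) : KV R →ₗ[R] (KV R) ⊗[R] (KV R) :=
  kmap (k0 ⊗ₜ k0) (av 2 (s2 (kos a)) (k1 ⊗ₜ k0))

theorem av_10 : av 2 (s2 (kos a)) (k1 ⊗ₜ k0) = ⅟((2 : ℕ) : R) • (k0 ⊗ₜ k1 + k1 ⊗ₜ k0) := by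
  rw [av_two, pow_two, Module.End.mul_apply, s2_10, s2_01]

theorem half_smul {Y : Type u} [AddCommGroup Y] [Module R Y] (y : Y) :
    ⅟((2 : ℕ) : R) • (y + y) = y := by
  have := half (R := R)
  rw [← two_smul R, smul_smul, show (2 : R) = 1 + 1 by norm_num, this, one_smul]

theorem isHom_f2 : IsHom (kos a) ((kos a).tensor (kos a)) (f2 a) := by
  refine isHom_kos ?_ ?_ ?_ ?_
  · simp [tensor_p, pf_k0, pt_k0]
  · rw [av_10]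
    simp [tensor_p, pf_k0, pt_k0, pf_k1, pt_k1, add_comm]
  · simp [tensor_d, d_k0]
  · rw [av_10]
    simp only [map_smul, map_add, tensor_d, d_k0, d_k1, pi_k, eps_k0, eps_k1, zero_tmul, tmul_zero,
      zero_add, add_zero, tmul_smul, smul_tmul']
    exact half_smul _

theorem isHom_g2 : IsHom ((kos a).tensor (kos a)) (kos a) g2 where
  fd := by
    refine LinearMap.congr_fun (kext2 (F := g2 ∘ₗ ((kos a).tensor (kos a)).d)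
      (G := (kos a).d ∘ₗ g2) ?_ ?_ ?_ ?_) <;>
    simp [tensor_d, d_k0, d_k1, pi_k, eps_k0, eps_k1, g2_00, g2_01, g2_10, g2_11, neg_tmul,
      ← smul_tmul']
  fp b := by
    refine LinearMap.congr_fun (kext2 (F := g2 ∘ₗ ((kos a).tensor (kos a)).p b)
      (G := (kos a).p b ∘ₗ g2) ?_ ?_ ?_ ?_) <;> cases b <;>
    simp [tensor_p, pf_k0, pf_k1, pt_k0, pt_k1, g2_00, g2_01, g2_10, g2_11]

theorem g2_f2 (x : KV R) : g2 (f2 a x) = x := by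
  refine LinearMap.congr_fun (kext (F := g2 ∘ₗ f2 a) (G := LinearMap.id) ?_ ?_) x
  · simp [f2, kmap_k0, g2_00]
  · simp only [LinearMap.comp_apply, f2, kmap_k1, av_10, map_smul, map_add, g2_01, g2_10,
      LinearMap.id_apply]
    exact half_smul _

theorem av_f2_g2 : av 2 (s2 (kos a)) = f2 a ∘ₗ g2 := by
  have h := cyc_s2 (kos a)
  refine kext2 ?_ ?_ ?_ ?_
  · rw [av_two, pow_two, Module.End.mul_apply, s2_00, s2_00, LinearMap.comp_apply, g2_00, f2, kmap_k0]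
    exact half_smul _
  · rw [LinearMap.comp_apply, g2_01, f2, kmap_k1, ← s2_01 a, h.av_s]
  · rw [LinearMap.comp_apply, g2_10, f2, kmap_k1]
  · rw [av_two, pow_two, Module.End.mul_apply, s2_11, map_neg, s2_11, LinearMap.comp_apply, g2_11,
      map_zero, add_neg_cancel, smul_zero]

theorem isIso_A2_kos : IsIso (A2 (kos a)) (kos a) g2 (f2 a) :=
  isIso_retract (isHom_f2 a) (isHom_g2 a) (g2_f2 a) (cyc_s2 (kos a)).cen_av (av_f2_g2 a)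

theorem chi_A2_kos (Z : KD R W) (ℓ : LenFun R) :
    ((A2 (kos a)).tensor Z).chi ℓ = ((kos a).tensor Z).chi ℓ :=
  chi_congr ((isIso_A2_kos a).tensor (IsIso.refl Z)) ℓ

end two

section three

variable [Invertible ((3 : ℕ) : R)] (a : R)

theorem third_smul {Y : Type u} [AddCommGroup Y] [Module R Y] (y : Y) :
    ⅟((3 : ℕ) : R) • (y + y + y) = y := by
  have h : y + y + y = ((3 : ℕ) : R) • y := by
    rw [Nat.cast_smul_eq_nsmul]; abel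
  rw [h, smul_smul, invOf_mul_self, one_smul]

theorem negC (t : V ⊗[R] (W ⊗[R] U)) : (-1 : R) • t = -t := neg_one_smul R t

theorem s3_000 : s3 (kos a) (k0 ⊗ₜ (k0 ⊗ₜ k0)) = k0 ⊗ₜ (k0 ⊗ₜ k0) := by
  have := s3_pp (kos a) false false false k0 k0 k0
  simpa [pf_k0, pf_k1, pt_k0, pt_k1] using this
theorem s3_100 : s3 (kos a) (k1 ⊗ₜ (k0 ⊗ₜ k0)) = k0 ⊗ₜ (k0 ⊗ₜ k1) := by
  have := s3_pp (kos a) true false false k1 k0 k0
  simpa [pf_k0, pf_k1, pt_k0, pt_k1] using this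
theorem s3_010 : s3 (kos a) (k0 ⊗ₜ (k1 ⊗ₜ k0)) = k1 ⊗ₜ (k0 ⊗ₜ k0) := by
  have := s3_pp (kos a) false true false k0 k1 k0
  simpa [pf_k0, pf_k1, pt_k0, pt_k1] using this
theorem s3_001 : s3 (kos a) (k0 ⊗ₜ (k0 ⊗ₜ k1)) = k0 ⊗ₜ (k1 ⊗ₜ k0) := by
  have := s3_pp (kos a) false false true k0 k0 k1
  simpa [pf_k0, pf_k1, pt_k0, pt_k1] using this
theorem s3_110 : s3 (kos a) (k1 ⊗ₜ (k1 ⊗ₜ k0)) = - k1 ⊗ₜ (k0 ⊗ₜ k1) := by
  have := s3_pp (kos a) true true false k1 k1 k0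
  simp [pf_k0, pf_k1, pt_k0, pt_k1] at this
  exact this
theorem s3_101 : s3 (kos a) (k1 ⊗ₜ (k0 ⊗ₜ k1)) = - k0 ⊗ₜ (k1 ⊗ₜ k1) := by
  have := s3_pp (kos a) true false true k1 k0 k1
  simp [pf_k0, pf_k1, pt_k0, pt_k1] at this
  exact this
theorem s3_011 : s3 (kos a) (k0 ⊗ₜ (k1 ⊗ₜ k1)) = k1 ⊗ₜ (k1 ⊗ₜ k0) := by
  have := s3_pp (kos a) false true true k0 k1 k1
  simpa [pf_k0, pf_k1, pt_k0, pt_k1] using this
theorem s3_111 : s3 (kos a) (k1 ⊗ₜ (k1 ⊗ₜ k1)) = k1 ⊗ₜ (k1 ⊗ₜ k1) := by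
  have := s3_pp (kos a) true true true k1 k1 k1
  simpa [pf_k0, pf_k1, pt_k0, pt_k1] using this

theorem av3_exp (x : (KV R) ⊗[R] ((KV R) ⊗[R] (KV R))) : av 3 (s3 (kos a)) x =
    ⅟((3 : ℕ) : R) • (s3 (kos a) x + s3 (kos a) (s3 (kos a) x) +
      s3 (kos a) (s3 (kos a) (s3 (kos a) x))) := by
  rw [av_three]
  rfl

/-- `T³ → K`, degrees ≤ 1 -/
noncomputable def g3 : (KV R) ⊗[R] ((KV R) ⊗[R] (KV R)) →ₗ[R] KV R :=
  LinearMap.toSpanSingleton R _ k0 ∘ₗ (m2 c0 (m2 c0 c0)) +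
    LinearMap.toSpanSingleton R _ k1 ∘ₗ (m2 c1 (m2 c0 c0) + m2 c0 (m2 c1 c0) + m2 c0 (m2 c0 c1))

/-- `T³ → K`, degrees ≥ 2 -/
noncomputable def g3' : (KV R) ⊗[R] ((KV R) ⊗[R] (KV R)) →ₗ[R] KV R :=
  LinearMap.toSpanSingleton R _ k0 ∘ₗ (m2 c1 (m2 c1 c0) - m2 c1 (m2 c0 c1) + m2 c0 (m2 c1 c1)) +
    LinearMap.toSpanSingleton R _ k1 ∘ₗ (((3 : ℕ) : R) • m2 c1 (m2 c1 c1))

section vals
theorem g3_000 : g3 (k0 ⊗ₜ (k0 ⊗ₜ k0)) = (k0 : KV R) := by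
  simp [g3, m2_tmul, c0_k0, c1_k0, c0_k1, c1_k1]
theorem g3_001 : g3 (k0 ⊗ₜ (k0 ⊗ₜ k1)) = (k1 : KV R) := by
  simp [g3, m2_tmul, c0_k0, c1_k0, c0_k1, c1_k1]
theorem g3_010 : g3 (k0 ⊗ₜ (k1 ⊗ₜ k0)) = (k1 : KV R) := by
  simp [g3, m2_tmul, c0_k0, c1_k0, c0_k1, c1_k1]
theorem g3_100 : g3 (k1 ⊗ₜ (k0 ⊗ₜ k0)) = (k1 : KV R) := by
  simp [g3, m2_tmul, c0_k0, c1_k0, c0_k1, c1_k1]
theorem g3_011 : g3 (k0 ⊗ₜ (k1 ⊗ₜ k1)) = (0 : KV R) := by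
  simp [g3, m2_tmul, c0_k0, c1_k0, c0_k1, c1_k1]
theorem g3_101 : g3 (k1 ⊗ₜ (k0 ⊗ₜ k1)) = (0 : KV R) := by
  simp [g3, m2_tmul, c0_k0, c1_k0, c0_k1, c1_k1]
theorem g3_110 : g3 (k1 ⊗ₜ (k1 ⊗ₜ k0)) = (0 : KV R) := by
  simp [g3, m2_tmul, c0_k0, c1_k0, c0_k1, c1_k1]
theorem g3_111 : g3 (k1 ⊗ₜ (k1 ⊗ₜ k1)) = (0 : KV R) := by
  simp [g3, m2_tmul, c0_k0, c1_k0, c0_k1, c1_k1]
theorem g3'_000 : g3' (k0 ⊗ₜ (k0 ⊗ₜ k0)) = (0 : KV R) := by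
  simp [g3', m2_tmul, c0_k0, c1_k0, c0_k1, c1_k1]
theorem g3'_001 : g3' (k0 ⊗ₜ (k0 ⊗ₜ k1)) = (0 : KV R) := by
  simp [g3', m2_tmul, c0_k0, c1_k0, c0_k1, c1_k1]
theorem g3'_010 : g3' (k0 ⊗ₜ (k1 ⊗ₜ k0)) = (0 : KV R) := by
  simp [g3', m2_tmul, c0_k0, c1_k0, c0_k1, c1_k1]
theorem g3'_100 : g3' (k1 ⊗ₜ (k0 ⊗ₜ k0)) = (0 : KV R) := by
  simp [g3', m2_tmul, c0_k0, c1_k0, c0_k1, c1_k1]
theorem g3'_011 : g3' (k0 ⊗ₜ (k1 ⊗ₜ k1)) = (k0 : KV R) := by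
  simp [g3', m2_tmul, c0_k0, c1_k0, c0_k1, c1_k1]
theorem g3'_101 : g3' (k1 ⊗ₜ (k0 ⊗ₜ k1)) = - (k0 : KV R) := by
  simp [g3', m2_tmul, c0_k0, c1_k0, c0_k1, c1_k1]
theorem g3'_110 : g3' (k1 ⊗ₜ (k1 ⊗ₜ k0)) = (k0 : KV R) := by
  simp [g3', m2_tmul, c0_k0, c1_k0, c0_k1, c1_k1]
theorem g3'_111 : g3' (k1 ⊗ₜ (k1 ⊗ₜ k1)) = ((3 : ℕ) : R) • (k1 : KV R) := by
  simp [g3', m2_tmul, c0_k0, c1_k0, c0_k1, c1_k1]
end vals

theorem isHom_g3 : IsHom ((kos a).tensor ((kos a).tensor (kos a))) (kos a) g3 where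
  fd := by
    refine LinearMap.congr_fun (kext3 (F := g3 ∘ₗ ((kos a).tensor ((kos a).tensor (kos a))).d)
      (G := (kos a).d ∘ₗ g3) ?_ ?_ ?_ ?_ ?_ ?_ ?_ ?_) <;>
    simp [tensor_d, tensor_pi, d_k0, d_k1, pi_k, eps_k0, eps_k1, g3_000, g3_001, g3_010, g3_011,
      g3_100, g3_101, g3_110, g3_111, neg_tmul, tmul_neg, tmul_add, ← smul_tmul', tmul_smul]
  fp b := by
    refine LinearMap.congr_fun (kext3 (F := g3 ∘ₗ ((kos a).tensor ((kos a).tensor (kos a))).p b)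
      (G := (kos a).p b ∘ₗ g3) ?_ ?_ ?_ ?_ ?_ ?_ ?_ ?_) <;> cases b <;>
    simp [tensor_p, pf_k0, pf_k1, pt_k0, pt_k1, g3_000, g3_001, g3_010, g3_011,
      g3_100, g3_101, g3_110, g3_111]

theorem isHom_g3' : IsHom ((kos a).tensor ((kos a).tensor (kos a))) (kos a) g3' where
  fd := by
    refine LinearMap.congr_fun (kext3 (F := g3' ∘ₗ ((kos a).tensor ((kos a).tensor (kos a))).d)
      (G := (kos a).d ∘ₗ g3') ?_ ?_ ?_ ?_ ?_ ?_ ?_ ?_) <;>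
    simp [tensor_d, tensor_pi, d_k0, d_k1, pi_k, eps_k0, eps_k1, g3'_000, g3'_001, g3'_010, g3'_011,
      g3'_100, g3'_101, g3'_110, g3'_111, neg_tmul, tmul_neg, tmul_add, ← smul_tmul', tmul_smul]
    rw [show (3 : R) = 1 + (1 + 1) by norm_num, add_smul, add_smul, one_smul]
  fp b := by
    refine LinearMap.congr_fun (kext3 (F := g3' ∘ₗ ((kos a).tensor ((kos a).tensor (kos a))).p b)
      (G := (kos a).p b ∘ₗ g3') ?_ ?_ ?_ ?_ ?_ ?_ ?_ ?_) <;> cases b <;>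
    simp [tensor_p, pf_k0, pf_k1, pt_k0, pt_k1, g3'_000, g3'_001, g3'_010, g3'_011,
      g3'_100, g3'_101, g3'_110, g3'_111]

theorem av_100 : av 3 (s3 (kos a)) (k1 ⊗ₜ (k0 ⊗ₜ k0)) =
    ⅟((3 : ℕ) : R) • (k0 ⊗ₜ (k0 ⊗ₜ k1) + k0 ⊗ₜ (k1 ⊗ₜ k0) + k1 ⊗ₜ (k0 ⊗ₜ k0)) := by
  rw [av3_exp, s3_100, s3_001, s3_010]

theorem av_110 : av 3 (s3 (kos a)) (k1 ⊗ₜ (k1 ⊗ₜ k0)) =
    ⅟((3 : ℕ) : R) • (-k1 ⊗ₜ (k0 ⊗ₜ k1) + k0 ⊗ₜ (k1 ⊗ₜ k1) + k1 ⊗ₜ (k1 ⊗ₜ k0)) := by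
  rw [av3_exp, s3_110, map_neg, s3_101, neg_neg, s3_011]

/-- `K → T³` -/
noncomputable def f3 (a : R) : KV R →ₗ[R] (KV R) ⊗[R] ((KV R) ⊗[R] (KV R)) :=
  kmap (k0 ⊗ₜ (k0 ⊗ₜ k0)) (av 3 (s3 (kos a)) (k1 ⊗ₜ (k0 ⊗ₜ k0)))

/-- `K → T³` -/
noncomputable def f3' (a : R) : KV R →ₗ[R] (KV R) ⊗[R] ((KV R) ⊗[R] (KV R)) :=
  kmap (av 3 (s3 (kos a)) (k1 ⊗ₜ (k1 ⊗ₜ k0))) (⅟((3 : ℕ) : R) • (k1 ⊗ₜ (k1 ⊗ₜ k1)))

theorem isHom_f3 : IsHom (kos a) ((kos a).tensor ((kos a).tensor (kos a))) (f3 a) := by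
  refine isHom_kos ?_ ?_ ?_ ?_
  · simp [tensor_p, pf_k0, pt_k0]
  · rw [av_100]
    simp [tensor_p, pf_k0, pt_k0, pf_k1, pt_k1]
  · simp [tensor_d, d_k0]
  · rw [av_100]
    simp only [map_smul, map_add, tensor_d, tensor_pi, d_k0, d_k1, pi_k, eps_k0, eps_k1, zero_tmul,
      tmul_zero, zero_add, add_zero, tmul_smul, ← smul_tmul']
    exact third_smul (R := R) _

theorem isHom_f3' : IsHom (kos a) ((kos a).tensor ((kos a).tensor (kos a))) (f3' a) := by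
  refine isHom_kos ?_ ?_ ?_ ?_
  · rw [av_110]
    simp [tensor_p, pf_k0, pt_k0, pf_k1, pt_k1]
  · simp [tensor_p, pf_k0, pt_k0, pf_k1, pt_k1]
  · rw [av_110]
    simp [tensor_d, tensor_pi, d_k0, d_k1, pi_k, eps_k0, eps_k1, neg_tmul, tmul_neg, tmul_add,
      ← smul_tmul', tmul_smul]
  · rw [av_110]
    simp [tensor_d, tensor_pi, d_k0, d_k1, pi_k, eps_k0, eps_k1, neg_tmul, tmul_neg, tmul_add,
      ← smul_tmul', tmul_smul]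
    rw [smul_comm a, smul_comm a, smul_comm a]
    abel

theorem g3_f3 (x : KV R) : g3 (f3 a x) = x := by
  refine LinearMap.congr_fun (kext (F := g3 ∘ₗ f3 a) (G := LinearMap.id) ?_ ?_) x
  · simp [f3, kmap_k0, g3_000]
  · simp only [LinearMap.comp_apply, f3, kmap_k1, av_100, map_smul, map_add, g3_001, g3_010, g3_100,
      LinearMap.id_apply]
    exact third_smul _

theorem g3_f3' (x : KV R) : g3 (f3' a x) = 0 := by
  refine LinearMap.congr_fun (kext (F := g3 ∘ₗ f3' a) (G := 0) ?_ ?_) x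
  · simp only [LinearMap.comp_apply, f3', kmap_k0, av_110, map_smul, map_add, map_neg, g3_101, g3_011,
      g3_110, LinearMap.zero_apply]
    simp
  · simp only [LinearMap.comp_apply, f3', kmap_k1, map_smul, g3_111,
      LinearMap.zero_apply]
    simp

theorem g3'_f3 (x : KV R) : g3' (f3 a x) = 0 := by
  refine LinearMap.congr_fun (kext (F := g3' ∘ₗ f3 a) (G := 0) ?_ ?_) x
  · simp [f3, kmap_k0, g3'_000]
  · simp only [LinearMap.comp_apply, f3, kmap_k1, av_100, map_smul, map_add, g3'_001, g3'_010, g3'_100,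
      LinearMap.zero_apply]
    simp

theorem g3'_f3' (x : KV R) : g3' (f3' a x) = x := by
  refine LinearMap.congr_fun (kext (F := g3' ∘ₗ f3' a) (G := LinearMap.id) ?_ ?_) x
  · simp only [LinearMap.comp_apply, f3', kmap_k0, av_110, map_smul, map_add, map_neg, g3'_101, g3'_011,
      g3'_110, LinearMap.id_apply, neg_neg]
    exact third_smul _
  · simp only [LinearMap.comp_apply, f3', kmap_k1, map_smul, g3'_111,
      LinearMap.id_apply]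
    rw [smul_smul, invOf_mul_self, one_smul]

theorem av_f3_g3 : av 3 (s3 (kos a)) = f3 a ∘ₗ g3 + f3' a ∘ₗ g3' := by
  have h := cyc_s3 (kos a)
  refine kext3 ?_ ?_ ?_ ?_ ?_ ?_ ?_ ?_ <;> simp only [LinearMap.add_apply, LinearMap.comp_apply]
  · rw [g3_000, g3'_000, map_zero, add_zero, f3, kmap_k0, av3_exp, s3_000, s3_000, s3_000, third_smul]
  · rw [g3_001, g3'_001, map_zero, add_zero, f3, kmap_k1, ← s3_100 a, h.av_s]
  · rw [g3_010, g3'_010, map_zero, add_zero, f3, kmap_k1, ← s3_010 a, h.av_s]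
  · rw [g3_011, g3'_011, map_zero, zero_add, f3', kmap_k0, ← s3_011 a, h.av_s]
  · rw [g3_100, g3'_100, map_zero, add_zero, f3, kmap_k1]
  · rw [g3_101, g3'_101, map_zero, zero_add, f3', map_neg, kmap_k0, ← neg_eq_iff_eq_neg, ← map_neg,
      ← s3_110 a, h.av_s]
  · rw [g3_110, g3'_110, map_zero, zero_add, f3', kmap_k0]
  · rw [g3_111, g3'_111, map_zero, zero_add, f3', map_smul, kmap_k1, smul_smul, mul_invOf_self,
      one_smul, av3_exp, s3_111, s3_111, s3_111, third_smul]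

end three

end KD

end Groth.Agent.Books.AdKD
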