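import Groth.Agent.Books.AdKos2

set_option autoImplicit false
universe u

/-!
# The operations on Koszul complexes, III
-/

open TensorProduct

namespace Groth.Agent.Books.AdKD

open Groth.Agent.Books.AdLen

namespace KD

variable {R : Type u} [CommRing R] {V W U : Type u} [AddCommGroup V] [Module R V]
  [AddCommGroup W] [Module R W] [AddCommGroup U] [Module R U]

theorem sup_ann {J : Ideal R} {K : KD R V} {L : KD R W} (h : J ≤ K.ann ⊔ L.ann) :
    J ≤ (K.tensor L).ann := h.trans (ann_sup K L)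

theorem end_mul_one_sub {a b c : Module.End R V} (h : a = b + c) (hab : a * b = b) :
    a * (1 - b) = c := by
  have h1 : ∀ x, a (b x) = b x := fun x => LinearMap.congr_fun hab x
  have h2 : ∀ x, a x = b x + c x := fun x => LinearMap.congr_fun h x
  apply LinearMap.ext; intro x
  rw [Module.End.mul_apply, LinearMap.sub_apply, Module.End.one_apply, map_sub, h1, h2,
    add_sub_cancel_left]

theorem chi_A3_kos [Invertible ((3 : ℕ) : R)] [IsNoetherianRing R] [Module.Finite R W] (a : R)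
    (Z : KD R W) {ℓ : LenFun R} (hJ : Small ℓ ((kos a).ann ⊔ Z.ann)) :
    ((A3 (kos a)).tensor Z).chi ℓ = 2 * ((kos a).tensor Z).chi ℓ := by
  have hS : Small ℓ (((kos a).tensor ((kos a).tensor (kos a))).tensor Z).ann :=
    hJ.mono (sup_ann (sup_le_sup (ann_left _ _) le_rfl))
  have hc := cen_retract (isHom_f3 a) (isHom_g3 a) (g3_f3 a)
  have hc' := cen_retract (isHom_f3' a) (isHom_g3' a) (g3'_f3' a)
  have hav := (cyc_s3 (kos a)).cen_av
  have hα := hav.tensor Z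
  have hβ := hc.tensor Z
  have hβ' := hc'.tensor Z
  have e := av_f3_g3 a
  have h1 : ∀ x, g3 (f3' a x) = 0 := g3_f3' a
  have h2 : ∀ x, g3' (f3 a x) = 0 := g3'_f3 a
  let α : Module.End R (((KV R) ⊗[R] ((KV R) ⊗[R] (KV R))) ⊗[R] W) :=
    TensorProduct.map (av 3 (s3 (kos a))) LinearMap.id
  let β : Module.End R (((KV R) ⊗[R] ((KV R) ⊗[R] (KV R))) ⊗[R] W) :=
    TensorProduct.map (f3 a ∘ₗ g3) LinearMap.id
  let β' : Module.End R (((KV R) ⊗[R] ((KV R) ⊗[R] (KV R))) ⊗[R] W) :=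
    TensorProduct.map (f3' a ∘ₗ g3') LinearMap.id
  have eα : α = β + β' := by
    apply TensorProduct.ext'
    intro x y
    simp [α, β, β', e, add_tmul]
  have bb : β * β = β := by
    apply TensorProduct.ext'
    intro x y
    simp [β, g3_f3]
  have bb' : β' * β' = β' := by
    apply TensorProduct.ext'
    intro x y
    simp [β', g3'_f3']
  have bc : β * β' = 0 := by
    apply TensorProduct.ext'
    intro x y
    simp [β, β', h1]
  have cb : β' * β = 0 := by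
    apply TensorProduct.ext'
    intro x y
    simp [β, β', h2]
  have hcomm : Commute α β := by
    show α * β = β * α
    rw [eα, add_mul, mul_add, bc, cb]
  have key := cx_split hS (a := α) (b := β) hα hβ hcomm
  have k1 : α * β = β := by rw [eα, add_mul, bb, cb, add_zero]
  have k2 := end_mul_one_sub eα k1
  rw [k1, k2, cx_eq hα, cx_eq hβ, cx_eq hβ'] at key
  have t1 : (A3 (kos a)).tensor Z = cutG hα.good := cutG_tensor _ _
  have t2 : (cutG hc.good).tensor Z = cutG hβ.good := cutG_tensor _ _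
  have t3 : (cutG hc'.good).tensor Z = cutG hβ'.good := cutG_tensor _ _
  have i2 := (isIso_retract (isHom_f3 a) (isHom_g3 a) (g3_f3 a) hc rfl).tensor (IsIso.refl Z)
  have i3 := (isIso_retract (isHom_f3' a) (isHom_g3' a) (g3'_f3' a) hc' rfl).tensor (IsIso.refl Z)
  rw [t1, key, ← t2, ← t3, chi_congr i2, chi_congr i3, two_mul]

theorem chi_T2_kos [IsNoetherianRing R] [Module.Finite R W] (a : R)
    (Z : KD R W) {ℓ : LenFun R} (hJ : Small ℓ ((kos a).ann ⊔ Z.ann)) :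
    (((kos a).tensor (kos a)).tensor Z).chi ℓ = 0 := by
  rw [chi_congr (isIso_asc (kos a) (kos a) Z)]
  exact chi_kos_tensor a _ (hJ.mono (ann_sup _ _))

theorem chi_T3_kos [IsNoetherianRing R] [Module.Finite R W] (a : R)
    (Z : KD R W) {ℓ : LenFun R} (hJ : Small ℓ ((kos a).ann ⊔ Z.ann)) :
    (((kos a).tensor ((kos a).tensor (kos a))).tensor Z).chi ℓ = 0 := by
  rw [chi_congr (isIso_asc (kos a) ((kos a).tensor (kos a)) Z)]
  exact chi_kos_tensor a _ (hJ.mono (sup_ann (sup_le_sup (ann_left _ _) le_rfl)))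

/-- moving a factor to the right -/
theorem exists_iso_move (P : KD R V) (Q : KD R W) (X : KD R U) :
    ∃ f g, IsIso ((P.tensor Q).tensor X) (Q.tensor (P.tensor X)) f g :=
  ⟨_, _, ((isIso_sw P Q).tensor (IsIso.refl X)).trans (isIso_asc Q P X)⟩

theorem chi_move (P : KD R V) (Q : KD R W) (X : KD R U) (ℓ : LenFun R) :
    ((P.tensor Q).tensor X).chi ℓ = (Q.tensor (P.tensor X)).chi ℓ := by
  obtain ⟨f, g, h⟩ := exists_iso_move P Q X
  exact chi_congr h ℓ

theorem chi_asc (P : KD R V) (Q : KD R W) (X : KD R U) (ℓ : LenFun R) :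
    ((P.tensor Q).tensor X).chi ℓ = (P.tensor (Q.tensor X)).chi ℓ :=
  chi_congr (isIso_asc P Q X) ℓ

theorem A2_ann [Invertible ((2 : ℕ) : R)] (K : KD R V) : K.ann ≤ (A2 K).ann :=
  (ann_left K K).trans (ann_cut (cyc_s2 K).cen_av)

theorem A3_ann [Invertible ((3 : ℕ) : R)] (K : KD R V) : K.ann ≤ (A3 K).ann :=
  (ann_left K _).trans (ann_cut (cyc_s3 K).cen_av)

/-- isomorphism invariance -/
theorem isIso_A2 [Invertible ((2 : ℕ) : R)] {K : KD R V} {L : KD R W} {f : V →ₗ[R] W}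
    {g : W →ₗ[R] V} (h : IsIso K L f g) : ∃ f' g', IsIso (A2 K) (A2 L) f' g' :=
  ⟨_, _, iso_av (cyc_s2 K) (cyc_s2 L) (h.tensor h) (fun x => (s2_nat h.hf.fp h.hf.fp x).symm)⟩

theorem isIso_A3 [Invertible ((3 : ℕ) : R)] {K : KD R V} {L : KD R W} {f : V →ₗ[R] W}
    {g : W →ₗ[R] V} (h : IsIso K L f g) : ∃ f' g', IsIso (A3 K) (A3 L) f' g' :=
  ⟨_, _, iso_av (cyc_s3 K) (cyc_s3 L) (h.tensor (h.tensor h))
    (fun x => (s3_nat h.hf.fp h.hf.fp h.hf.fp x).symm)⟩

/-- the invariants of a tensor product -/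
theorem isIso_A2_tensor [Invertible ((2 : ℕ) : R)] (K : KD R V) (L : KD R W) :
    ∃ f g, IsIso (A2 (K.tensor L)) (cutG ((cyc_s2 K).tensor (cyc_s2 L)).cen_av.good) f g :=
  ⟨_, _, iso_av (cyc_s2 (K.tensor L)) ((cyc_s2 K).tensor (cyc_s2 L)) (isIso_th K L K L)
    (th2_eqv K L)⟩

theorem isIso_A3_tensor [Invertible ((3 : ℕ) : R)] (K : KD R V) (L : KD R W) :
    ∃ f g, IsIso (A3 (K.tensor L)) (cutG ((cyc_s3 K).tensor (cyc_s3 L)).cen_av.good) f g :=
  ⟨_, _, iso_av (cyc_s3 (K.tensor L)) ((cyc_s3 K).tensor (cyc_s3 L)) (isIso_th3 K L)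
    (th3_eqv K L)⟩

section mult

variable [IsNoetherianRing R] [Module.Finite R V] [Module.Finite R W] [Module.Finite R U]
  {ℓ : LenFun R}

/-- multiplicativity for the square -/
theorem mul2 [Invertible ((2 : ℕ) : R)] (K : KD R V) (L : KD R W) (X : KD R U)
    (hJ : Small ℓ (K.ann ⊔ L.ann ⊔ X.ann)) :
    (((2 : ℕ) : ℤ) - 1) * (((2 : ℕ) : ℤ) * ((A2 (K.tensor L)).tensor X).chi ℓ -
        (((K.tensor L).tensor (K.tensor L)).tensor X).chi ℓ) =
      ((2 : ℕ) : ℤ) ^ 2 * (((A2 K).tensor (A2 L)).tensor X).chi ℓ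
        - ((2 : ℕ) : ℤ) * (((A2 K).tensor (L.tensor L)).tensor X).chi ℓ
        - ((2 : ℕ) : ℤ) * (((K.tensor K).tensor (A2 L)).tensor X).chi ℓ
        + (((K.tensor K).tensor (L.tensor L)).tensor X).chi ℓ := by
  obtain ⟨f, g, h1⟩ := isIso_A2_tensor K L
  rw [chi_congr (h1.tensor (IsIso.refl X)),
    chi_congr ((isIso_th K L K L).tensor (IsIso.refl X))]
  exact (cyc_s2 K).mult_two (cyc_s2 L) (hJ.mono (sup_ann (sup_le_sup
    (sup_ann (sup_le_sup (ann_left _ _) (ann_left _ _))) le_rfl)))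

theorem mul3 [Invertible ((3 : ℕ) : R)] (K : KD R V) (L : KD R W) (X : KD R U)
    (hJ : Small ℓ (K.ann ⊔ L.ann ⊔ X.ann)) :
    (((3 : ℕ) : ℤ) - 1) * (((3 : ℕ) : ℤ) * ((A3 (K.tensor L)).tensor X).chi ℓ -
        (((K.tensor L).tensor ((K.tensor L).tensor (K.tensor L))).tensor X).chi ℓ) =
      ((3 : ℕ) : ℤ) ^ 2 * (((A3 K).tensor (A3 L)).tensor X).chi ℓ
        - ((3 : ℕ) : ℤ) * (((A3 K).tensor (L.tensor (L.tensor L))).tensor X).chi ℓ
        - ((3 : ℕ) : ℤ) * (((K.tensor (K.tensor K)).tensor (A3 L)).tensor X).chi ℓ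
        + (((K.tensor (K.tensor K)).tensor (L.tensor (L.tensor L))).tensor X).chi ℓ := by
  obtain ⟨f, g, h1⟩ := isIso_A3_tensor K L
  rw [chi_congr (h1.tensor (IsIso.refl X)),
    chi_congr ((isIso_th3 K L).tensor (IsIso.refl X))]
  exact (cyc_s3 K).mult_three (cyc_s3 L) (hJ.mono (sup_ann (sup_le_sup
    (sup_ann (sup_le_sup (ann_left _ _) (ann_left _ _))) le_rfl))) (t3_hom K) (t3_t3 K) (t3_s3 K)

theorem kos2 [Invertible ((2 : ℕ) : R)] (a : R) (L : KD R W) (X : KD R U)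
    (hJ : Small ℓ ((kos a).ann ⊔ L.ann ⊔ X.ann)) :
    (((2 : ℕ) : ℤ) * ((A2 ((kos a).tensor L)).tensor X).chi ℓ -
        ((((kos a).tensor L).tensor ((kos a).tensor L)).tensor X).chi ℓ) =
      ((2 : ℕ) : ℤ) * (((2 : ℕ) : ℤ) * ((A2 L).tensor ((kos a).tensor X)).chi ℓ -
        ((L.tensor L).tensor ((kos a).tensor X)).chi ℓ) := by
  have h := mul2 (kos a) L X hJ
  have hJ' : Small ℓ ((kos a).ann ⊔ (L.ann ⊔ X.ann)) := by rwa [← sup_assoc]
  have b1 : Small ℓ ((kos a).ann ⊔ ((A2 L).tensor X).ann) :=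
    hJ'.mono (sup_le_sup le_rfl (sup_ann (sup_le_sup (A2_ann L) le_rfl)))
  have b2 : Small ℓ ((kos a).ann ⊔ ((L.tensor L).tensor X).ann) :=
    hJ'.mono (sup_le_sup le_rfl (sup_ann (sup_le_sup (ann_left _ _) le_rfl)))
  have q1 : ((kos a).tensor ((A2 L).tensor X)).chi ℓ = ((A2 L).tensor ((kos a).tensor X)).chi ℓ :=
    (chi_asc (kos a) (A2 L) X ℓ).symm.trans (chi_move (kos a) (A2 L) X ℓ)
  have q2 : ((kos a).tensor ((L.tensor L).tensor X)).chi ℓ =
      ((L.tensor L).tensor ((kos a).tensor X)).chi ℓ :=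
    (chi_asc (kos a) (L.tensor L) X ℓ).symm.trans (chi_move (kos a) (L.tensor L) X ℓ)
  rw [chi_asc (A2 (kos a)) (A2 L) X, chi_asc (A2 (kos a)) (L.tensor L) X,
    chi_asc ((kos a).tensor (kos a)) (A2 L) X, chi_asc ((kos a).tensor (kos a)) (L.tensor L) X,
    chi_A2_kos, chi_A2_kos, chi_T2_kos a _ b1, chi_T2_kos a _ b2, q1, q2] at h
  push_cast at h ⊢
  linarith

theorem kos3 [Invertible ((3 : ℕ) : R)] (a : R) (L : KD R W) (X : KD R U)
    (hJ : Small ℓ ((kos a).ann ⊔ L.ann ⊔ X.ann)) :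
    (((3 : ℕ) : ℤ) * ((A3 ((kos a).tensor L)).tensor X).chi ℓ -
        ((((kos a).tensor L).tensor (((kos a).tensor L).tensor ((kos a).tensor L))).tensor X).chi ℓ) =
      ((3 : ℕ) : ℤ) * (((3 : ℕ) : ℤ) * ((A3 L).tensor ((kos a).tensor X)).chi ℓ -
        ((L.tensor (L.tensor L)).tensor ((kos a).tensor X)).chi ℓ) := by
  have h := mul3 (kos a) L X hJ
  have hJ' : Small ℓ ((kos a).ann ⊔ (L.ann ⊔ X.ann)) := by rwa [← sup_assoc]
  have b1 : Small ℓ ((kos a).ann ⊔ ((A3 L).tensor X).ann) :=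
    hJ'.mono (sup_le_sup le_rfl (sup_ann (sup_le_sup (A3_ann L) le_rfl)))
  have b2 : Small ℓ ((kos a).ann ⊔ ((L.tensor (L.tensor L)).tensor X).ann) :=
    hJ'.mono (sup_le_sup le_rfl (sup_ann (sup_le_sup (ann_left _ _) le_rfl)))
  have q1 : ((kos a).tensor ((A3 L).tensor X)).chi ℓ = ((A3 L).tensor ((kos a).tensor X)).chi ℓ :=
    (chi_asc (kos a) (A3 L) X ℓ).symm.trans (chi_move (kos a) (A3 L) X ℓ)
  have q2 : ((kos a).tensor ((L.tensor (L.tensor L)).tensor X)).chi ℓ =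
      ((L.tensor (L.tensor L)).tensor ((kos a).tensor X)).chi ℓ :=
    (chi_asc (kos a) (L.tensor (L.tensor L)) X ℓ).symm.trans
      (chi_move (kos a) (L.tensor (L.tensor L)) X ℓ)
  rw [chi_asc (A3 (kos a)) (A3 L) X, chi_asc (A3 (kos a)) (L.tensor (L.tensor L)) X,
    chi_asc ((kos a).tensor ((kos a).tensor (kos a))) (A3 L) X,
    chi_asc ((kos a).tensor ((kos a).tensor (kos a))) (L.tensor (L.tensor L)) X,
    chi_A3_kos a _ b1, chi_A3_kos a _ b2, chi_T3_kos a _ b1, chi_T3_kos a _ b2, q1, q2] at h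
  push_cast at h ⊢
  linarith

end mult

end KD

end Groth.Agent.Books.AdKD
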