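import Groth.Agent.Books.AdConc
import Mathlib.RingTheory.Regular.RegularSequence

set_option autoImplicit false
universe u

/-!
# The local formula for Adams operations
-/

open TensorProduct

namespace Groth.Agent.Books.AdKD

open Groth.Agent.Books.AdLen

variable {R : Type u} [CommRing R]

theorem Small.pow [IsNoetherianRing R] {ℓ : LenFun R} {J : Ideal R} (h : Small ℓ J) (m : ℕ) :
    Small ℓ (J ^ m) := by
  induction m with
  | zero =>
    have : Subsingleton (R ⧸ J ^ 0) := by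
      rw [pow_zero, Ideal.one_eq_top]
      exact Submodule.Quotient.subsingleton_iff.mpr rfl
    unfold Small
    rw [ℓ.zero]
    simp
  | succ m ih =>
    unfold Small at *
    have hle : J ^ (m + 1) ≤ J ^ m := Ideal.pow_le_pow_right (Nat.le_succ m)
    have h1 : ℓ.len (R ⧸ J ^ (m + 1)) = ℓ.rel (J ^ (m + 1)) ⊤ := by
      rw [ℓ.rel_mkQ, Submodule.map_top, Submodule.range_mkQ, ℓ.congr Submodule.topEquiv]
    have h2 : ℓ.len (R ⧸ J ^ m) = ℓ.rel (J ^ m) ⊤ := by
      rw [ℓ.rel_mkQ, Submodule.map_top, Submodule.range_mkQ, ℓ.congr Submodule.topEquiv]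
    rw [h1, ℓ.rel_trans hle le_top, ← h2]
    refine WithTop.add_ne_top.mpr ⟨?_, ih⟩
    apply rel_ne_top_of_small h
    intro y hy z hz
    rw [pow_succ, mul_comm]
    exact Ideal.mul_mem_mul hy hz

namespace Cx

/-- Koszul complex of a list -/
noncomputable def kosL : List R → Cx R
  | [] => one R
  | a :: l => (kos a).ten (kosL l)

theorem ofList_le_ann (l : List R) : Ideal.ofList l ≤ (kosL l).ann := by
  induction l with
  | nil => rw [Ideal.ofList_nil]; exact bot_le
  | cons a l ih =>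
    rw [Ideal.ofList_cons]
    refine (sup_le_sup ?_ ih).trans (ann_ten _ _)
    rw [Ideal.span_singleton_le_iff_mem]
    exact mem_kos_ann a

/-- regular sequences (in reversed order) -/
def RegL : List R → Prop
  | [] => True
  | a :: l => RegL l ∧ IsSMulRegular (R ⧸ Ideal.ofList l) a

theorem exists_conc : ∀ (l : List R), RegL l →
    ∃ ε : (kosL l).V →ₗ[R] R ⧸ Ideal.ofList l, KD.Conc (kosL l).K ε := by
  intro l
  induction l with
  | nil =>
    intro _
    refine ⟨(Submodule.mkQ (Ideal.ofList ([] : List R)) : R →ₗ[R] _), ?_, ?_, ?_, ?_⟩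
    · intro x
      exact map_zero _
    · intro m
      obtain ⟨x, rfl⟩ := Submodule.mkQ_surjective _ m
      exact ⟨x, ⟨rfl, rfl⟩, rfl⟩
    · intro x _ hx
      have hx' : x ∈ Ideal.ofList ([] : List R) := (Submodule.Quotient.mk_eq_zero _).mp hx
      rw [Ideal.ofList_nil] at hx'
      have : x = 0 := hx'
      rw [this]
      exact Submodule.zero_mem _
    · rintro x ⟨-, hx⟩
      have : x = 0 := hx.symm
      rw [this]
      exact Submodule.zero_mem _
  | cons a l ih =>
    rintro ⟨h1, h2⟩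
    obtain ⟨ε, hε⟩ := ih h1
    have hle : Ideal.ofList l ≤ Ideal.ofList (a :: l) := by
      rw [Ideal.ofList_cons]; exact le_sup_right
    have hc := hε.cone h2 (q := Submodule.factor hle) (Submodule.factor_surjective hle) (by
      intro m
      obtain ⟨x, rfl⟩ := Submodule.mkQ_surjective _ m
      rw [Submodule.factor_mk]
      simp only [Submodule.mkQ_apply]
      rw [Submodule.Quotient.mk_eq_zero]
      rw [Ideal.ofList_cons, Submodule.mem_sup]
      constructor
      · rintro ⟨y, hy, z, hz, rfl⟩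
        obtain ⟨r, rfl⟩ := Ideal.mem_span_singleton'.mp hy
        refine ⟨Submodule.Quotient.mk r, ?_⟩
        rw [← Submodule.Quotient.mk_smul, Submodule.Quotient.eq, smul_eq_mul]
        have : r * a + z - a * r = z := by ring
        rw [this]
        exact hz
      · rintro ⟨m', hm'⟩
        obtain ⟨r, rfl⟩ := Submodule.mkQ_surjective _ m'
        rw [Submodule.mkQ_apply, ← Submodule.Quotient.mk_smul, Submodule.Quotient.eq] at hm'
        exact ⟨a * r, Ideal.mul_mem_right _ _ (Ideal.mem_span_singleton_self a), x - a * r, hm',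
          by ring⟩)
    exact ⟨_, hc.of_iso (KD.isIso_kf a (kosL l).K).symm⟩

theorem chi_kosL (l : List R) (hl : RegL l) (ℓ : LenFun R) :
    (kosL l).chi ℓ = ((ℓ.len (R ⧸ Ideal.ofList l)).toNat : ℤ) := by
  obtain ⟨ε, hε⟩ := exists_conc l hl
  exact hε.chi ℓ

theorem IsRes.chi {F : Cx R} {M : Type u} [AddCommGroup M] [Module R M] (h : F.IsRes 0 M)
    (ℓ : LenFun R) : F.chi ℓ = ((ℓ.len M).toNat : ℤ) := by
  obtain ⟨N, g, ε, hg, h⟩ := h
  exact (h.conc hg).chi ℓ

variable [IsNoetherianRing R] {ℓ : LenFun R}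

theorem chi_cone {F G : Cx R} {f : F.V →ₗ[R] G.V} (hf : KD.IsHom F.K G.K f)
    (hg : (KD.cone hf).IsGr) (h1 : Small ℓ F.ann) (h2 : Small ℓ G.ann) :
    (cone hf hg).chi ℓ = G.chi ℓ + F.sh.chi ℓ := by
  have e1 := (ten_one (cone hf hg)).chi ℓ
  have e2 := (ten_one F).chi ℓ
  have e3 := (ten_one G).chi ℓ
  have := chi_ten_cone hf hg (one R) (h1.mono (le_sup_left.trans (ann_ten F (one R))))
    (h2.mono (le_sup_left.trans (ann_ten G (one R))))
  rw [e1, e2, e3] at this
  rw [this, sh_chi, sub_eq_add_neg]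

theorem InJ.small {J : Ideal R} {F : Cx R} (h : InJ J F) (hJ : Small ℓ J) : Small ℓ F.ann := by
  obtain ⟨m, hm⟩ := h
  exact (hJ.pow m).mono hm

theorem chi_of_null {F : Cx R} (h : ℓ.len (R ⧸ F.ann) = 0) : F.chi ℓ = 0 :=
  KD.chi_eq_zero_of_null F.K h

theorem len_quot_mono {I J : Ideal R} (h : I ≤ J) : ℓ.len (R ⧸ J) ≤ ℓ.len (R ⧸ I) :=
  ℓ.le_of_surjective (Submodule.factor h) (Submodule.factor_surjective h)

end Cx

variable [IsNoetherianRing R] {ℓ : LenFun R} {n : ℕ}

theorem AdamsOp.mx_kosL (op : AdamsOp R n) : ∀ (l : List R) (X : Cx R),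
    Small ℓ (Ideal.ofList l ⊔ X.ann) →
    (n : ℤ) * ((op.A (Cx.kosL l)).ten X).chi ℓ - ((op.B (Cx.kosL l)).ten X).chi ℓ =
      ((n : ℤ) - 1) * (n : ℤ) ^ l.length * ((Cx.kosL l).ten X).chi ℓ := by
  intro l
  induction l with
  | nil =>
    intro X _
    have h1 := op.unit ℓ X
    have h2 := (Cx.one_ten X).chi ℓ
    show (n : ℤ) * ((op.A (Cx.one R)).ten X).chi ℓ - ((op.B (Cx.one R)).ten X).chi ℓ =
      ((n : ℤ) - 1) * (n : ℤ) ^ 0 * ((Cx.one R).ten X).chi ℓ
    rw [h1, h2, pow_zero, mul_one]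
  | cons a l ih =>
    intro X hX
    have hs : Small ℓ ((Cx.kos a).ann ⊔ (Cx.kosL l).ann ⊔ X.ann) := by
      refine hX.mono (sup_le_sup ?_ le_rfl)
      rw [Ideal.ofList_cons]
      refine sup_le_sup ?_ (Cx.ofList_le_ann l)
      rw [Ideal.span_singleton_le_iff_mem]
      exact Cx.mem_kos_ann a
    have hs' : Small ℓ (Ideal.ofList l ⊔ ((Cx.kos a).ten X).ann) := by
      refine hX.mono ?_
      rw [Ideal.ofList_cons]
      refine sup_le (sup_le ?_ le_sup_left) ?_
      · refine le_sup_of_le_right ((le_trans ?_ le_sup_left).trans (Cx.ann_ten _ _))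
        rw [Ideal.span_singleton_le_iff_mem]
        exact Cx.mem_kos_ann a
      · exact le_sup_of_le_right (le_sup_right.trans (Cx.ann_ten _ _))
    have h1 := op.kos ℓ a (Cx.kosL l) X hs
    have h2 := ih ((Cx.kos a).ten X) hs'
    have h3 := (Cx.move (Cx.kos a) (Cx.kosL l) X).chi ℓ
    show (n : ℤ) * ((op.A ((Cx.kos a).ten (Cx.kosL l))).ten X).chi ℓ -
      ((op.B ((Cx.kos a).ten (Cx.kosL l))).ten X).chi ℓ =
      ((n : ℤ) - 1) * (n : ℤ) ^ (l.length + 1) * (((Cx.kos a).ten (Cx.kosL l)).ten X).chi ℓ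
    rw [h1, h2, h3, pow_succ]
    ring

theorem AdamsOp.m_kosL (op : AdamsOp R n) (l : List R) (h : Small ℓ (Ideal.ofList l)) :
    (n : ℤ) * (op.A (Cx.kosL l)).chi ℓ - (op.B (Cx.kosL l)).chi ℓ =
      ((n : ℤ) - 1) * (n : ℤ) ^ l.length * (Cx.kosL l).chi ℓ := by
  have h1 := op.mx_kosL (ℓ := ℓ) l (Cx.one R) (h.mono le_sup_left)
  rwa [(Cx.ten_one (op.A (Cx.kosL l))).chi, (Cx.ten_one (op.B (Cx.kosL l))).chi,
    (Cx.ten_one (Cx.kosL l)).chi] at h1

/-- the hypotheses on a length function at a prime -/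
structure AtPrime (ℓ : LenFun R) (P : Ideal R) (l : List R) : Prop where
  prime : P.IsPrime
  reg : Cx.RegL l
  le : Ideal.ofList l ≤ P
  min : ∀ P' : Ideal R, P'.IsPrime → Ideal.ofList l ≤ P' → P' ≤ P → P' = P
  small : Small ℓ (Ideal.ofList l)
  one : ℓ.len (R ⧸ P) = 1
  null : ∀ I : Ideal R, ¬ I ≤ P → ℓ.len (R ⧸ I) = 0

theorem AtPrime.small_P {P : Ideal R} {l : List R} (h : AtPrime ℓ P l) : Small ℓ P :=
  h.small.mono h.le

/-- all finite modules have finite resolutions -/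
def HasRes (R : Type u) [CommRing R] : Prop :=
  ∀ (M : Type u) [AddCommGroup M] [Module R M] [Module.Finite R M], ∃ F : Cx R, F.IsRes 0 M

theorem Cx.IsRes.ideal_le {F : Cx R} {P : Ideal R} (h : F.IsRes 0 (R ⧸ P)) : P ≤ F.ann := by
  intro y hy
  apply h.mem_ann
  intro m
  obtain ⟨m, rfl⟩ := Submodule.mkQ_surjective _ m
  rw [Submodule.mkQ_apply, ← Submodule.Quotient.mk_smul,
    Submodule.Quotient.mk_eq_zero, smul_eq_mul]
  exact Ideal.mul_mem_right _ _ hy

/-- The local formula. -/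
theorem AdamsOp.local_formula (op : AdamsOp R n) (hres : HasRes R) {P : Ideal R} {l : List R}
    (h : AtPrime ℓ P l) (F : Cx R) (hF : Cx.InJ (Ideal.ofList l) F) :
    (n : ℤ) * (op.A F).chi ℓ - (op.B F).chi ℓ =
      ((n : ℤ) - 1) * (n : ℤ) ^ l.length * F.chi ℓ := by
  let μ : Cx R → ℤ := fun F => ((n : ℤ) * (op.A F).chi ℓ - (op.B F).chi ℓ) -
    ((n : ℤ) - 1) * (n : ℤ) ^ l.length * F.chi ℓ
  have hcone : ∀ (F G : Cx R) (f : F.V →ₗ[R] G.V) (hf : KD.IsHom F.K G.K f)
      (hg : (KD.cone hf).IsGr), Cx.InJ (Ideal.ofList l) F → Cx.InJ (Ideal.ofList l) G →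
      μ (Cx.cone hf hg) = μ G + μ F.sh := by
    intro F G f hf hg hF hG
    have h1 := op.add ℓ F G f hf hg (hF.small h.small) (hG.small h.small)
    have h2 := Cx.chi_cone hf hg (hF.small h.small) (hG.small h.small)
    simp only [μ]
    rw [h1, h2]
    ring
  have hzero : ∀ F : Cx R, (1 : R) ∈ F.ann → μ F = 0 := by
    intro F hF
    simp only [μ]
    rw [op.zero ℓ F hF]
    have : F.chi ℓ = 0 := KD.chi_eq_zero_of_one_mem F.K hF
    rw [this]; ring
  have hnull : ∀ F : Cx R, ¬ F.ann ≤ P → μ F = 0 := by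
    intro F hF
    have h0 := h.null F.ann hF
    have hA : (op.A F).chi ℓ = 0 := Cx.chi_of_null (le_antisymm
      ((Cx.len_quot_mono (op.annA F)).trans h0.le) bot_le)
    have hB : (op.B F).chi ℓ = 0 := Cx.chi_of_null (le_antisymm
      ((Cx.len_quot_mono (op.annB F)).trans h0.le) bot_le)
    simp only [μ]
    rw [hA, hB, Cx.chi_of_null h0]
    ring
  obtain ⟨G, hG⟩ := hres (R ⧸ P)
  -- first dévissage
  have hG0 : μ G = 0 := by
    let μ' : Cx R → ℤ := fun F => G.chi ℓ * μ F - μ G * F.chi ℓ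
    have hK := Cx.dev (J := Ideal.ofList l) (μ := μ') ?_ ?_ ?_ hres (Cx.kosL l)
      ⟨1, by rw [pow_one]; exact Cx.ofList_le_ann l⟩
    · have hμK : μ (Cx.kosL l) = 0 := by
        simp only [μ]
        rw [op.m_kosL l h.small, sub_self]
      simp only [μ'] at hK
      rw [hμK, mul_zero, zero_sub, neg_eq_zero, mul_eq_zero] at hK
      refine hK.resolve_right ?_
      rw [Cx.chi_kosL l h.reg]
      have h1 : (1 : ℕ∞) ≤ ℓ.len (R ⧸ Ideal.ofList l) := by
        rw [← h.one]
        exact Cx.len_quot_mono h.le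
      have h2 : ℓ.len (R ⧸ Ideal.ofList l) ≠ ⊤ := h.small
      rw [Int.natCast_eq_zero, ENat.toNat_eq_zero]
      rintro (h3 | h3)
      · rw [h3] at h1; simp at h1
      · exact h2 h3
    · intro F G' f hf hg hF hG'
      simp only [μ']
      rw [hcone F G' f hf hg hF hG', Cx.chi_cone hf hg (hF.small h.small) (hG'.small h.small)]
      ring
    · intro F hF
      simp only [μ']
      have : F.chi ℓ = 0 := KD.chi_eq_zero_of_one_mem F.K hF
      rw [hzero F hF, this]; ring
    · intro P' hP' hle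
      by_cases hPP : P' ≤ P
      · have := h.min P' hP' hle hPP
        subst this
        exact ⟨G, hG, by simp only [μ']; ring⟩
      · obtain ⟨G', hG'⟩ := hres (R ⧸ P')
        have hn : ¬ G'.ann ≤ P := fun h' => hPP (hG'.ideal_le.trans h')
        refine ⟨G', hG', ?_⟩
        simp only [μ']
        rw [hnull G' hn, Cx.chi_of_null (h.null _ hn)]
        ring
  have := Cx.dev (J := Ideal.ofList l) (μ := μ) hcone hzero ?_ hres F hF
  · simp only [μ] at this
    linarith
  · intro P' hP' hle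
    by_cases hPP : P' ≤ P
    · have := h.min P' hP' hle hPP
      subst this
      exact ⟨G, hG, hG0⟩
    · obtain ⟨G', hG'⟩ := hres (R ⧸ P')
      have hn : ¬ G'.ann ≤ P := fun h' => hPP (hG'.ideal_le.trans h')
      exact ⟨G', hG', hnull G' hn⟩

end Groth.Agent.Books.AdKD
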