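import Mathlib.RingTheory.Length
import Mathlib.RingTheory.Noetherian.Basic
import Mathlib.LinearAlgebra.Isomorphisms

set_option autoImplicit false
universe u

/-!
# Relative lengths with respect to an abstract additive length function
-/

namespace Groth.Agent.Books.AdLen

/-- An additive length function on `R`-modules with values in `ℕ∞`. -/
structure LenFun (R : Type u) [CommRing R] where
  /-- the length of a module -/
  len : ∀ (M : Type u) [AddCommGroup M] [Module R M], ℕ∞
  zero' : ∀ (M : Type u) [AddCommGroup M] [Module R M], Subsingleton M → len M = 0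
  exact' : ∀ (M' M M'' : Type u) [AddCommGroup M'] [Module R M'] [AddCommGroup M] [Module R M]
    [AddCommGroup M''] [Module R M''] (f : M' →ₗ[R] M) (g : M →ₗ[R] M''),
    Function.Injective f → Function.Surjective g → Function.Exact f g →
    len M = len M' + len M''

variable {R : Type u} [CommRing R] (ℓ : LenFun R)

namespace LenFun

theorem zero (M : Type u) [AddCommGroup M] [Module R M] [h : Subsingleton M] : ℓ.len M = 0 :=
  ℓ.zero' M h

variable {M M' M'' N : Type u} [AddCommGroup M'] [Module R M'] [AddCommGroup M] [Module R M]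
    [AddCommGroup M''] [Module R M''] [AddCommGroup N] [Module R N]

theorem congr (e : M ≃ₗ[R] N) : ℓ.len M = ℓ.len N := by
  have h := ℓ.exact' M N PUnit.{u+1} (e : M →ₗ[R] N) 0 e.injective
    (fun x => ⟨0, Subsingleton.elim _ _⟩)
    (fun x => ⟨fun _ => ⟨e.symm x, by simp⟩, fun _ => Subsingleton.elim _ _⟩)
  rw [h, ℓ.zero PUnit, add_zero]

theorem quot (S : Submodule R M) : ℓ.len M = ℓ.len S + ℓ.len (M ⧸ S) :=
  ℓ.exact' S M (M ⧸ S) S.subtype S.mkQ S.injective_subtype S.mkQ_surjective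
    (by
      intro x
      simp)

theorem ker_range (f : M →ₗ[R] N) : ℓ.len M = ℓ.len (LinearMap.ker f) + ℓ.len (LinearMap.range f) := by
  rw [ℓ.quot (LinearMap.ker f), ℓ.congr f.quotKerEquivRange]

theorem le_of_injective (f : M →ₗ[R] N) (hf : Function.Injective f) : ℓ.len M ≤ ℓ.len N := by
  rw [ℓ.quot (LinearMap.range f), ℓ.congr (LinearEquiv.ofInjective f hf)]
  exact le_self_add

theorem le_of_surjective (f : M →ₗ[R] N) (hf : Function.Surjective f) : ℓ.len N ≤ ℓ.len M := by
  rw [ℓ.ker_range f]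
  have : ℓ.len (LinearMap.range f) = ℓ.len N :=
    ℓ.congr (LinearEquiv.ofTop _ (LinearMap.range_eq_top.mpr hf))
  rw [this]
  exact le_add_self

/-- the relative length of `Z / (B ∩ Z)` -/
noncomputable def rel {V : Type u} [AddCommGroup V] [Module R V] (B Z : Submodule R V) : ℕ∞ :=
  ℓ.len (Z ⧸ B.submoduleOf Z)

variable {V W : Type u} [AddCommGroup V] [Module R V] [AddCommGroup W] [Module R W]

theorem rel_eq_zero {B Z : Submodule R V} (h : Z ≤ B) : ℓ.rel B Z = 0 := by
  have : Subsingleton (Z ⧸ B.submoduleOf Z) := by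
    rw [Submodule.Quotient.subsingleton_iff, Submodule.submoduleOf, Submodule.comap_subtype_eq_top]
    exact h
  exact ℓ.zero _

theorem rel_comap (f : V →ₗ[R] W) (B : Submodule R V) (D : Submodule R W) :
    ℓ.rel (B ⊓ D.comap f) B = ℓ.rel D (D ⊔ B.map f) := by
  have hmem : ∀ x : B, f x ∈ D ⊔ B.map f := fun x =>
    Submodule.mem_sup_right (Submodule.mem_map_of_mem x.2)
  let g : B →ₗ[R] (↥(D ⊔ B.map f) ⧸ D.submoduleOf (D ⊔ B.map f)) :=
    (D.submoduleOf (D ⊔ B.map f)).mkQ ∘ₗ
      LinearMap.codRestrict _ (f ∘ₗ B.subtype) hmem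
  have hg : Function.Surjective g := by
    intro y
    obtain ⟨⟨y, hy⟩, rfl⟩ := Submodule.mkQ_surjective _ y
    obtain ⟨a, ha, b, hb, rfl⟩ := Submodule.mem_sup.mp hy
    obtain ⟨x, hx, rfl⟩ := hb
    refine ⟨⟨x, hx⟩, ?_⟩
    simp only [g, LinearMap.comp_apply, Submodule.mkQ_apply]
    rw [Submodule.Quotient.eq]
    simp only [Submodule.submoduleOf, Submodule.mem_comap, Submodule.subtype_apply]
    simpa using ha
  have hk : LinearMap.ker g = (B ⊓ D.comap f).submoduleOf B := by
    ext ⟨x, hx⟩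
    rw [LinearMap.mem_ker]
    simp only [g, LinearMap.comp_apply, Submodule.mkQ_apply]
    rw [Submodule.Quotient.mk_eq_zero]
    simp [Submodule.submoduleOf, hx]
  unfold rel
  rw [← hk]
  exact ℓ.congr (g.quotKerEquivOfSurjective hg)

theorem rel_inf (A B : Submodule R V) : ℓ.rel (B ⊓ A) B = ℓ.rel A (A ⊔ B) := by
  have := ℓ.rel_comap (LinearMap.id : V →ₗ[R] V) B A
  simpa using this

theorem rel_inf' (A B : Submodule R V) : ℓ.rel (B ⊓ A) B = ℓ.rel A B := by
  have h : (B ⊓ A).submoduleOf B = A.submoduleOf B := by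
    simp [Submodule.submoduleOf, Submodule.comap_inf]
  unfold rel
  rw [h]

theorem rel_sup (A B : Submodule R V) : ℓ.rel A (A ⊔ B) = ℓ.rel A B := by
  rw [← rel_inf, rel_inf']

theorem rel_comap' (f : V →ₗ[R] W) (B : Submodule R V) (D : Submodule R W) :
    ℓ.rel (D.comap f) B = ℓ.rel D (B.map f) := by
  rw [← rel_inf', rel_comap, rel_sup]

theorem rel_mkQ (A B : Submodule R V) : ℓ.rel A B = ℓ.len (B.map A.mkQ) := by
  have h := ℓ.rel_comap' A.mkQ B (⊥ : Submodule R (V ⧸ A))
  rw [← LinearMap.ker, Submodule.ker_mkQ] at h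
  rw [h]
  unfold rel
  have h0 : (⊥ : Submodule R (V ⧸ A)).submoduleOf (B.map A.mkQ) = ⊥ := by
    simp [Submodule.submoduleOf]
  rw [h0]
  exact ℓ.congr (Submodule.quotEquivOfEqBot ⊥ rfl)

theorem len_eq_add_rel {B C : Submodule R V} (hBC : B ≤ C) :
    ℓ.len C = ℓ.len B + ℓ.rel B C := by
  rw [ℓ.quot (B.submoduleOf C)]
  unfold rel
  rw [ℓ.congr (Submodule.submoduleOfEquivOfLe hBC)]

theorem rel_bot (C : Submodule R V) : ℓ.rel ⊥ C = ℓ.len C := by
  rw [ℓ.len_eq_add_rel (bot_le : ⊥ ≤ C), ℓ.zero (⊥ : Submodule R V), zero_add]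

theorem rel_trans {A B C : Submodule R V} (hAB : A ≤ B) (hBC : B ≤ C) :
    ℓ.rel A C = ℓ.rel A B + ℓ.rel B C := by
  have h2 := ℓ.rel_comap' A.mkQ C (B.map A.mkQ)
  rw [Submodule.comap_map_mkQ, sup_eq_right.mpr hAB] at h2
  rw [ℓ.rel_mkQ A C, ℓ.rel_mkQ A B, h2]
  exact ℓ.len_eq_add_rel (Submodule.map_mono hBC)

theorem rel_mono_left {A A' B : Submodule R V} (h : A ≤ A') : ℓ.rel A' B ≤ ℓ.rel A B := by
  unfold rel
  exact ℓ.le_of_surjective (Submodule.factor (Submodule.comap_mono h))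
    (Submodule.factor_surjective _)

theorem rel_mono_right {A B B' : Submodule R V} (h : B ≤ B') : ℓ.rel A B ≤ ℓ.rel A B' := by
  rw [rel_mkQ, rel_mkQ]
  exact ℓ.le_of_injective (Submodule.inclusion (Submodule.map_mono h))
    (Submodule.inclusion_injective _)

/-- The relative length only depends on the sub-quotient: transport along a map which induces an
isomorphism `Z/B → Z'/B'`. -/
theorem rel_congr {B Z : Submodule R V} {B' Z' : Submodule R W} (f : V →ₗ[R] W)
    (h1 : Z.map f ≤ Z') (h2 : Z' ≤ B' ⊔ Z.map f) (h3 : ∀ x ∈ Z, f x ∈ B' → x ∈ B)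
    (h4 : B.map f ≤ B') (hB : B' ≤ Z') : ℓ.rel B Z = ℓ.rel B' Z' := by
  have e : Z ⊓ B'.comap f = Z ⊓ B := by
    apply le_antisymm
    · rintro x ⟨hx, hx'⟩
      exact ⟨hx, h3 x hx hx'⟩
    · rintro x ⟨hx, hx'⟩
      exact ⟨hx, h4 (Submodule.mem_map_of_mem hx')⟩
  rw [← rel_inf', ← e, rel_comap]
  congr 1
  exact le_antisymm (sup_le hB h1) h2

end LenFun

/-- The usual length. -/
noncomputable def stdLen (R : Type u) [CommRing R] : LenFun R where
  len M _ _ := Module.length R M
  zero' M _ _ h := by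
    exact Module.length_eq_zero
  exact' _ _ _ _ _ _ _ _ _ f g hf hg he := Module.length_eq_add_of_exact f g hf hg he

end Groth.Agent.Books.AdLen
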