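import Groth.Agent.Books.AdCyc

set_option autoImplicit false
universe u

/-!
# Euler characteristics and commuting central idempotents
-/

open TensorProduct

namespace Groth.Agent.Books.AdKD

open Groth.Agent.Books.AdLen

namespace KD

variable {R : Type u} [CommRing R] {V W U : Type u} [AddCommGroup V] [Module R V]
  [AddCommGroup W] [Module R W] [AddCommGroup U] [Module R U]

section central

variable {K : KD R V}

theorem Cen.mul {a b : V →ₗ[R] V} (ha : K.Cen a) (hb : K.Cen b) (hab : ∀ x, a (b x) = b (a x)) :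
    K.Cen (a ∘ₗ b) where
  ee x := by
    simp only [LinearMap.comp_apply]
    rw [← hab, hb.ee, ha.ee]
  ep c x := by simp [hb.ep, ha.ep]
  ed x := by simp [hb.ed, ha.ed]

theorem Cen.id (K : KD R V) : K.Cen LinearMap.id := ⟨fun _ => rfl, fun _ _ => rfl, fun _ => rfl⟩

theorem cutG_id (K : KD R V) : cutG (Cen.id K).good = K := by
  refine KD.ext (fun z => ?_) (fun a z => ?_)
  · rw [cutG_d]; rfl
  · rw [cutG_p]; rfl

theorem Cen.cen_cut {a b : V →ₗ[R] V} (ha : K.Cen a) (hb : K.Cen b) (hab : ∀ x, a (b x) = b (a x)) :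
    (cutG ha.good).Cen b where
  ee := hb.ee
  ep c x := by rw [cutG_p, cutG_p, hb.ep, hab]
  ed x := by rw [ha.cut_d, ha.cut_d, ← hab, hb.ed]

theorem cut_cut {a b : V →ₗ[R] V} (ha : K.Cen a) (hb : K.Cen b) (hab : ∀ x, a (b x) = b (a x)) :
    cutG (ha.cen_cut hb hab).good = cutG (ha.mul hb hab).good := by
  refine KD.ext (fun z => ?_) (fun c z => ?_)
  · rw [(ha.cen_cut hb hab).cut_d, ha.cut_d, (ha.mul hb hab).cut_d, LinearMap.comp_apply, hab]
  · rw [cutG_p, cutG_p, cutG_p, LinearMap.comp_apply]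

variable [IsNoetherianRing R] [Module.Finite R V] {ℓ : LenFun R}

theorem chi_split (hS : Small ℓ K.ann) {a : V →ₗ[R] V} (ha : K.Cen a) :
    K.chi ℓ = (cutG ha.good).chi ℓ + (cutG ha.co.good).chi ℓ := by
  have h1 : (cutG ha.good).Fin ℓ := fin_of_small _ (hS.mono (ann_cut ha))
  have h2 : (cutG ha.co.good).Fin ℓ := fin_of_small _ (hS.mono (ann_cut ha.co))
  exact chi_add ha.stab h1 h2

omit [IsNoetherianRing R] [Module.Finite R V] in
theorem small_cut (hS : Small ℓ K.ann) {a : V →ₗ[R] V} (ha : K.Cen a) :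
    Small ℓ (cutG ha.good).ann := hS.mono (ann_cut ha)

open Classical in
/-- Euler characteristic of a central cut (zero if not central) -/
noncomputable def cx (K : KD R V) (ℓ : LenFun R) (a : Module.End R V) : ℤ :=
  if h : K.Cen a then (cutG h.good).chi ℓ else 0

omit [IsNoetherianRing R] [Module.Finite R V] in
theorem cx_eq {a : Module.End R V} (h : K.Cen a) : K.cx ℓ a = (cutG h.good).chi ℓ := dif_pos h

omit [IsNoetherianRing R] [Module.Finite R V] in
theorem cx_one : K.cx ℓ 1 = K.chi ℓ := by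
  have h : K.Cen (1 : Module.End R V) := Cen.id K
  rw [cx_eq h]
  exact congrArg (fun K => KD.chi K ℓ) (cutG_id K)

omit [IsNoetherianRing R] [Module.Finite R V] in
theorem Cen.mul' {a b : Module.End R V} (ha : K.Cen a) (hb : K.Cen b) (hab : Commute a b) :
    K.Cen (a * b) := ha.mul hb (fun x => by
      have := LinearMap.congr_fun hab x
      simpa using this)

omit [IsNoetherianRing R] [Module.Finite R V] in
theorem Cen.co' {a : Module.End R V} (ha : K.Cen a) : K.Cen (1 - a) := ha.co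

omit [IsNoetherianRing R] [Module.Finite R V] in
theorem Cen.zero : K.Cen (0 : Module.End R V) :=
  ⟨fun _ => rfl, fun _ _ => by simp, fun _ => by simp⟩

omit [IsNoetherianRing R] [Module.Finite R V] in
theorem Cen.idem {a : Module.End R V} (ha : K.Cen a) : a * a = a := LinearMap.ext ha.ee

omit [IsNoetherianRing R] [Module.Finite R V] in
theorem cx_zero : K.cx ℓ 0 = 0 := by
  rw [cx_eq Cen.zero]
  have : ∀ a, (cutG (Cen.zero (K := K)).good).hl ℓ a = 0 := by
    intro a
    apply ℓ.rel_eq_zero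
    intro x hx
    have h1 : x = 0 := by
      rw [← hx.2, cutG_p]; simp
    rw [h1]
    exact Submodule.zero_mem _
  unfold chi
  rw [this, this]
  simp

theorem cx_split (hS : Small ℓ K.ann) {a b : Module.End R V} (ha : K.Cen a) (hb : K.Cen b)
    (hab : Commute a b) :
    K.cx ℓ a = K.cx ℓ (a * b) + K.cx ℓ (a * (1 - b)) := by
  have hab' : ∀ x, a (b x) = b (a x) := fun x => by
    have := LinearMap.congr_fun hab x
    simpa using this
  rw [cx_eq ha, cx_eq (ha.mul' hb hab), cx_eq (ha.mul' hb.co' (Commute.sub_right (Commute.one_right a) hab)),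
    chi_split (small_cut hS ha) (ha.cen_cut hb hab'), cut_cut ha hb hab']
  congr 1
  exact congrArg (fun K => KD.chi K ℓ) (cut_cut ha hb.co (fun x => by simp [co_apply, hab']))

omit [IsNoetherianRing R] [Module.Finite R V] in
theorem cutG_congr_pi {a b : V →ₗ[R] V} (ha : K.Cen a) (hb : K.Cen b)
    (h : ∀ x, a (K.pi x) = b (K.pi x)) : cutG ha.good = cutG hb.good := by
  refine KD.ext (fun z => ?_) (fun c z => ?_)
  · rw [ha.cut_d, hb.cut_d, ha.ed, hb.ed, ← K.d_pi, ← ha.good.epi, h, hb.good.epi, K.d_pi]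
  · rw [cutG_p, cutG_p, ← K.p_pi, ← ha.good.epi, h, hb.good.epi, K.p_pi]

omit [IsNoetherianRing R] [Module.Finite R V] in
theorem cx_congr {a b : Module.End R V} (ha : K.Cen a) (hb : K.Cen b)
    (h : ∀ x, a (K.pi x) = b (K.pi x)) : K.cx ℓ a = K.cx ℓ b := by
  rw [cx_eq ha, cx_eq hb, cutG_congr_pi ha hb h]

/-- The basic computation behind multiplicativity of the Adams operations. -/
theorem mult_aux (hS : Small ℓ K.ann) {n : ℤ} {α β γ : Module.End R V} (hα : K.Cen α)
    (hβ : K.Cen β) (hγ : K.Cen γ)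
    (hαβ : Commute α β) (hαγ : Commute γ α) (hβγ : Commute γ β)
    (h1 : γ * α = α * β) (h2 : γ * β = α * β)
    (hsym : (n - 1) * K.cx ℓ (γ * ((1 - α) * (1 - β))) = K.cx ℓ ((1 - α) * (1 - β))) :
    (n - 1) * (n * K.cx ℓ γ - K.cx ℓ 1) =
      n ^ 2 * K.cx ℓ (α * β) - n * K.cx ℓ α - n * K.cx ℓ β + K.cx ℓ 1 := by
  have c1 : K.Cen (1 : Module.End R V) := Cen.id K
  have e1 := cx_split hS c1 hα (Commute.one_left α)
  rw [one_mul, one_mul] at e1
  have e2 := cx_split hS hα hβ hαβ
  have e3 := cx_split hS hβ hα hαβ.symm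
  rw [← hαβ.eq] at e3
  have e4 := cx_split hS hα.co' hβ (Commute.sub_left (Commute.one_left β) hαβ)
  have e5 := cx_split hS hγ hα hαγ
  rw [h1] at e5
  have hc1 : Commute γ (1 - α) := Commute.sub_right (Commute.one_right γ) hαγ
  have hc2 : Commute (1 - α) β := Commute.sub_left (Commute.one_left β) hαβ
  have hc3 : Commute (γ * (1 - α)) β := hβγ.mul_left hc2
  have e6 := cx_split hS (hγ.mul' hα.co' hc1) hβ hc3
  have z1 : γ * (1 - α) * β = 0 := by
    rw [mul_sub, mul_one, sub_mul, h1, h2, mul_assoc, hβ.idem, sub_self]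
  rw [z1, cx_zero, zero_add, mul_assoc] at e6
  have e7 : β * (1 - α) = (1 - α) * β := hc2.eq.symm
  rw [e7] at e3
  rw [e5, e6, e1, e2, e4, e3]
  rw [← hsym]
  ring

/-- The symmetry for `n = 3`, obtained from a transposition. -/
theorem sym3 (hS : Small ℓ K.ann) {κ γ γ' t : Module.End R V} (hκ : K.Cen κ)
    (hγ : K.Cen γ) (hγκ : Commute γ κ) (hγ'κ : Commute γ' κ) (hγ' : K.Cen γ')
    (ht : IsHom K K t) (htt : ∀ x, t (t x) = K.pi x) (htκ : Commute t κ)
    (htγ : t * γ = γ' * t)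
    (hsum : ∀ x, κ (K.pi x - γ (K.pi x)) = κ (γ' (K.pi x))) :
    (3 - 1) * K.cx ℓ (γ * κ) = K.cx ℓ κ := by
  have e1 := cx_split hS hκ hγ hγκ.symm
  have e2 : K.cx ℓ (κ * γ) = K.cx ℓ (κ * γ') := by
    have c1 : K.Cen (κ * γ) := hκ.mul' hγ hγκ.symm
    have c2 : K.Cen (κ * γ') := hκ.mul' hγ' hγ'κ.symm
    rw [cx_eq c1, cx_eq c2]
    have tk : ∀ x, t (κ x) = κ (t x) := fun x => LinearMap.congr_fun htκ x
    have gk : ∀ x, γ (κ x) = κ (γ x) := fun x => LinearMap.congr_fun hγκ x
    have gk' : ∀ x, γ' (κ x) = κ (γ' x) := fun x => LinearMap.congr_fun hγ'κ x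
    have tg : ∀ x, t (γ x) = γ' (t x) := fun x => LinearMap.congr_fun htγ x
    have tgt : ∀ x, t (γ' (t x)) = K.pi (γ x) := by
      intro x
      rw [← tg, htt]
    refine chi_congr (isIso_cut c1 c2 ht ht ?_ ?_) ℓ
    · intro x
      simp only [Module.End.mul_apply, tk, gk, gk', hκ.ee, tg, tgt, hγ.ee, hγ'.ee]
      rw [hγ.good.epi, hγ.good.epi, hγ.ee]
    · intro x
      simp only [Module.End.mul_apply, tk, gk, gk', hκ.ee, tg, htt, hγ.ee, hγ'.ee]
      rw [hγ'.good.epi, hγ'.good.epi, hγ'.ee]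
  have e3 : K.cx ℓ (κ * (1 - γ)) = K.cx ℓ (κ * γ') := by
    refine cx_congr (hκ.mul' hγ.co' (Commute.sub_right (Commute.one_right κ) hγκ.symm))
      (hκ.mul' hγ' hγ'κ.symm) ?_
    intro x
    simpa using hsum x
  rw [e3] at e1
  rw [← hγκ.eq] at e2
  rw [e1, hγκ.symm.eq, ← e2]
  ring

end central

section right

variable {V' W' U' : Type u} [AddCommGroup V'] [Module R V']
  [AddCommGroup W'] [Module R W'] [AddCommGroup U'] [Module R U']

theorem Good.tensorR {L : KD R W} {e : W →ₗ[R] W} (h : L.Good e) (K : KD R V) :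
    (K.tensor L).Good (TensorProduct.map LinearMap.id e) where
  ee z := by
    refine lin_eq (F := TensorProduct.map LinearMap.id e ∘ₗ TensorProduct.map LinearMap.id e)
        (G := TensorProduct.map LinearMap.id e) (fun x y => ?_) z
    simp [h.ee]
  ep a z := by
    refine lin_eq (F := TensorProduct.map LinearMap.id e ∘ₗ (K.tensor L).p a)
        (G := (K.tensor L).p a ∘ₗ TensorProduct.map LinearMap.id e) (fun x y => ?_) z
    simp [tensor_p, h.ep]
  ed z := by
    refine lin_eq (F := TensorProduct.map LinearMap.id e ∘ₗ (K.tensor L).d ∘ₗ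
      TensorProduct.map LinearMap.id e ∘ₗ (K.tensor L).d ∘ₗ TensorProduct.map LinearMap.id e)
        (G := 0) (fun x y => ?_) z
    simp [tensor_d, h.ed, h.epi, h.ee, d_eps, K.dd, neg_tmul]
    rw [L.d_pi, ← h.epi (L.d _), L.pi_d]
    exact add_neg_cancel _

theorem Cen.tensorR {L : KD R W} {e : W →ₗ[R] W} (h : L.Cen e) (K : KD R V) :
    (K.tensor L).Cen (TensorProduct.map LinearMap.id e) where
  ee := (h.good.tensorR K).ee
  ep := (h.good.tensorR K).ep
  ed := ((IsHom.id K).tensor h.isHom).fd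

theorem cutG_tensorR {L : KD R W} {e : W →ₗ[R] W} (h : L.Good e) (K : KD R V) :
    K.tensor (cutG h) = cutG (h.tensorR K) := by
  refine KD.ext (fun z => ?_) (fun a z => ?_)
  · refine lin_eq (F := (K.tensor (cutG h)).d)
        (G := (cutG (h.tensorR K)).d) (fun x y => ?_) z
    simp [tensor_d, cutG_d, cutG_pi, h.epi, h.ee]
  · refine lin_eq (F := (K.tensor (cutG h)).p a)
        (G := (cutG (h.tensorR K)).p a) (fun x y => ?_) z
    simp [tensor_p, cutG_p]

end right

end KD

end Groth.Agent.Books.AdKD
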