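import Groth.Agent.Books.AdMul
import Mathlib.RingTheory.TensorProduct.Finite
import Mathlib.Algebra.Module.Projective

set_option autoImplicit false
universe u

/-!
# Multiplicativity
-/

open TensorProduct

namespace Groth.Agent.Books.AdKD

open Groth.Agent.Books.AdLen

namespace KD

variable {R : Type u} [CommRing R] {V W U : Type u} [AddCommGroup V] [Module R V]
  [AddCommGroup W] [Module R W] [AddCommGroup U] [Module R U]

theorem map_pow_end (f : Module.End R V) (g : Module.End R W) (i : ℕ) :
    (TensorProduct.map f g : Module.End R (V ⊗[R] W)) ^ i = TensorProduct.map (f ^ i) (g ^ i) := by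
  exact TensorProduct.map_pow f g i

theorem Cyc.tensor {n : ℕ} {P : KD R V} {Q : KD R W} {σ : Module.End R V} {τ : Module.End R W}
    (h : Cyc n P σ) (h' : Cyc n Q τ) : Cyc n (P.tensor Q) (TensorProduct.map σ τ) where
  hom := h.hom.tensor h'.hom
  spi z := by
    refine lin_eq (F := TensorProduct.map σ τ ∘ₗ (P.tensor Q).pi)
      (G := TensorProduct.map σ τ) (fun x y => ?_) z
    simp [tensor_pi, h.spi, h'.spi]
  sn z := by
    rw [map_pow_end]
    refine lin_eq (F := TensorProduct.map (σ ^ n) (τ ^ n))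
      (G := (P.tensor Q).pi) (fun x y => ?_) z
    simp [tensor_pi, h.sn, h'.sn]

variable {n : ℕ} [Invertible (n : R)]

theorem av_tensor_left {P : KD R V} {σ : Module.End R V}
    (h : Cyc n P σ) (τ : Module.End R W) (z : V ⊗[R] W) :
    av n (TensorProduct.map σ τ) (TensorProduct.map (av n σ) LinearMap.id z) =
      TensorProduct.map (av n σ) (av n τ) z := by
  refine lin_eq (F := av n (TensorProduct.map σ τ) ∘ₗ TensorProduct.map (av n σ) LinearMap.id)
      (G := TensorProduct.map (av n σ) (av n τ)) (fun x y => ?_) z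
  simp only [LinearMap.comp_apply, map_tmul, LinearMap.id_apply]
  rw [av_apply (σ := TensorProduct.map σ τ), av_apply (σ := τ), tmul_smul, tmul_sum]
  congr 1
  refine Finset.sum_congr rfl fun i _ => ?_
  rw [map_pow_end, map_tmul, h.pow_av]

theorem av_tensor_right {Q : KD R W} (σ : Module.End R V) {τ : Module.End R W}
    (h' : Cyc n Q τ) (z : V ⊗[R] W) :
    av n (TensorProduct.map σ τ) (TensorProduct.map LinearMap.id (av n τ) z) =
      TensorProduct.map (av n σ) (av n τ) z := by
  refine lin_eq (F := av n (TensorProduct.map σ τ) ∘ₗ TensorProduct.map LinearMap.id (av n τ))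
      (G := TensorProduct.map (av n σ) (av n τ)) (fun x y => ?_) z
  simp only [LinearMap.comp_apply, map_tmul, LinearMap.id_apply]
  rw [av_apply (σ := TensorProduct.map σ τ), av_apply (σ := σ), ← smul_tmul', sum_tmul]
  congr 1
  refine Finset.sum_congr rfl fun i _ => ?_
  rw [map_pow_end, map_tmul, h'.pow_av]

theorem Cen.tensorB {K : KD R V} {L : KD R W} {a : V →ₗ[R] V} {b : W →ₗ[R] W} (ha : K.Cen a)
    (hb : L.Cen b) : (K.tensor L).Cen (TensorProduct.map a b) where
  ee z := by
    refine lin_eq (F := TensorProduct.map a b ∘ₗ TensorProduct.map a b)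
        (G := TensorProduct.map a b) (fun x y => ?_) z
    simp [ha.ee, hb.ee]
  ep := (ha.isHom.tensor hb.isHom).fp
  ed := (ha.isHom.tensor hb.isHom).fd

theorem cutG_tensorB {K : KD R V} {L : KD R W} {a : V →ₗ[R] V} {b : W →ₗ[R] W} (ha : K.Cen a)
    (hb : L.Cen b) : (cutG ha.good).tensor (cutG hb.good) = cutG (ha.tensorB hb).good := by
  refine KD.ext (fun z => ?_) (fun c z => ?_)
  · refine lin_eq (F := ((cutG ha.good).tensor (cutG hb.good)).d)
        (G := (cutG (ha.tensorB hb).good).d) (fun x y => ?_) z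
    have h1 : ∀ x, a (K.eps x) = K.eps (a x) := by
      intro x; simp [eps_apply, ha.ep]
    simp [tensor_d, cutG_d, cutG_pi, cutG_eps, hb.good.epi, ha.ee, hb.ee, hb.ed, ha.ed, h1]
  · refine lin_eq (F := ((cutG ha.good).tensor (cutG hb.good)).p c)
        (G := (cutG (ha.tensorB hb).good).p c) (fun x y => ?_) z
    simp [tensor_p, cutG_p]

theorem commute_map {a a' : Module.End R V} {b b' : Module.End R W} (h1 : Commute a a')
    (h2 : Commute b b') : Commute (TensorProduct.map a b : Module.End R (V ⊗[R] W))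
      (TensorProduct.map a' b') := by
  have e1 : ∀ x, a (a' x) = a' (a x) := fun x => LinearMap.congr_fun h1 x
  have e2 : ∀ x, b (b' x) = b' (b x) := fun x => LinearMap.congr_fun h2 x
  apply TensorProduct.ext'
  intro x y
  simp only [Module.End.mul_apply, map_tmul, e1, e2]

theorem commute_av {σ a : Module.End R V} (h : Commute σ a) : Commute (av n σ) a := by
  unfold av
  apply Commute.smul_left
  apply Commute.sum_left
  intro i _
  exact h.pow_left (i + 1)

/-- `av σ ⊗ 1 ⊗ 1` -/
noncomputable def eα (n : ℕ) [Invertible (n : R)] (σ : Module.End R V) (W U : Type u) [AddCommGroup W]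
    [Module R W] [AddCommGroup U] [Module R U] : Module.End R ((V ⊗[R] W) ⊗[R] U) :=
  TensorProduct.map (TensorProduct.map (av n σ) 1) 1

/-- `1 ⊗ av τ ⊗ 1` -/
noncomputable def eβ (n : ℕ) [Invertible (n : R)] (V : Type u) [AddCommGroup V] [Module R V]
    (τ : Module.End R W) (U : Type u) [AddCommGroup U] [Module R U] :
    Module.End R ((V ⊗[R] W) ⊗[R] U) :=
  TensorProduct.map (TensorProduct.map 1 (av n τ)) 1

/-- `av (σ ⊗ τ) ⊗ 1` -/
noncomputable def eγ (n : ℕ) [Invertible (n : R)] (σ : Module.End R V)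
    (τ : Module.End R W) (U : Type u) [AddCommGroup U] [Module R U] :
    Module.End R ((V ⊗[R] W) ⊗[R] U) :=
  TensorProduct.map (av n (TensorProduct.map σ τ)) 1

section abc

variable {P : KD R V} {Q : KD R W} {X : KD R U} {σ : Module.End R V} {τ : Module.End R W}

theorem cen_α (h : Cyc n P σ) (Q : KD R W) (X : KD R U) :
    ((P.tensor Q).tensor X).Cen (eα n σ W U) := (h.cen_av.tensor Q).tensor X

theorem cen_β (P : KD R V) (h' : Cyc n Q τ) (X : KD R U) :
    ((P.tensor Q).tensor X).Cen (eβ n V τ U) := (h'.cen_av.tensorR P).tensor X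

theorem cen_γ (h : Cyc n P σ) (h' : Cyc n Q τ) (X : KD R U) :
    ((P.tensor Q).tensor X).Cen (eγ n σ τ U) := (h.tensor h').cen_av.tensor X

theorem comm_αβ (σ : Module.End R V) (τ : Module.End R W) (U : Type u) [AddCommGroup U] [Module R U] :
    Commute (eα n σ W U) (eβ n V τ U) :=
  commute_map (commute_map (Commute.one_right _) (Commute.one_left _)) (Commute.refl _)

theorem comm_γα' {σ : Module.End R V} {ρ : Module.End R V} (hρ : Commute ρ (av n σ))
    (τ : Module.End R W) (U : Type u) [AddCommGroup U] [Module R U] :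
    Commute (eγ n ρ τ U) (eα n σ W U) :=
  commute_map (commute_av (commute_map hρ (Commute.one_right _))) (Commute.refl _)

theorem comm_γα (σ : Module.End R V) (τ : Module.End R W) (U : Type u) [AddCommGroup U] [Module R U] :
    Commute (eγ n σ τ U) (eα n σ W U) :=
  comm_γα' (commute_av (Commute.refl σ)).symm τ U

theorem comm_γβ (σ : Module.End R V) (τ : Module.End R W) (U : Type u) [AddCommGroup U] [Module R U] :
    Commute (eγ n σ τ U) (eβ n V τ U) :=
  commute_map (commute_av (commute_map (Commute.one_right _)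
    (commute_av (Commute.refl τ)).symm)) (Commute.refl _)

theorem comm_one_sub {a b : Module.End R V} (h : Commute a b) :
    Commute a ((1 : Module.End R V) - b) := by
  have h' : ∀ x, a (b x) = b (a x) := fun x => LinearMap.congr_fun h x
  apply LinearMap.ext
  intro x
  simp [h']

/-- the product `(1 - α)(1 - β)` -/
noncomputable def eκ (n : ℕ) [Invertible (n : R)] (σ : Module.End R V)
    (τ : Module.End R W) (U : Type u) [AddCommGroup U] [Module R U] :
    Module.End R ((V ⊗[R] W) ⊗[R] U) :=
  ((1 : Module.End R ((V ⊗[R] W) ⊗[R] U)) - eα n σ W U) *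
    ((1 : Module.End R ((V ⊗[R] W) ⊗[R] U)) - eβ n V τ U)

theorem cen_κ (h : Cyc n P σ) (h' : Cyc n Q τ) (X : KD R U) :
    ((P.tensor Q).tensor X).Cen (eκ n σ τ U) :=
  (cen_α h Q X).co'.mul' (cen_β P h' X).co'
    (comm_one_sub (comm_one_sub (comm_αβ σ τ U).symm).symm)

theorem comm_κ {g : Module.End R ((V ⊗[R] W) ⊗[R] U)} (h1 : Commute g (eα n σ W U))
    (h2 : Commute g (eβ n V τ U)) : Commute g (eκ n σ τ U) :=
  (comm_one_sub h1).mul_right (comm_one_sub h2)

/-- κ on elements -/
theorem kappa_apply (h : Cyc n P σ) (h' : Cyc n Q τ)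
    (x : V) (y : W) (z : U) :
    eκ n σ τ U (((P.tensor Q).tensor X).pi ((x ⊗ₜ y) ⊗ₜ z)) =
      ((P.pi x - av n σ x) ⊗ₜ (Q.pi y - av n τ y)) ⊗ₜ X.pi z := by
  rw [KD.tensor_pi, KD.tensor_pi]
  simp only [eκ, eα, eβ, Module.End.mul_apply, LinearMap.sub_apply, Module.End.one_apply, map_tmul,
    map_sub, h.av_pi, h'.av_pi, tmul_sub, sub_tmul]

end abc

variable [IsNoetherianRing R] [Module.Finite R V] [Module.Finite R W] [Module.Finite R U]
  {ℓ : LenFun R} {P : KD R V} {Q : KD R W} {X : KD R U} {σ : Module.End R V} {τ : Module.End R W}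

/-- Multiplicativity, abstract form. -/
theorem Cyc.mult (h : Cyc n P σ) (h' : Cyc n Q τ)
    (hS : Small ℓ ((P.tensor Q).tensor X).ann)
    (hsym : ((n : ℤ) - 1) * ((P.tensor Q).tensor X).cx ℓ (eγ n σ τ U * eκ n σ τ U) =
      ((P.tensor Q).tensor X).cx ℓ (eκ n σ τ U)) :
    ((n : ℤ) - 1) * (n * ((cutG (h.tensor h').cen_av.good).tensor X).chi ℓ -
        ((P.tensor Q).tensor X).chi ℓ) =
      n ^ 2 * (((cutG h.cen_av.good).tensor (cutG h'.cen_av.good)).tensor X).chi ℓ
        - n * (((cutG h.cen_av.good).tensor Q).tensor X).chi ℓ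
        - n * ((P.tensor (cutG h'.cen_av.good)).tensor X).chi ℓ
        + ((P.tensor Q).tensor X).chi ℓ := by
  have cα := cen_α h Q X
  have cβ := cen_β P h' X
  have cγ := cen_γ h h' X
  have hαβ := comm_αβ (n := n) σ τ U
  have hγα := comm_γα (n := n) σ τ U
  have hγβ := comm_γβ (n := n) σ τ U
  have h1 : eγ n σ τ U * eα n σ W U = eα n σ W U * eβ n V τ U := by
    apply TensorProduct.ext'
    intro x y
    simp only [Module.End.mul_apply, eα, eβ, eγ, map_tmul, Module.End.one_apply]
    congr 1
    have e1 := av_tensor_left (σ := σ) h τ x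
    refine Eq.trans e1 ?_
    refine lin_eq (F := TensorProduct.map (av n σ) (av n τ))
      (G := TensorProduct.map (av n σ) 1 ∘ₗ TensorProduct.map 1 (av n τ)) (fun x y => ?_) x
    simp
  have h2 : eγ n σ τ U * eβ n V τ U = eα n σ W U * eβ n V τ U := by
    apply TensorProduct.ext'
    intro x y
    simp only [Module.End.mul_apply, eα, eβ, eγ, map_tmul, Module.End.one_apply]
    congr 1
    have e1 := av_tensor_right σ h' x
    refine Eq.trans e1 ?_
    refine lin_eq (F := TensorProduct.map (av n σ) (av n τ))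
      (G := TensorProduct.map (av n σ) 1 ∘ₗ TensorProduct.map 1 (av n τ)) (fun x y => ?_) x
    simp
  have key := mult_aux hS (n := (n : ℤ)) cα cβ cγ hαβ hγα hγβ h1 h2 hsym
  rw [cx_one, cx_eq cα, cx_eq cβ, cx_eq cγ, cx_eq (cα.mul' cβ hαβ)] at key
  have i1 : (cutG (h.tensor h').cen_av.good).tensor X = cutG cγ.good := cutG_tensor _ _
  have i2 : ((cutG h.cen_av.good).tensor Q).tensor X = cutG cα.good := by
    rw [cutG_tensor, cutG_tensor]
    rfl
  have i3 : (P.tensor (cutG h'.cen_av.good)).tensor X = cutG cβ.good := by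
    rw [cutG_tensorR, cutG_tensor]
    rfl
  have i4 : ((cutG h.cen_av.good).tensor (cutG h'.cen_av.good)).tensor X =
      cutG (cα.mul' cβ hαβ).good := by
    rw [cutG_tensorB h.cen_av h'.cen_av, cutG_tensor]
    apply cutG_congr
    apply TensorProduct.ext'
    intro x y
    simp only [Module.End.mul_apply, eα, eβ, map_tmul, Module.End.one_apply, LinearMap.id_apply]
    congr 1
    refine lin_eq (F := TensorProduct.map (av n σ) (av n τ))
      (G := TensorProduct.map (av n σ) 1 ∘ₗ TensorProduct.map 1 (av n τ)) (fun x y => ?_) x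
    simp
  rw [i1, i2, i3, i4]
  exact key

end KD

end Groth.Agent.Books.AdKD
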