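import Groth.Agent.Books.AdMul2

set_option autoImplicit false
universe u

/-!
# Multiplicativity for n = 2 and n = 3
-/

open TensorProduct

namespace Groth.Agent.Books.AdKD

open Groth.Agent.Books.AdLen

namespace KD

variable {R : Type u} [CommRing R] {V W U : Type u} [AddCommGroup V] [Module R V]
  [AddCommGroup W] [Module R W] [AddCommGroup U] [Module R U]

section two

variable [Invertible ((2 : ℕ) : R)]

theorem two_av (σ : Module.End R V) (x : V) : (2 : R) • av 2 σ x = σ x + (σ ^ 2) x := by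
  have := smul_av (n := 2) (σ := σ) x
  rw [Finset.sum_range_succ, Finset.sum_range_succ, Finset.sum_range_zero, zero_add] at this
  simpa using this

theorem av_two (σ : Module.End R V) (x : V) : av 2 σ x = ⅟((2 : ℕ) : R) • (σ x + (σ ^ 2) x) := by
  rw [av_apply, Finset.sum_range_succ, Finset.sum_range_succ, Finset.sum_range_zero, zero_add]
  simp

theorem Cyc.neg_of_two {P : KD R V} {σ : Module.End R V} (h : Cyc 2 P σ) (x : V) :
    σ (P.pi x - av 2 σ x) = - (P.pi x - av 2 σ x) := by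
  rw [map_sub, h.spi, h.s_av]
  have h1 : (2 : R) • (σ x - av 2 σ x) = (2 : R) • (-(P.pi x - av 2 σ x)) := by
    rw [smul_sub, smul_neg, smul_sub, two_av, h.sn, two_smul, two_smul]
    abel
  have h2 := congrArg (fun z => ⅟((2 : ℕ) : R) • z) h1
  simp only [smul_smul] at h2
  have h3 : ⅟((2 : ℕ) : R) * (2 : R) = 1 := by
    have := invOf_mul_self ((2 : ℕ) : R)
    push_cast at this ⊢
    convert this
  rw [h3, one_smul, one_smul] at h2
  exact h2

end two

section three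

variable [Invertible ((3 : ℕ) : R)]

theorem av_three (σ : Module.End R V) (x : V) :
    av 3 σ x = ⅟((3 : ℕ) : R) • (σ x + (σ ^ 2) x + (σ ^ 3) x) := by
  rw [av_apply, Finset.sum_range_succ, Finset.sum_range_succ, Finset.sum_range_succ,
    Finset.sum_range_zero, zero_add]
  simp

theorem Cyc.sum_three {P : KD R V} {σ : Module.End R V} (h : Cyc 3 P σ) (x : V) :
    (P.pi x - av 3 σ x) + σ (P.pi x - av 3 σ x) + (σ ^ 2) (P.pi x - av 3 σ x) = 0 := by
  rw [map_sub, map_sub, h.spi, h.s_av, h.pow_av, h.pow_pi (by norm_num)]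
  have h1 : ((3 : ℕ) : R) • av 3 σ x = σ x + (σ ^ 2) x + (σ ^ 3) x := by
    rw [av_three, smul_smul, mul_invOf_self, one_smul]
  rw [h.sn, Nat.cast_smul_eq_nsmul] at h1
  have h2 : (P.pi x - av 3 σ x) + (σ x - av 3 σ x) + ((σ ^ 2) x - av 3 σ x) =
    σ x + (σ ^ 2) x + P.pi x - 3 • av 3 σ x := by
    abel
  rw [h2, h1, sub_self]

end three

section helpers

variable {P : KD R V} {Q : KD R W} {X : KD R U} {σ : Module.End R V} {τ : Module.End R W}

theorem isHom_pi (P : KD R V) : IsHom P P P.pi where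
  fd x := by rw [P.pi_d, P.d_pi]
  fp a x := by rw [P.pi_p, P.p_pi]

theorem Cyc.sq_three (h : Cyc 3 P σ) : Cyc 3 P (σ ^ 2) where
  hom := h.hom.pow 2
  spi x := h.pow_pi (by norm_num) x
  sn x := by
    rw [← pow_mul, show 2 * 3 = 3 + 3 from rfl, pow_add, Module.End.mul_apply, h.sn, h.sn, P.pi_pi]

theorem Cyc.pow_four (h : Cyc 3 P σ) (x : V) : (σ ^ 4) x = σ x := by
  rw [show 4 = 1 + 3 from rfl, pow_add, Module.End.mul_apply, h.sn, pow_one, h.spi]

theorem Cyc.pow_six (h : Cyc 3 P σ) (x : V) : (σ ^ 6) x = P.pi x := by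
  rw [show 6 = 3 + 3 from rfl, pow_add, Module.End.mul_apply, h.sn, h.sn, P.pi_pi]

section

variable {t : Module.End R V} (htσ : ∀ x, t (σ x) = (σ ^ 2) (t x))
include htσ

theorem t_pow (i : ℕ) (x : V) : t ((σ ^ i) x) = (σ ^ (2 * i)) (t x) := by
  induction i generalizing x with
  | zero => simp
  | succ i ih =>
    rw [pow_succ, Module.End.mul_apply, ih, htσ, ← Module.End.mul_apply, ← pow_add,
      show 2 * i + 2 = 2 * (i + 1) from rfl]

theorem t_av [Invertible ((3 : ℕ) : R)] (h : Cyc 3 P σ) (x : V) : t (av 3 σ x) = av 3 σ (t x) := by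
  rw [av_three, av_three, map_smul, map_add, map_add, htσ, t_pow htσ, t_pow htσ]
  simp only [show 2 * 2 = 4 from rfl, show 2 * 3 = 6 from rfl]
  rw [h.pow_four, h.pow_six, h.sn, add_comm ((σ ^ 2) (t x))]

end

end helpers

variable [IsNoetherianRing R] [Module.Finite R V] [Module.Finite R W] [Module.Finite R U]
  {ℓ : LenFun R} {P : KD R V} {Q : KD R W} {X : KD R U} {σ : Module.End R V} {τ : Module.End R W}

theorem Cyc.mult_two [Invertible ((2 : ℕ) : R)] (h : Cyc 2 P σ) (h' : Cyc 2 Q τ)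
    (hS : Small ℓ ((P.tensor Q).tensor X).ann) :
    (((2 : ℕ) : ℤ) - 1) * (((2 : ℕ) : ℤ) * ((cutG (h.tensor h').cen_av.good).tensor X).chi ℓ -
        ((P.tensor Q).tensor X).chi ℓ) =
      ((2 : ℕ) : ℤ) ^ 2 * (((cutG h.cen_av.good).tensor (cutG h'.cen_av.good)).tensor X).chi ℓ
        - ((2 : ℕ) : ℤ) * (((cutG h.cen_av.good).tensor Q).tensor X).chi ℓ
        - ((2 : ℕ) : ℤ) * ((P.tensor (cutG h'.cen_av.good)).tensor X).chi ℓ
        + ((P.tensor Q).tensor X).chi ℓ := by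
  refine h.mult h' hS ?_
  have e1 : (((2 : ℕ) : ℤ) - 1) = 1 := by norm_num
  rw [e1, one_mul]
  have cκ := cen_κ h h' X
  have cγ := cen_γ h h' X
  have hγκ : Commute (eγ 2 σ τ U) (eκ 2 σ τ U) := comm_κ (comm_γα σ τ U) (comm_γβ σ τ U)
  refine cx_congr (cγ.mul' cκ hγκ) cκ ?_
  intro z
  refine lin_eq3 (F := (eγ 2 σ τ U * eκ 2 σ τ U) ∘ₗ ((P.tensor Q).tensor X).pi)
    (G := eκ 2 σ τ U ∘ₗ ((P.tensor Q).tensor X).pi) (fun x y z => ?_) z
  simp only [LinearMap.comp_apply]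
  rw [Module.End.mul_apply, kappa_apply h h']
  rw [eγ, map_tmul, Module.End.one_apply, av_two, map_pow_end, map_tmul, map_tmul,
    h.neg_of_two, h'.neg_of_two]
  congr 1
  have e2 : (σ ^ 2) (P.pi x - av 2 σ x) = P.pi x - av 2 σ x := by
    rw [h.sn, map_sub, P.pi_pi, h.pi_av]
  have e3 : (τ ^ 2) (Q.pi y - av 2 τ y) = Q.pi y - av 2 τ y := by
    rw [h'.sn, map_sub, Q.pi_pi, h'.pi_av]
  rw [e2, e3, neg_tmul, tmul_neg, neg_neg, ← two_smul R, smul_smul]
  have h3 : ⅟((2 : ℕ) : R) * (2 : R) = 1 := by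
    have := invOf_mul_self ((2 : ℕ) : R)
    push_cast at this ⊢
    convert this
  rw [h3, one_smul]

theorem Cyc.mult_three [Invertible ((3 : ℕ) : R)] (h : Cyc 3 P σ) (h' : Cyc 3 Q τ)
    (hS : Small ℓ ((P.tensor Q).tensor X).ann)
    {t : Module.End R V} (ht : IsHom P P t) (htt : ∀ x, t (t x) = P.pi x)
    (htσ : ∀ x, t (σ x) = (σ ^ 2) (t x)) :
    (((3 : ℕ) : ℤ) - 1) * (((3 : ℕ) : ℤ) * ((cutG (h.tensor h').cen_av.good).tensor X).chi ℓ -
        ((P.tensor Q).tensor X).chi ℓ) =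
      ((3 : ℕ) : ℤ) ^ 2 * (((cutG h.cen_av.good).tensor (cutG h'.cen_av.good)).tensor X).chi ℓ
        - ((3 : ℕ) : ℤ) * (((cutG h.cen_av.good).tensor Q).tensor X).chi ℓ
        - ((3 : ℕ) : ℤ) * ((P.tensor (cutG h'.cen_av.good)).tensor X).chi ℓ
        + ((P.tensor Q).tensor X).chi ℓ := by
  refine h.mult h' hS ?_
  have e1 : (((3 : ℕ) : ℤ) - 1) = 3 - 1 := by norm_num
  rw [e1]
  have cκ := cen_κ h h' X
  have cγ := cen_γ h h' X
  have cγ' := cen_γ h.sq_three h' X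
  have hγκ : Commute (eγ 3 σ τ U) (eκ 3 σ τ U) := comm_κ (comm_γα σ τ U) (comm_γβ σ τ U)
  have hγκ' : Commute (eγ 3 (σ ^ 2) τ U) (eκ 3 σ τ U) :=
    comm_κ (comm_γα' ((commute_av (Commute.refl σ)).symm.pow_left 2) τ U) (comm_γβ _ τ U)
  have htav : Commute t (av 3 σ) := LinearMap.ext fun x => t_av htσ h x
  have hpiav : Commute (Q.pi : Module.End R W) (av 3 τ) :=
    LinearMap.ext fun x => by
      rw [Module.End.mul_apply, Module.End.mul_apply, h'.pi_av, h'.av_pi]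
  let T : Module.End R ((V ⊗[R] W) ⊗[R] U) := TensorProduct.map (TensorProduct.map t Q.pi) X.pi
  have hT : IsHom ((P.tensor Q).tensor X) ((P.tensor Q).tensor X) T :=
    (ht.tensor (isHom_pi Q)).tensor (isHom_pi X)
  have hTκ : Commute T (eκ 3 σ τ U) := by
    refine comm_κ ?_ ?_
    · exact commute_map (commute_map htav (Commute.one_right _)) (Commute.one_right _)
    · exact commute_map (commute_map (Commute.one_right _) hpiav) (Commute.one_right _)
  refine sym3 hS cκ cγ hγκ hγκ' cγ' hT ?_ hTκ ?_ ?_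
  · intro z
    refine lin_eq3 (F := T ∘ₗ T) (G := ((P.tensor Q).tensor X).pi) (fun x y z => ?_) z
    simp [T, htt, tensor_pi, pi_pi]
  · apply TensorProduct.ext_threefold
    intro x y z
    simp only [T, eγ, Module.End.mul_apply, map_tmul, Module.End.one_apply]
    congr 1
    rw [av_three, av_three, map_smul, map_add, map_add]
    simp only [map_pow_end, map_tmul, htσ, t_pow htσ, ← pow_mul]
    have k1 : ∀ y, Q.pi (τ y) = τ (Q.pi y) := fun y => (h'.hom.pi y).symm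
    have k2 : ∀ i y, Q.pi ((τ ^ i) y) = (τ ^ i) (Q.pi y) := fun i y => ((h'.hom.pow i).pi y).symm
    rw [k1, k2, k2]
  · intro z
    rw [map_sub, sub_eq_iff_eq_add]
    have key : ∀ z, (eκ 3 σ τ U ∘ₗ ((P.tensor Q).tensor X).pi) z =
        (eκ 3 σ τ U ∘ₗ eγ 3 (σ ^ 2) τ U ∘ₗ ((P.tensor Q).tensor X).pi +
        eκ 3 σ τ U ∘ₗ eγ 3 σ τ U ∘ₗ ((P.tensor Q).tensor X).pi) z := ?_
    · exact key z
    refine lin_eq3 (fun x y z => ?_)
    simp only [LinearMap.comp_apply, LinearMap.add_apply]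
    have c1 : ∀ w, eκ 3 σ τ U (eγ 3 σ τ U w) = eγ 3 σ τ U (eκ 3 σ τ U w) :=
      fun w => (LinearMap.congr_fun hγκ w).symm
    have c2 : ∀ w, eκ 3 σ τ U (eγ 3 (σ ^ 2) τ U w) = eγ 3 (σ ^ 2) τ U (eκ 3 σ τ U w) :=
      fun w => (LinearMap.congr_fun hγκ' w).symm
    rw [c1, c2, kappa_apply h h']
    have s1 := h.sum_three x
    have s2 := h'.sum_three y
    set u := P.pi x - av 3 σ x with hu
    set v := Q.pi y - av 3 τ y with hv
    have u3 : (σ ^ 3) u = u := by rw [hu, h.sn, map_sub, P.pi_pi, h.pi_av]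
    have v3 : (τ ^ 3) v = v := by rw [hv, h'.sn, map_sub, Q.pi_pi, h'.pi_av]
    have u4 : (σ ^ 4) u = σ u := h.pow_four u
    have u6 : (σ ^ 6) u = u := by rw [h.pow_six, hu, map_sub, P.pi_pi, h.pi_av]
    rw [eγ, eγ, map_tmul, map_tmul, Module.End.one_apply, ← add_tmul]
    congr 1
    rw [av_three, av_three]
    simp only [map_pow_end, map_tmul, ← pow_mul, show 2 * 2 = 4 from rfl, show 2 * 3 = 6 from rfl]
    rw [u3, v3, u4, u6]
    have w1 : σ u = - u - (σ ^ 2) u := by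
      rw [eq_sub_iff_add_eq, eq_neg_iff_add_eq_zero, ← s1]; abel
    have w2 : τ v = - v - (τ ^ 2) v := by
      rw [eq_sub_iff_add_eq, eq_neg_iff_add_eq_zero, ← s2]; abel
    have h3 : u ⊗ₜ[R] v = ⅟((3 : ℕ) : R) • ((3 : ℕ) • (u ⊗ₜ[R] v)) := by
      rw [← Nat.cast_smul_eq_nsmul R, smul_smul, invOf_mul_self, one_smul]
    conv_lhs => rw [h3]
    rw [← smul_add]
    congr 1
    rw [w1, w2]
    simp only [tmul_sub, sub_tmul, tmul_neg, neg_tmul]
    abel

end KD

end Groth.Agent.Books.AdKD
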