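import Groth.Agent.Books.AdCx

set_option autoImplicit false
universe u

/-!
# Resolutions, lifting of chain maps, null homotopies
-/

open TensorProduct

namespace Groth.Agent.Books.AdKD

open Groth.Agent.Books.AdLen

namespace KD

variable {R : Type u} [CommRing R] {V W U : Type u} [AddCommGroup V] [Module R V]
  [AddCommGroup W] [Module R W] [AddCommGroup U] [Module R U]
  {M : Type u} [AddCommGroup M] [Module R M]

/-- cycles in degree `i` -/
def Zg (K : KD R V) (g : ℕ → V →ₗ[R] V) (i : ℕ) : Submodule R V where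
  carrier := {x | K.d x = 0 ∧ g i x = x}
  add_mem' := by
    rintro x y ⟨h1, h2⟩ ⟨h3, h4⟩
    exact ⟨by rw [map_add, h1, h3, add_zero], by rw [map_add, h2, h4]⟩
  zero_mem' := ⟨map_zero _, map_zero _⟩
  smul_mem' := by
    rintro c x ⟨h1, h2⟩
    exact ⟨by rw [map_smul, h1, smul_zero], by rw [map_smul, h2]⟩

/-- boundaries in degree `i` -/
def Bg (K : KD R V) (g : ℕ → V →ₗ[R] V) (i : ℕ) : Submodule R V where
  carrier := {x | ∃ y, g (i + 1) y = y ∧ K.d y = x}
  add_mem' := by
    rintro x y ⟨x', h1, h2⟩ ⟨y', h3, h4⟩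
    exact ⟨x' + y', by rw [map_add, h1, h3], by rw [map_add, h2, h4]⟩
  zero_mem' := ⟨0, map_zero _, map_zero _⟩
  smul_mem' := by
    rintro c x ⟨x', h1, h2⟩
    exact ⟨c • x', by rw [map_smul, h1], by rw [map_smul, h2]⟩

theorem mem_Zg {K : KD R V} {g : ℕ → V →ₗ[R] V} {i : ℕ} {x : V} :
    x ∈ Zg K g i ↔ K.d x = 0 ∧ g i x = x := Iff.rfl

theorem mem_Bg {K : KD R V} {g : ℕ → V →ₗ[R] V} {i : ℕ} {x : V} :
    x ∈ Bg K g i ↔ ∃ y, g (i + 1) y = y ∧ K.d y = x := Iff.rfl

theorem Gr.Bg_le_Zg {K : KD R V} {N : ℕ} {g : ℕ → V →ₗ[R] V} (h : K.Gr N g) (i : ℕ) :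
    Bg K g i ≤ Zg K g i := by
  rintro _ ⟨y, h1, rfl⟩
  exact ⟨K.dd y, by rw [h.gd, h1]⟩

/-- a resolution of `M`, placed in degree `n` -/
structure Res (K : KD R V) (g : ℕ → V →ₗ[R] V) (n : ℕ) (ε : V →ₗ[R] M) : Prop where
  low : ∀ i, i < n → ∀ x, g i x = 0
  surj : Function.Surjective ε
  εg : ∀ x, ε (g n x) = ε x
  εd : ∀ x, ε (K.d x) = 0
  ker : ∀ x, g n x = x → ε x = 0 → x ∈ Bg K g n
  ex : ∀ i, n < i → Zg K g i ≤ Bg K g i

theorem Gr.low_d {K : KD R V} {N : ℕ} {g : ℕ → V →ₗ[R] V} (h : K.Gr N g) {n : ℕ}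
    (hl : ∀ i, i < n → ∀ x, g i x = 0) (x : V) : K.d (g n x) = 0 := by
  rcases n with _ | n
  · exact h.g0 x
  · rw [← h.gd, hl n (Nat.lt_succ_self n)]

theorem Res.shift {K : KD R V} {g : ℕ → V →ₗ[R] V} {n : ℕ} {ε : V →ₗ[R] M} (h : Res K g n ε) :
    Res (sh K) (Gr.shg g) (n + 1) ε where
  low i hi x := by
    rcases i with _ | i
    · rfl
    · rw [Gr.shg_succ, h.low i (by omega)]
  surj := h.surj
  εg := h.εg
  εd := h.εd
  ker := h.ker
  ex i hi := by
    rcases i with _ | i
    · omega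
    · exact h.ex i (by omega)

/-- null-homotopy lemma -/
theorem Res.mem_ann [Module.Projective R V] {K : KD R V} {N : ℕ} {g : ℕ → V →ₗ[R] V}
    (hg : K.Gr N g) {n : ℕ} {ε : V →ₗ[R] M} (h : Res K g n ε) {y : R} (hy : ∀ m : M, y • m = 0) :
    y ∈ K.ann := by
  have key : ∀ k : ℕ, ∃ s : V →ₗ[R] V, (∀ i x, s (g i x) = g (i + 1) (s x)) ∧
      ∀ i, i < k → ∀ x, K.d (s (g i x)) + s (K.d (g i x)) = y • g i x := by
    intro k
    induction k with
    | zero => exact ⟨0, fun i x => by simp, fun i hi => absurd hi (Nat.not_lt_zero i)⟩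
    | succ k ih =>
      obtain ⟨s, s1, s2⟩ := ih
      let u : V →ₗ[R] V := y • g k - s ∘ₗ K.d ∘ₗ g k
      have hu : ∀ x, u x = y • g k x - s (K.d (g k x)) := fun x => rfl
      have hdu : ∀ x, K.d (u x) = 0 := by
        intro x
        rw [hu, map_sub, map_smul]
        rcases k with _ | k
        · rw [hg.g0]; simp
        · have := s2 k (Nat.lt_succ_self k) (K.d x)
          rw [hg.gd, K.dd, map_zero, add_zero] at this
          rw [this, sub_self]
      have hgu : ∀ x, g k (u x) = u x := by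
        intro x
        rw [hu, map_sub, map_smul, hg.oi.ee]
        congr 1
        rcases k with _ | k
        · rw [hg.g0]; simp
        · rw [← s1, hg.gd, hg.oi.ee]
      have hB : ∀ x, u x ∈ Bg K g k := by
        intro x
        rcases lt_trichotomy k n with hk | hk | hk
        · rw [← hgu, h.low k hk]
          exact Submodule.zero_mem _
        · subst hk
          apply h.ker _ (hgu x)
          rw [hu, hg.low_d h.low, map_zero, sub_zero, map_smul, hy]
        · exact h.ex k hk ⟨hdu x, hgu x⟩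
      let D : V →ₗ[R] Bg K g k := LinearMap.codRestrict _ (K.d ∘ₗ g (k + 1)) (fun x =>
        ⟨g (k + 1) x, hg.oi.ee _ x, rfl⟩)
      have hD : Function.Surjective D := by
        rintro ⟨x, z, hz1, hz2⟩
        exact ⟨z, Subtype.ext (by show K.d (g (k + 1) z) = x; rw [hz1, hz2])⟩
      obtain ⟨t, ht⟩ := Module.projective_lifting_property D (LinearMap.codRestrict _ u hB) hD
      have ht' : ∀ x, K.d (g (k + 1) (t x)) = u x := fun x =>
        congrArg Subtype.val (LinearMap.congr_fun ht x)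
      refine ⟨s ∘ₗ (LinearMap.id - g k) + g (k + 1) ∘ₗ t ∘ₗ g k, ?_, ?_⟩
      · intro i x
        simp only [LinearMap.add_apply, LinearMap.comp_apply, LinearMap.sub_apply,
          LinearMap.id_apply, map_add, map_sub]
        by_cases hik : i = k
        · subst hik
          rw [hg.oi.ee, hg.oi.ee, ← s1, ← s1, hg.oi.ee]
        · rw [hg.oi.orth k i (Ne.symm hik), hg.oi.orth (i + 1) (k + 1) (by omega),
            ← s1, ← s1, hg.oi.orth i k hik]
          simp
      · intro i hi x
        simp only [LinearMap.add_apply, LinearMap.comp_apply, LinearMap.sub_apply,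
          LinearMap.id_apply, map_add, map_sub]
        have e1 : g k (K.d (g i x)) = 0 ∨ i = k + 1 := by
          by_cases hik : i = k + 1
          · exact Or.inr hik
          · left
            rw [hg.gd, hg.oi.orth (k + 1) i (Ne.symm hik), map_zero]
        have e2 : g k (K.d (g i x)) = 0 := e1.resolve_right (by omega)
        rw [e2]
        by_cases hik : i = k
        · subst hik
          rw [hg.oi.ee, ht', hu, hg.oi.ee]
          simp
        · rw [hg.oi.orth k i (Ne.symm hik)]
          have := s2 i (by omega) x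
          simpa using this
  obtain ⟨s, s1, s2⟩ := key N
  have s3 : ∀ x, K.pi (s x) = K.pi (s x) := fun _ => rfl
  refine ⟨s ∘ₗ K.pi, ?_, ?_⟩
  · intro a x
    rw [LinearMap.comp_apply, LinearMap.comp_apply, K.pi_p]
    have e1 : s (K.p a x) = ∑ i ∈ Finset.range N, s (g i (K.p a x)) := by
      rw [← map_sum, hg.sum, K.pi_p]
    have e2 : s (K.pi x) = ∑ i ∈ Finset.range N, s (g i x) := by
      rw [← map_sum, hg.sum]
    rw [e1, e2, map_sum]
    refine Finset.sum_congr rfl fun i _ => ?_
    rw [s1, s1, hg.pg, ← s1, hg.gp, Nat.bodd_succ]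
    cases i.bodd <;> cases a <;> simp [s1]
  · intro x
    rw [LinearMap.comp_apply, LinearMap.comp_apply, K.pi_d, ← K.d_pi x, ← hg.sum, map_sum, map_sum,
      map_sum, map_sum, ← Finset.sum_add_distrib, Finset.smul_sum]
    exact Finset.sum_congr rfl fun i hi => s2 i (Finset.mem_range.mp hi) x

/-- an exact bounded projective complex is contractible -/
theorem Gr.one_mem_ann [Module.Projective R V] {K : KD R V} {N : ℕ} {g : ℕ → V →ₗ[R] V}
    (hg : K.Gr N g) (h : ∀ i, Zg K g i ≤ Bg K g i) : (1 : R) ∈ K.ann := by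
  have hr : Res K g 0 (0 : V →ₗ[R] PUnit.{u + 1}) :=
    ⟨fun i hi => absurd hi (Nat.not_lt_zero i), fun y => ⟨0, rfl⟩, fun _ => rfl, fun _ => rfl,
      fun x hx _ => h 0 ⟨by rw [← hx]; exact hg.g0 x, hx⟩, fun i _ => h i⟩
  exact hr.mem_ann hg (fun m => rfl)

/-- lifting lemma -/
theorem Res.lift [Module.Projective R V] {K : KD R V} {N : ℕ} {g : ℕ → V →ₗ[R] V}
    (hg : K.Gr N g) {n : ℕ} {ε : V →ₗ[R] M} (h : Res K g n ε)
    {L : KD R W} {N' : ℕ} {g' : ℕ → W →ₗ[R] W} (hg' : L.Gr N' g')
    (hex : ∀ i, n < i → Zg L g' i ≤ Bg L g' i)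
    {M' : Type u} [AddCommGroup M'] [Module R M'] {θ : Zg L g' n →ₗ[R] M'}
    (hθ : Function.Surjective θ) (hθB : ∀ z : Zg L g' n, θ z = 0 ↔ (z : W) ∈ Bg L g' n)
    (φ : M →ₗ[R] M') :
    ∃ f : V →ₗ[R] W, IsHom K L f ∧ (∀ i x, f (g i x) = g' i (f x)) ∧
      ∀ x (hx : f (g n x) ∈ Zg L g' n), θ ⟨f (g n x), hx⟩ = φ (ε x) := by
  have key : ∀ k : ℕ, ∃ f : V →ₗ[R] W, (∀ i x, f (g i x) = g' i (f x)) ∧
      (∀ i, i ≤ n + k → ∀ x, L.d (f (g i x)) = f (K.d (g i x))) ∧
      ∀ x (hx : f (g n x) ∈ Zg L g' n), θ ⟨f (g n x), hx⟩ = φ (ε x) := by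
    intro k
    induction k with
    | zero =>
      obtain ⟨t, ht⟩ := Module.projective_lifting_property θ (φ ∘ₗ ε) hθ
      have ht' : ∀ x, θ (t x) = φ (ε x) := LinearMap.congr_fun ht
      refine ⟨(Zg L g' n).subtype ∘ₗ t ∘ₗ g n, ?_, ?_, ?_⟩
      · intro i x
        simp only [LinearMap.comp_apply, Submodule.subtype_apply]
        by_cases hi : i = n
        · subst hi
          rw [hg.oi.ee, (t (g i x)).2.2]
        · rw [hg.oi.orth n i (Ne.symm hi), map_zero, ← (t (g n x)).2.2, hg'.oi.orth i n hi]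
          rfl
      · intro i hi x
        simp only [LinearMap.comp_apply, Submodule.subtype_apply]
        rw [(t (g n (g i x))).2.1, hg.gd]
        by_cases hi' : i = n + 1
        · omega
        · rw [hg.oi.orth (n + 1) i (Ne.symm hi'), map_zero, map_zero]; rfl
      · intro x hx
        have e1 : (⟨((Zg L g' n).subtype ∘ₗ t ∘ₗ g n) (g n x), hx⟩ : Zg L g' n) = t (g n x) := by
          apply Subtype.ext
          simp only [LinearMap.comp_apply, Submodule.subtype_apply]
          rw [hg.oi.ee]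
        rw [e1, ht', h.εg]
    | succ k ih =>
      obtain ⟨f, f1, f2, f3⟩ := ih
      let u : V →ₗ[R] W := f ∘ₗ K.d ∘ₗ g (n + k + 1)
      have hu : ∀ x, u x = f (K.d (g (n + k + 1) x)) := fun x => rfl
      have hdu : ∀ x, L.d (u x) = 0 := by
        intro x
        rw [hu, ← hg.gd, f2 _ le_rfl, hg.gd, K.dd, map_zero]
      have hgu : ∀ x, g' (n + k) (u x) = u x := by
        intro x
        rw [hu, ← hg.gd, ← f1, hg.oi.ee]
      have hB : ∀ x, u x ∈ Bg L g' (n + k) := by
        intro x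
        rcases Nat.eq_zero_or_pos k with hk | hk
        · subst hk
          simp only [Nat.add_zero] at hgu hu ⊢
          have hz : f (g n (K.d (g (n + 1) x))) = u x := by
            rw [hu, hg.gd, hg.oi.ee]
          have h4 := f3 (K.d (g (n + 1) x)) (by rw [hz]; exact ⟨hdu x, hgu x⟩)
          rw [h.εd, map_zero, hθB] at h4
          simp only [] at h4
          rwa [hz] at h4
        · exact hex _ (by omega) ⟨hdu x, hgu x⟩
      let D : W →ₗ[R] Bg L g' (n + k) := LinearMap.codRestrict _ (L.d ∘ₗ g' (n + k + 1)) (fun x =>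
        ⟨g' (n + k + 1) x, hg'.oi.ee _ x, rfl⟩)
      have hD : Function.Surjective D := by
        rintro ⟨x, z, hz1, hz2⟩
        exact ⟨z, Subtype.ext (by show L.d (g' (n + k + 1) z) = x; rw [hz1, hz2])⟩
      obtain ⟨t, ht⟩ := Module.projective_lifting_property D (LinearMap.codRestrict _ u hB) hD
      have ht' : ∀ x, L.d (g' (n + k + 1) (t x)) = u x := fun x =>
        congrArg Subtype.val (LinearMap.congr_fun ht x)
      have hlow : ∀ i, i ≠ n + k + 1 → ∀ x, (f ∘ₗ (LinearMap.id - g (n + k + 1)) +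
          g' (n + k + 1) ∘ₗ t ∘ₗ g (n + k + 1) : V →ₗ[R] W) (g i x) = f (g i x) := by
        intro i hi x
        simp only [LinearMap.add_apply, LinearMap.comp_apply, LinearMap.sub_apply,
          LinearMap.id_apply]
        rw [hg.oi.orth _ i (Ne.symm hi)]
        simp
      refine ⟨f ∘ₗ (LinearMap.id - g (n + k + 1)) + g' (n + k + 1) ∘ₗ t ∘ₗ g (n + k + 1),
        ?_, ?_, ?_⟩
      · intro i x
        by_cases hik : i = n + k + 1
        · subst hik
          simp only [LinearMap.add_apply, LinearMap.comp_apply, LinearMap.sub_apply,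
            LinearMap.id_apply, map_add, map_sub]
          rw [hg.oi.ee, hg'.oi.ee, ← f1, ← f1, hg.oi.ee]
        · rw [hlow i hik]
          simp only [LinearMap.add_apply, LinearMap.comp_apply, LinearMap.sub_apply,
            LinearMap.id_apply, map_add, map_sub]
          rw [hg'.oi.orth i _ hik, ← f1, ← f1, hg.oi.orth i _ hik]
          simp
      · intro i hi x
        by_cases hik : i = n + k + 1
        · subst hik
          have e1 : K.d (g (n + k + 1) x) = g (n + k) (K.d x) := by rw [hg.gd]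
          rw [e1, hlow (n + k) (by omega)]
          simp only [LinearMap.add_apply, LinearMap.comp_apply, LinearMap.sub_apply,
            LinearMap.id_apply, map_add, map_sub]
          rw [hg.oi.ee, ht', hu, hg.oi.ee, ← e1]
          simp
        · rw [hlow i hik, f2 i (by omega)]
          rcases i with _ | i
          · rw [hg.g0]; simp
          · rw [← hg.gd, hlow i (by omega)]
      · intro x hx
        have e := hlow n (by omega) x
        rw [e] at hx
        have := f3 x hx
        rw [← this]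
        congr 1
        exact Subtype.ext e
  obtain ⟨f, f1, f2, f3⟩ := key N
  have e1 : ∀ x, f (K.pi x) = ∑ i ∈ Finset.range N, f (g i x) := fun x => by
    rw [← map_sum, hg.sum]
  refine ⟨f ∘ₗ K.pi, ⟨?_, ?_⟩, ?_, ?_⟩
  · intro x
    rw [LinearMap.comp_apply, LinearMap.comp_apply, K.pi_d, e1, map_sum, ← K.d_pi x, ← hg.sum,
      map_sum, map_sum]
    exact Finset.sum_congr rfl fun i hi => (f2 i (by have := Finset.mem_range.mp hi; omega) x).symm
  · intro a x
    rw [LinearMap.comp_apply, LinearMap.comp_apply, e1, e1, map_sum]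
    refine Finset.sum_congr rfl fun i _ => ?_
    rw [f1, f1, hg'.pg, ← f1, hg.gp]
    cases i.bodd <;> cases a <;> simp [f1]
  · intro i x
    rw [LinearMap.comp_apply, LinearMap.comp_apply, hg.pi_g, ← f1, hg.g_pi]
  · intro x hx
    have e2 : (f ∘ₗ K.pi) (g n x) = f (g n x) := by
      rw [LinearMap.comp_apply, hg.pi_g]
    rw [e2] at hx
    rw [← f3 x hx]
    congr 1
    exact Subtype.ext e2

end KD

end Groth.Agent.Books.AdKD
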