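import Groth.Agent.Books.AdMul3

set_option autoImplicit false
universe u

/-!
# Tensor squares and cubes with their cyclic actions
-/

open TensorProduct

namespace Groth.Agent.Books.AdKD

open Groth.Agent.Books.AdLen

namespace KD

variable {R : Type u} [CommRing R] {V W U : Type u} [AddCommGroup V] [Module R V]
  [AddCommGroup W] [Module R W] [AddCommGroup U] [Module R U]
  {V' W' U' : Type u} [AddCommGroup V'] [Module R V']
  [AddCommGroup W'] [Module R W'] [AddCommGroup U'] [Module R U']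
  {Y : Type u} [AddCommGroup Y] [Module R Y]

theorem sw_pi (K : KD R V) (L : KD R W) (z : V ⊗[R] W) : sw K L ((K.tensor L).pi z) = sw K L z := by
  refine lin_eq (F := sw K L ∘ₗ (K.tensor L).pi) (G := sw K L) (fun x y => ?_) z
  simp [tensor_pi, sw_tmul, p_pi, pi_pi, eps_pi]

/-- signed swap on the square -/
noncomputable def s2 (K : KD R V) : Module.End R (V ⊗[R] V) := sw K K

theorem cyc_s2 (K : KD R V) : Cyc 2 (K.tensor K) (s2 K) where
  hom := isHom_sw K K
  spi := sw_pi K K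
  sn x := by
    rw [pow_two, Module.End.mul_apply]
    exact sw_sw K K x

/-- the equality principle on homogeneous elements, two factors -/
theorem hom_eq2 (K : KD R V) (L : KD R W) {F G : V ⊗[R] W →ₗ[R] Y}
    (h : ∀ a b x y, F (K.p a x ⊗ₜ L.p b y) = G (K.p a x ⊗ₜ L.p b y)) (z : V ⊗[R] W) :
    F ((K.tensor L).pi z) = G ((K.tensor L).pi z) := by
  refine lin_eq (F := F ∘ₗ (K.tensor L).pi) (G := G ∘ₗ (K.tensor L).pi) (fun x y => ?_) z
  simp only [LinearMap.comp_apply, tensor_pi]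
  simp only [pi_apply, tmul_add, add_tmul, map_add, h]

theorem hom_eq3 (K : KD R V) (L : KD R W) (M : KD R U) {F G : V ⊗[R] (W ⊗[R] U) →ₗ[R] Y}
    (h : ∀ a b c x y z, F (K.p a x ⊗ₜ (L.p b y ⊗ₜ M.p c z)) = G (K.p a x ⊗ₜ (L.p b y ⊗ₜ M.p c z)))
    (z : V ⊗[R] (W ⊗[R] U)) :
    F ((K.tensor (L.tensor M)).pi z) = G ((K.tensor (L.tensor M)).pi z) := by
  refine lin_eq3' (F := F ∘ₗ (K.tensor (L.tensor M)).pi) (G := G ∘ₗ (K.tensor (L.tensor M)).pi)
    (fun x y z => ?_) z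
  simp only [LinearMap.comp_apply, tensor_pi]
  simp only [pi_apply, tmul_add, add_tmul, map_add, h]

/-- signed cyclic permutation on the cube -/
noncomputable def s3 (K : KD R V) : Module.End R (V ⊗[R] (V ⊗[R] V)) :=
  asc R V V V ∘ₗ sw K (K.tensor K)

theorem s3_pp (K : KD R V) (a b c : Bool) (x y z : V) :
    s3 K (K.p a x ⊗ₜ (K.p b y ⊗ₜ K.p c z)) = (if a && (xor b c) then (-1 : R) else 1) •
      (K.p b y ⊗ₜ (K.p c z ⊗ₜ K.p a x)) := by
  cases a <;> cases b <;> cases c <;>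
    simp [s3, sw_tmul, ppn, tensor_pi, tensor_eps, pi_p, eps_p, neg_tmul, tmul_neg]

theorem s2_pp (K : KD R V) (a b : Bool) (x y : V) :
    s2 K (K.p a x ⊗ₜ K.p b y) = (if a && b then (-1 : R) else 1) • (K.p b y ⊗ₜ K.p a x) := by
  cases a <;> cases b <;>
    simp [s2, sw_tmul, ppn, pi_p, eps_p, neg_tmul]

theorem cyc_s3 (K : KD R V) : Cyc 3 (K.tensor (K.tensor K)) (s3 K) where
  hom := (isHom_sw K (K.tensor K)).comp (isHom_asc K K K)
  spi x := by
    rw [s3, LinearMap.comp_apply, sw_pi]; rfl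
  sn x := by
    have h1 : ∀ x, (s3 K ^ 3) ((K.tensor (K.tensor K)).pi x) = (K.tensor (K.tensor K)).pi x := by
      intro x
      refine hom_eq3 K K K (F := s3 K ^ 3) (G := LinearMap.id) (fun a b c x y z => ?_) x
      rw [pow_succ, pow_two, Module.End.mul_apply, Module.End.mul_apply, s3_pp, map_smul, s3_pp,
        map_smul, map_smul, s3_pp, smul_smul, smul_smul]
      cases a <;> cases b <;> cases c <;> simp
    have h2 : (s3 K ^ 3) ((K.tensor (K.tensor K)).pi x) = (s3 K ^ 3) x := by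
      rw [pow_succ, Module.End.mul_apply, Module.End.mul_apply]
      congr 1
      rw [s3, LinearMap.comp_apply, sw_pi]; rfl
    rw [← h2, h1]

/-- transposition on the cube -/
noncomputable def t3 (K : KD R V) : Module.End R (V ⊗[R] (V ⊗[R] V)) :=
  TensorProduct.map K.pi (sw K K)

theorem t3_hom (K : KD R V) : IsHom (K.tensor (K.tensor K)) (K.tensor (K.tensor K)) (t3 K) :=
  (isHom_pi K).tensor (isHom_sw K K)

theorem t3_pp (K : KD R V) (a b c : Bool) (x y z : V) :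
    t3 K (K.p a x ⊗ₜ (K.p b y ⊗ₜ K.p c z)) = (if b && c then (-1 : R) else 1) •
      (K.p a x ⊗ₜ (K.p c z ⊗ₜ K.p b y)) := by
  cases a <;> cases b <;> cases c <;>
    simp [t3, sw_tmul, ppn, pi_p, eps_p, neg_tmul, tmul_neg]

theorem t3_pi (K : KD R V) (z : V ⊗[R] (V ⊗[R] V)) :
    t3 K ((K.tensor (K.tensor K)).pi z) = t3 K z := by
  refine lin_eq3' (F := t3 K ∘ₗ (K.tensor (K.tensor K)).pi) (G := t3 K) (fun x y z => ?_) z
  simp only [LinearMap.comp_apply, t3, tensor_pi, map_tmul, pi_pi]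
  congr 1
  rw [← tensor_pi, sw_pi]

theorem t3_t3 (K : KD R V) (z : V ⊗[R] (V ⊗[R] V)) :
    t3 K (t3 K z) = (K.tensor (K.tensor K)).pi z := by
  have h1 : t3 K (t3 K z) = t3 K (t3 K ((K.tensor (K.tensor K)).pi z)) := by rw [t3_pi]
  rw [h1]
  refine hom_eq3 K K K (F := t3 K ∘ₗ t3 K) (G := LinearMap.id) (fun a b c x y z => ?_) z
  rw [LinearMap.comp_apply, t3_pp, map_smul, t3_pp, smul_smul]
  cases b <;> cases c <;> simp

theorem t3_s3 (K : KD R V) (z : V ⊗[R] (V ⊗[R] V)) :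
    t3 K (s3 K z) = (s3 K ^ 2) (t3 K z) := by
  have h1 : t3 K (s3 K z) = t3 K (s3 K ((K.tensor (K.tensor K)).pi z)) := by rw [(cyc_s3 K).spi]
  have h2 : (s3 K ^ 2) (t3 K z) = (s3 K ^ 2) (t3 K ((K.tensor (K.tensor K)).pi z)) := by rw [t3_pi]
  rw [h1, h2]
  refine hom_eq3 K K K (F := t3 K ∘ₗ s3 K) (G := (s3 K ^ 2) ∘ₗ t3 K) (fun a b c x y z => ?_) z
  rw [LinearMap.comp_apply, LinearMap.comp_apply, s3_pp, t3_pp, map_smul, t3_pp, pow_two,
    Module.End.mul_apply, map_smul, s3_pp, map_smul, map_smul, s3_pp, smul_smul, smul_smul, smul_smul]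
  cases a <;> cases b <;> cases c <;> simp

end KD

end Groth.Agent.Books.AdKD
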