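import Groth.Agent.Books.AdKD2
import Mathlib.LinearAlgebra.TensorProduct.Tower

set_option autoImplicit false
universe u

/-!
# Tensor products of `ℤ/2`-graded differential modules
-/

open TensorProduct

namespace Groth.Agent.Books.AdKD

open Groth.Agent.Books.AdLen

namespace KD

variable {R : Type u} [CommRing R] {V W U : Type u} [AddCommGroup V] [Module R V]
  [AddCommGroup W] [Module R W] [AddCommGroup U] [Module R U]
  {V' W' U' : Type u} [AddCommGroup V'] [Module R V']
  [AddCommGroup W'] [Module R W'] [AddCommGroup U'] [Module R U']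

theorem d_eps (K : KD R V) (x : V) : K.d (K.eps x) = - K.eps (K.d x) := by
  simp only [eps_apply, map_sub, K.p_d, Bool.not_true, Bool.not_false]
  abel

theorem eps_eps (K : KD R V) (x : V) : K.eps (K.eps x) = K.pi x := by
  simp [eps_apply, pi_apply, ppn]

theorem eps_pi (K : KD R V) (x : V) : K.eps (K.pi x) = K.eps x := by
  simp [eps_apply, p_pi]

theorem pi_eps (K : KD R V) (x : V) : K.pi (K.eps x) = K.eps x := by
  simp [eps_apply, pi_p]

theorem eps_p (K : KD R V) (a : Bool) (x : V) :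
    K.eps (K.p a x) = if a then - K.p a x else K.p a x := by
  cases a <;> simp [eps_apply, ppn]

theorem p_eps (K : KD R V) (a : Bool) (x : V) :
    K.p a (K.eps x) = if a then - K.p a x else K.p a x := by
  cases a <;> simp [eps_apply, ppn]

/-- the differential of a tensor product -/
def tensorD (K : KD R V) (L : KD R W) : V ⊗[R] W →ₗ[R] V ⊗[R] W :=
  TensorProduct.map K.d L.pi + TensorProduct.map K.eps L.d

/-- the projections of a tensor product -/
def tensorP (K : KD R V) (L : KD R W) (a : Bool) : V ⊗[R] W →ₗ[R] V ⊗[R] W :=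
  TensorProduct.map (K.p false) (L.p a) + TensorProduct.map (K.p true) (L.p (!a))

theorem tensorD_tmul (K : KD R V) (L : KD R W) (x : V) (y : W) :
    tensorD K L (x ⊗ₜ y) = K.d x ⊗ₜ L.pi y + K.eps x ⊗ₜ L.d y := rfl

theorem tensorP_tmul (K : KD R V) (L : KD R W) (a : Bool) (x : V) (y : W) :
    tensorP K L a (x ⊗ₜ y) = K.p false x ⊗ₜ L.p a y + K.p true x ⊗ₜ L.p (!a) y := rfl

theorem lin_eq {F G : V ⊗[R] W →ₗ[R] U} (h : ∀ x y, F (x ⊗ₜ y) = G (x ⊗ₜ y)) (z : V ⊗[R] W) :
    F z = G z := by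
  rw [TensorProduct.ext' h]

/-- tensor product -/
def tensor (K : KD R V) (L : KD R W) : KD R (V ⊗[R] W) where
  d := tensorD K L
  p := tensorP K L
  pp a z := by
    refine lin_eq (F := tensorP K L a ∘ₗ tensorP K L a) (G := tensorP K L a) (fun x y => ?_) z
    simp only [LinearMap.comp_apply, tensorP_tmul, map_add]
    cases a <;> simp [ppn]
  pn a z := by
    refine lin_eq (F := tensorP K L a ∘ₗ tensorP K L (!a)) (G := 0) (fun x y => ?_) z
    simp only [LinearMap.comp_apply, tensorP_tmul, map_add]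
    cases a <;> simp [ppn]
  dp a z := by
    refine lin_eq (F := tensorD K L ∘ₗ tensorP K L a) (G := tensorP K L (!a) ∘ₗ tensorD K L)
      (fun x y => ?_) z
    simp only [LinearMap.comp_apply, tensorP_tmul, tensorD_tmul, map_add]
    cases a <;> simp [p_d, eps_p, p_eps, pi_p, p_pi] <;> abel
  dd z := by
    refine lin_eq (F := tensorD K L ∘ₗ tensorD K L) (G := 0) (fun x y => ?_) z
    simp only [LinearMap.comp_apply, tensorD_tmul, map_add]
    simp [K.dd, L.dd, d_eps, pi_d, L.d_pi, neg_tmul]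
  dpi z := by
    have h : ∀ z, tensorP K L false z + tensorP K L true z = TensorProduct.map K.pi L.pi z := by
      intro z
      refine lin_eq (F := tensorP K L false + tensorP K L true) (G := TensorProduct.map K.pi L.pi)
        (fun x y => ?_) z
      simp only [LinearMap.add_apply, tensorP_tmul, map_tmul, pi_apply, tmul_add, add_tmul,
        Bool.not_true, Bool.not_false]
      abel
    rw [h]
    refine lin_eq (F := tensorD K L ∘ₗ TensorProduct.map K.pi L.pi) (G := tensorD K L)
        (fun x y => ?_) z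
    simp [tensorD_tmul, d_pi, pi_pi, eps_pi]

theorem tensor_d (K : KD R V) (L : KD R W) (x : V) (y : W) :
    (K.tensor L).d (x ⊗ₜ y) = K.d x ⊗ₜ L.pi y + K.eps x ⊗ₜ L.d y := rfl

theorem tensor_p (K : KD R V) (L : KD R W) (a : Bool) (x : V) (y : W) :
    (K.tensor L).p a (x ⊗ₜ y) = K.p false x ⊗ₜ L.p a y + K.p true x ⊗ₜ L.p (!a) y := rfl

theorem tensor_pi (K : KD R V) (L : KD R W) (x : V) (y : W) :
    (K.tensor L).pi (x ⊗ₜ y) = K.pi x ⊗ₜ L.pi y := by
  simp only [pi_apply, tensor_p, tmul_add, add_tmul, Bool.not_true, Bool.not_false]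
  abel

theorem tensor_eps (K : KD R V) (L : KD R W) (x : V) (y : W) :
    (K.tensor L).eps (x ⊗ₜ y) = K.eps x ⊗ₜ L.eps y := by
  simp only [eps_apply, tensor_p, tmul_sub, sub_tmul, Bool.not_true, Bool.not_false]
  abel

theorem tensor_pi_eq (K : KD R V) (L : KD R W) : (K.tensor L).pi = TensorProduct.map K.pi L.pi :=
  TensorProduct.ext' fun x y => by rw [tensor_pi, map_tmul]

theorem IsHom.tensor {K : KD R V} {L : KD R W} {K' : KD R V'} {L' : KD R W'}
    {f : V →ₗ[R] V'} {g : W →ₗ[R] W'} (hf : IsHom K K' f) (hg : IsHom L L' g) :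
    IsHom (K.tensor L) (K'.tensor L') (TensorProduct.map f g) where
  fd z := by
    refine lin_eq (F := TensorProduct.map f g ∘ₗ (K.tensor L).d)
      (G := (K'.tensor L').d ∘ₗ TensorProduct.map f g) (fun x y => ?_) z
    simp [tensor_d, hf.fd, hf.eps, hg.fd, hg.pi]
  fp a z := by
    refine lin_eq (F := TensorProduct.map f g ∘ₗ (K.tensor L).p a)
      (G := (K'.tensor L').p a ∘ₗ TensorProduct.map f g) (fun x y => ?_) z
    simp [tensor_p, hf.fp, hg.fp]

theorem IsIso.tensor {K : KD R V} {L : KD R W} {K' : KD R V'} {L' : KD R W'}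
    {f : V →ₗ[R] V'} {f' : V' →ₗ[R] V} {g : W →ₗ[R] W'} {g' : W' →ₗ[R] W}
    (hf : IsIso K K' f f') (hg : IsIso L L' g g') :
    IsIso (K.tensor L) (K'.tensor L') (TensorProduct.map f g) (TensorProduct.map f' g') where
  hf := hf.hf.tensor hg.hf
  hg := hf.hg.tensor hg.hg
  gf z := by
    refine lin_eq (F := TensorProduct.map f' g' ∘ₗ TensorProduct.map f g ∘ₗ (K.tensor L).pi)
      (G := (K.tensor L).pi) (fun x y => ?_) z
    simp [tensor_pi, hf.gf, hg.gf]
  fg z := by
    refine lin_eq (F := TensorProduct.map f g ∘ₗ TensorProduct.map f' g' ∘ₗ (K'.tensor L').pi)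
      (G := (K'.tensor L').pi) (fun x y => ?_) z
    simp [tensor_pi, hf.fg, hg.fg]

theorem IsIso.refl (K : KD R V) : IsIso K K LinearMap.id LinearMap.id :=
  ⟨IsHom.id K, IsHom.id K, fun _ => rfl, fun _ => rfl⟩

/-- signed swap -/
def sw (K : KD R V) (L : KD R W) : V ⊗[R] W →ₗ[R] W ⊗[R] V :=
  (TensorProduct.comm R V W).toLinearMap ∘ₗ
    (TensorProduct.map (K.p false) L.pi + TensorProduct.map (K.p true) L.eps)

theorem sw_tmul (K : KD R V) (L : KD R W) (x : V) (y : W) :
    sw K L (x ⊗ₜ y) = L.pi y ⊗ₜ K.p false x + L.eps y ⊗ₜ K.p true x := by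
  simp [sw]

theorem sw_pp (K : KD R V) (L : KD R W) (a b : Bool) (x : V) (y : W) :
    sw K L (K.p a x ⊗ₜ L.p b y) = if a && b then - (L.p b y ⊗ₜ K.p a x) else
      L.p b y ⊗ₜ K.p a x := by
  cases a <;> cases b <;> simp [sw_tmul, ppn, pi_p, eps_p, neg_tmul]

theorem isHom_sw (K : KD R V) (L : KD R W) : IsHom (K.tensor L) (L.tensor K) (sw K L) where
  fd z := by
    refine lin_eq (F := sw K L ∘ₗ (K.tensor L).d)
      (G := (L.tensor K).d ∘ₗ sw K L) (fun x y => ?_) z
    simp only [LinearMap.comp_apply, tensor_d, sw_tmul, map_add, d_pi, pi_d, p_d, pi_pi, eps_pi,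
      pi_eps, eps_eps, pi_p, d_eps, p_eps, Bool.not_true, Bool.not_false]
    simp [neg_tmul, tmul_neg, tmul_add, add_tmul, pi_apply, eps_apply, tmul_sub, sub_tmul]
    abel
  fp a z := by
    refine lin_eq (F := sw K L ∘ₗ (K.tensor L).p a)
      (G := (L.tensor K).p a ∘ₗ sw K L) (fun x y => ?_) z
    cases a <;>
    simp only [LinearMap.comp_apply, tensor_p, sw_tmul, map_add, ppn, pi_p, p_pi, eps_p, p_eps,
      Bool.not_true, Bool.not_false] <;> simp [neg_tmul, tmul_neg]

theorem sw_sw (K : KD R V) (L : KD R W) (z : V ⊗[R] W) : sw L K (sw K L z) = (K.tensor L).pi z := by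
  refine lin_eq (F := sw L K ∘ₗ sw K L)
      (G := (K.tensor L).pi) (fun x y => ?_) z
  simp only [LinearMap.comp_apply, sw_tmul, tensor_pi, map_add, pi_p, eps_p, p_pi, p_eps]
  simp [pi_apply, tmul_add, add_tmul, neg_tmul, tmul_neg]
  abel

theorem isIso_sw (K : KD R V) (L : KD R W) :
    IsIso (K.tensor L) (L.tensor K) (sw K L) (sw L K) where
  hf := isHom_sw K L
  hg := isHom_sw L K
  gf z := by rw [sw_sw, pi_pi]
  fg z := by rw [sw_sw, pi_pi]

end KD

end Groth.Agent.Books.AdKD
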