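import Groth.Agent.Books.AdTensor

set_option autoImplicit false
universe u

/-!
# Associativity, unit, annihilators of tensor products
-/

open TensorProduct

namespace Groth.Agent.Books.AdKD

open Groth.Agent.Books.AdLen

namespace KD

variable {R : Type u} [CommRing R] {V W U : Type u} [AddCommGroup V] [Module R V]
  [AddCommGroup W] [Module R W] [AddCommGroup U] [Module R U]
  {V' W' U' : Type u} [AddCommGroup V'] [Module R V']
  [AddCommGroup W'] [Module R W'] [AddCommGroup U'] [Module R U']

theorem lin_eq3 {X : Type u} [AddCommGroup X] [Module R X] {F G : (V ⊗[R] W) ⊗[R] U →ₗ[R] X}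
    (h : ∀ x y z, F ((x ⊗ₜ y) ⊗ₜ z) = G ((x ⊗ₜ y) ⊗ₜ z)) (t : (V ⊗[R] W) ⊗[R] U) :
    F t = G t := by
  rw [TensorProduct.ext_threefold h]

theorem lin_eq3' {X : Type u} [AddCommGroup X] [Module R X] {F G : V ⊗[R] (W ⊗[R] U) →ₗ[R] X}
    (h : ∀ x y z, F (x ⊗ₜ (y ⊗ₜ z)) = G (x ⊗ₜ (y ⊗ₜ z))) (t : V ⊗[R] (W ⊗[R] U)) :
    F t = G t := by
  have : F ∘ₗ (TensorProduct.assoc R V W U).toLinearMap =
      G ∘ₗ (TensorProduct.assoc R V W U).toLinearMap := by
    apply TensorProduct.ext_threefold
    intro x y z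
    simpa using h x y z
  have h2 := LinearMap.congr_fun this ((TensorProduct.assoc R V W U).symm t)
  simpa using h2

/-- associator -/
def asc (R : Type u) [CommRing R] (V W U : Type u) [AddCommGroup V] [Module R V]
    [AddCommGroup W] [Module R W] [AddCommGroup U] [Module R U] :
    (V ⊗[R] W) ⊗[R] U →ₗ[R] V ⊗[R] (W ⊗[R] U) := (TensorProduct.assoc R V W U).toLinearMap

/-- inverse associator -/
def csa (R : Type u) [CommRing R] (V W U : Type u) [AddCommGroup V] [Module R V]
    [AddCommGroup W] [Module R W] [AddCommGroup U] [Module R U] :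
    V ⊗[R] (W ⊗[R] U) →ₗ[R] (V ⊗[R] W) ⊗[R] U := (TensorProduct.assoc R V W U).symm.toLinearMap

@[simp] theorem asc_tmul (x : V) (y : W) (z : U) : asc R V W U ((x ⊗ₜ y) ⊗ₜ z) = x ⊗ₜ (y ⊗ₜ z) := by
  simp [asc]

@[simp] theorem csa_tmul (x : V) (y : W) (z : U) : csa R V W U (x ⊗ₜ (y ⊗ₜ z)) = (x ⊗ₜ y) ⊗ₜ z := by
  simp [csa]

@[simp] theorem asc_csa (x : V ⊗[R] (W ⊗[R] U)) : asc R V W U (csa R V W U x) = x := by
  simp [csa, asc]

@[simp] theorem csa_asc (x : (V ⊗[R] W) ⊗[R] U) : csa R V W U (asc R V W U x) = x := by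
  simp [csa, asc]

theorem isHom_asc (K : KD R V) (L : KD R W) (M : KD R U) :
    IsHom ((K.tensor L).tensor M) (K.tensor (L.tensor M)) (asc R V W U) where
  fd z := by
    refine lin_eq3 (F := asc R V W U ∘ₗ ((K.tensor L).tensor M).d)
      (G := (K.tensor (L.tensor M)).d ∘ₗ asc R V W U) (fun x y z => ?_) z
    simp [tensor_d, tensor_pi, tensor_eps, tmul_add, add_tmul, add_assoc]
  fp a z := by
    refine lin_eq3 (F := asc R V W U ∘ₗ ((K.tensor L).tensor M).p a)
      (G := (K.tensor (L.tensor M)).p a ∘ₗ asc R V W U) (fun x y z => ?_) z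
    cases a <;>
    simp [tensor_p, tmul_add, add_tmul] <;> abel

theorem isHom_csa (K : KD R V) (L : KD R W) (M : KD R U) :
    IsHom (K.tensor (L.tensor M)) ((K.tensor L).tensor M) (csa R V W U) where
  fd z := by
    have := (isHom_asc K L M).fd (csa R V W U z)
    rw [asc_csa] at this
    rw [← this, csa_asc]
  fp a z := by
    have := (isHom_asc K L M).fp a (csa R V W U z)
    rw [asc_csa] at this
    rw [← this, csa_asc]

theorem isIso_asc (K : KD R V) (L : KD R W) (M : KD R U) :
    IsIso ((K.tensor L).tensor M) (K.tensor (L.tensor M)) (asc R V W U) (csa R V W U) where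
  hf := isHom_asc K L M
  hg := isHom_csa K L M
  gf z := by simp
  fg z := by simp

/-- the unit -/
def one (R : Type u) [CommRing R] : KD R R where
  d := 0
  p a := if a then 0 else LinearMap.id
  pp a x := by cases a <;> simp
  pn a x := by cases a <;> simp
  dp a x := by simp
  dd x := rfl
  dpi x := by simp

@[simp] theorem one_pi (x : R) : (one R).pi x = x := by simp [one, pi_apply]
@[simp] theorem one_eps (x : R) : (one R).eps x = x := by simp [one, eps_apply]
@[simp] theorem one_d (x : R) : (one R).d x = 0 := rfl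
@[simp] theorem one_p_true (x : R) : (one R).p true x = 0 := rfl
@[simp] theorem one_p_false (x : R) : (one R).p false x = x := rfl

theorem isIso_one_tensor (K : KD R V) :
    IsIso ((one R).tensor K) K (TensorProduct.lid R V).toLinearMap
      (TensorProduct.lid R V).symm.toLinearMap where
  hf := by
    constructor
    · intro z
      refine lin_eq (F := (TensorProduct.lid R V).toLinearMap ∘ₗ ((one R).tensor K).d)
        (G := K.d ∘ₗ (TensorProduct.lid R V).toLinearMap) (fun x y => ?_) z
      simp [tensor_d]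
    · intro a z
      refine lin_eq (F := (TensorProduct.lid R V).toLinearMap ∘ₗ ((one R).tensor K).p a)
        (G := K.p a ∘ₗ (TensorProduct.lid R V).toLinearMap) (fun x y => ?_) z
      simp [tensor_p]
  hg := by
    constructor
    · intro z
      simp [tensor_d]
    · intro a z
      simp [tensor_p]
  gf z := by simp
  fg z := by simp

theorem ann_left (K : KD R V) (L : KD R W) : K.ann ≤ (K.tensor L).ann := by
  intro y hy
  rw [mem_ann_iff_norm] at hy
  obtain ⟨s, h1, h2, h3, h4⟩ := hy
  have he : ∀ x, K.eps (s x) + s (K.eps x) = 0 := by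
    intro x
    simp only [eps_apply, map_sub, h1, Bool.not_true, Bool.not_false]
    abel
  refine ⟨TensorProduct.map s L.pi, ?_, ?_⟩
  · intro a z
    refine lin_eq (F := TensorProduct.map s L.pi ∘ₗ (K.tensor L).p a)
        (G := (K.tensor L).p (!a) ∘ₗ TensorProduct.map s L.pi) (fun x y => ?_) z
    cases a <;> simp [tensor_p, h1, pi_p, p_pi] <;> abel
  · intro z
    refine lin_eq (F := (K.tensor L).d ∘ₗ TensorProduct.map s L.pi +
        TensorProduct.map s L.pi ∘ₗ (K.tensor L).d)
        (G := y • (K.tensor L).pi) (fun x w => ?_) z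
    simp only [LinearMap.add_apply, LinearMap.comp_apply, map_tmul, tensor_d, map_add, pi_pi,
      L.pi_d, L.d_pi, LinearMap.smul_apply, tensor_pi]
    have e1 : K.d (s x) ⊗ₜ[R] L.pi w + K.eps (s x) ⊗ₜ[R] L.d w +
        (s (K.d x) ⊗ₜ[R] L.pi w + s (K.eps x) ⊗ₜ[R] L.d w) =
        (K.d (s x) + s (K.d x)) ⊗ₜ[R] L.pi w + (K.eps (s x) + s (K.eps x)) ⊗ₜ[R] L.d w := by
      simp only [add_tmul]; abel
    rw [e1, he, h4, zero_tmul, add_zero, smul_tmul']

theorem ann_right (K : KD R V) (L : KD R W) : L.ann ≤ (K.tensor L).ann :=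
  (ann_left L K).trans (ann_of_iso (isIso_sw L K))

theorem ann_sup (K : KD R V) (L : KD R W) : K.ann ⊔ L.ann ≤ (K.tensor L).ann :=
  sup_le (ann_left K L) (ann_right K L)

theorem Good.tensor {K : KD R V} {e : V →ₗ[R] V} (h : K.Good e) (L : KD R W) :
    (K.tensor L).Good (TensorProduct.map e LinearMap.id) where
  ee z := by
    refine lin_eq (F := TensorProduct.map e LinearMap.id ∘ₗ TensorProduct.map e LinearMap.id)
        (G := TensorProduct.map e LinearMap.id) (fun x y => ?_) z
    simp [h.ee]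
  ep a z := by
    refine lin_eq (F := TensorProduct.map e LinearMap.id ∘ₗ (K.tensor L).p a)
        (G := (K.tensor L).p a ∘ₗ TensorProduct.map e LinearMap.id) (fun x y => ?_) z
    simp [tensor_p, h.ep]
  ed z := by
    refine lin_eq (F := TensorProduct.map e LinearMap.id ∘ₗ (K.tensor L).d ∘ₗ
      TensorProduct.map e LinearMap.id ∘ₗ (K.tensor L).d ∘ₗ TensorProduct.map e LinearMap.id)
        (G := 0) (fun x y => ?_) z
    have h1 : ∀ x, e (K.eps x) = K.eps (e x) := by
      intro x; simp [eps_apply, h.ep]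
    simp [tensor_d, h.ed, h1, h.ee, pi_d, L.d_pi, L.dd, d_eps, neg_tmul]

theorem Cen.tensor {K : KD R V} {e : V →ₗ[R] V} (h : K.Cen e) (L : KD R W) :
    (K.tensor L).Cen (TensorProduct.map e LinearMap.id) where
  ee := (h.good.tensor L).ee
  ep := (h.good.tensor L).ep
  ed := (h.isHom.tensor (IsHom.id L)).fd

theorem Stab.tensor {K : KD R V} {e : V →ₗ[R] V} (h : K.Stab e) (L : KD R W) :
    (K.tensor L).Stab (TensorProduct.map e LinearMap.id) where
  ee := (h.good.tensor L).ee
  ep := (h.good.tensor L).ep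
  ed z := by
    refine lin_eq (F := (K.tensor L).d ∘ₗ TensorProduct.map e LinearMap.id)
        (G := TensorProduct.map e LinearMap.id ∘ₗ (K.tensor L).d ∘ₗ TensorProduct.map e LinearMap.id)
        (fun x y => ?_) z
    have h1 : ∀ x, e (K.eps x) = K.eps (e x) := by
      intro x; simp [eps_apply, h.ep]
    simp [tensor_d, h1, h.ee, ← h.ed]

theorem cutG_tensor {K : KD R V} {e : V →ₗ[R] V} (h : K.Good e) (L : KD R W) :
    (cutG h).tensor L = cutG (h.tensor L) := by
  have h1 : ∀ x, e (K.eps x) = K.eps (e x) := by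
      intro x; simp [eps_apply, h.ep]
  refine KD.ext (fun z => ?_) (fun a z => ?_)
  · refine lin_eq (F := ((cutG h).tensor L).d)
        (G := (cutG (h.tensor L)).d) (fun x y => ?_) z
    simp [tensor_d, cutG_d, cutG_eps, h1, h.ee]
  · refine lin_eq (F := ((cutG h).tensor L).p a)
        (G := (cutG (h.tensor L)).p a) (fun x y => ?_) z
    simp [tensor_p, cutG_p]

end KD

end Groth.Agent.Books.AdKD
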