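import Groth.Agent.Books.AdSq

set_option autoImplicit false
universe u

/-!
# Tensor powers of a tensor product
-/

open TensorProduct

namespace Groth.Agent.Books.AdKD

open Groth.Agent.Books.AdLen

namespace KD

variable {R : Type u} [CommRing R] {V W U : Type u} [AddCommGroup V] [Module R V]
  [AddCommGroup W] [Module R W] [AddCommGroup U] [Module R U]
  {V' W' U' : Type u} [AddCommGroup V'] [Module R V']
  [AddCommGroup W'] [Module R W'] [AddCommGroup U'] [Module R U']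
  {Y : Type u} [AddCommGroup Y] [Module R Y]

theorem negA (t : (V ⊗[R] V') ⊗[R] (W ⊗[R] W')) : (-1 : R) • t = -t := neg_one_smul R t

theorem negB (t : (V ⊗[R] (V' ⊗[R] U)) ⊗[R] (W ⊗[R] (W' ⊗[R] U'))) : (-1 : R) • t = -t :=
  neg_one_smul R t

theorem hom_eq4 (K : KD R V) (L : KD R W) (K' : KD R V') (L' : KD R W')
    {F G : (V ⊗[R] W) ⊗[R] (V' ⊗[R] W') →ₗ[R] Y}
    (h : ∀ a b c d x y x' y', F ((K.p a x ⊗ₜ L.p b y) ⊗ₜ (K'.p c x' ⊗ₜ L'.p d y')) =
      G ((K.p a x ⊗ₜ L.p b y) ⊗ₜ (K'.p c x' ⊗ₜ L'.p d y'))) (z : (V ⊗[R] W) ⊗[R] (V' ⊗[R] W')) :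
    F (((K.tensor L).tensor (K'.tensor L')).pi z) =
      G (((K.tensor L).tensor (K'.tensor L')).pi z) := by
  have : F ∘ₗ ((K.tensor L).tensor (K'.tensor L')).pi =
      G ∘ₗ ((K.tensor L).tensor (K'.tensor L')).pi := by
    apply TensorProduct.ext_fourfold'
    intro x y x' y'
    simp only [LinearMap.comp_apply, tensor_pi]
    simp only [pi_apply, tmul_add, add_tmul, map_add, h]
  exact LinearMap.congr_fun this z

theorem hom_eq6 {V'' W'' : Type u} [AddCommGroup V''] [Module R V'']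
    [AddCommGroup W''] [Module R W''] (K : KD R V) (L : KD R W) (K' : KD R V') (L' : KD R W')
    (K'' : KD R V'') (L'' : KD R W'')
    {F G : (V ⊗[R] W) ⊗[R] ((V' ⊗[R] W') ⊗[R] (V'' ⊗[R] W'')) →ₗ[R] Y}
    (h : ∀ a b c d e f x y x' y' x'' y'',
      F ((K.p a x ⊗ₜ L.p b y) ⊗ₜ ((K'.p c x' ⊗ₜ L'.p d y') ⊗ₜ (K''.p e x'' ⊗ₜ L''.p f y''))) =
      G ((K.p a x ⊗ₜ L.p b y) ⊗ₜ ((K'.p c x' ⊗ₜ L'.p d y') ⊗ₜ (K''.p e x'' ⊗ₜ L''.p f y''))))
    (z : (V ⊗[R] W) ⊗[R] ((V' ⊗[R] W') ⊗[R] (V'' ⊗[R] W''))) :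
    F (((K.tensor L).tensor ((K'.tensor L').tensor (K''.tensor L''))).pi z) =
      G (((K.tensor L).tensor ((K'.tensor L').tensor (K''.tensor L''))).pi z) := by
  refine lin_eq3' (F := F ∘ₗ ((K.tensor L).tensor ((K'.tensor L').tensor (K''.tensor L''))).pi)
    (G := G ∘ₗ ((K.tensor L).tensor ((K'.tensor L').tensor (K''.tensor L''))).pi) ?_ z
  intro u v w
  induction u using TensorProduct.induction_on with
  | zero => simp
  | add u u' h1 h2 => rw [add_tmul, map_add, map_add, h1, h2]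
  | tmul x y =>
    induction v using TensorProduct.induction_on with
    | zero => simp
    | add u u' h1 h2 => rw [add_tmul, tmul_add, map_add, map_add, h1, h2]
    | tmul x' y' =>
      induction w using TensorProduct.induction_on with
      | zero => simp
      | add u u' h1 h2 => rw [tmul_add, tmul_add, map_add, map_add, h1, h2]
      | tmul x'' y'' =>
        simp only [LinearMap.comp_apply, tensor_pi]
        simp only [pi_apply, tmul_add, add_tmul, map_add, h]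

/-- shuffle -/
noncomputable def th (K : KD R V) (L : KD R W) (K' : KD R V') (L' : KD R W') :
    (V ⊗[R] W) ⊗[R] (V' ⊗[R] W') →ₗ[R] (V ⊗[R] V') ⊗[R] (W ⊗[R] W') :=
  csa R V V' (W ⊗[R] W') ∘ₗ
  (TensorProduct.map LinearMap.id (asc R V' W W') ∘ₗ
  (TensorProduct.map LinearMap.id (TensorProduct.map (sw L K') LinearMap.id) ∘ₗ
  (TensorProduct.map LinearMap.id (csa R W V' W') ∘ₗ asc R V W (V' ⊗[R] W'))))

/-- inverse shuffle -/
noncomputable def ht (K : KD R V) (L : KD R W) (K' : KD R V') (L' : KD R W') :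
    (V ⊗[R] V') ⊗[R] (W ⊗[R] W') →ₗ[R] (V ⊗[R] W) ⊗[R] (V' ⊗[R] W') :=
  (((csa R V W (V' ⊗[R] W') ∘ₗ TensorProduct.map LinearMap.id (asc R W V' W')) ∘ₗ
    TensorProduct.map LinearMap.id (TensorProduct.map (sw K' L) LinearMap.id)) ∘ₗ
    TensorProduct.map LinearMap.id (csa R V' W W')) ∘ₗ asc R V V' (W ⊗[R] W')

theorem isIso_th (K : KD R V) (L : KD R W) (K' : KD R V') (L' : KD R W') :
    IsIso ((K.tensor L).tensor (K'.tensor L')) ((K.tensor K').tensor (L.tensor L'))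
      (th K L K' L') (ht K L K' L') := by
  refine IsIso.trans (M := (K.tensor K').tensor (L.tensor L')) ?_
    (isIso_asc K K' (L.tensor L')).symm
  refine IsIso.trans ?_ ((IsIso.refl K).tensor (isIso_asc K' L L'))
  refine IsIso.trans ?_ ((IsIso.refl K).tensor ((isIso_sw L K').tensor (IsIso.refl L')))
  refine IsIso.trans ?_ ((IsIso.refl K).tensor (isIso_asc L K' L').symm)
  exact isIso_asc K L (K'.tensor L')

theorem th_pp (K : KD R V) (L : KD R W) (K' : KD R V') (L' : KD R W') (x : V) (b c : Bool)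
    (y : W) (x' : V') (y' : W') :
    th K L K' L' ((x ⊗ₜ L.p b y) ⊗ₜ (K'.p c x' ⊗ₜ y')) =
      (if b && c then (-1 : R) else 1) • ((x ⊗ₜ K'.p c x') ⊗ₜ (L.p b y ⊗ₜ y')) := by
  simp only [th, LinearMap.comp_apply, asc_tmul, map_tmul, csa_tmul, sw_pp, LinearMap.id_apply]
  cases b <;> cases c <;> simp [neg_tmul, tmul_neg, negA]

/-- equivariant isomorphisms induce isomorphisms of invariants -/
theorem iso_av {n : ℕ} [Invertible (n : R)] {P : KD R V} {Q : KD R W} {σ : Module.End R V}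
    {τ : Module.End R W} (h : Cyc n P σ) (h' : Cyc n Q τ) {f : V →ₗ[R] W} {g : W →ₗ[R] V}
    (hfg : IsIso P Q f g) (hστ : ∀ x, f (σ x) = τ (f x)) :
    IsIso (cutG h.cen_av.good) (cutG h'.cen_av.good) (av n τ ∘ₗ f ∘ₗ av n σ)
      (av n σ ∘ₗ g ∘ₗ av n τ) := by
  have h0 : ∀ (i : ℕ) x, f ((σ ^ i) x) = (τ ^ i) (f x) := by
    intro i
    induction i with
    | zero => intro x; simp
    | succ i ih => intro x; rw [pow_succ', Module.End.mul_apply, hστ, ih, pow_succ', Module.End.mul_apply]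
  have h1 : ∀ x, f (av n σ x) = av n τ (f x) := by
    intro x
    rw [av_apply, av_apply, map_smul, map_sum]
    congr 1
    exact Finset.sum_congr rfl fun i _ => h0 _ _
  have h2 : ∀ y, av n σ (g y) = g (av n τ y) := by
    intro y
    have e1 : f (av n σ (g y)) = av n τ y := by
      rw [h1, ← h'.av_pi (f (g y)), ← hfg.hf.pi, ← hfg.hg.pi, hfg.fg, h'.av_pi]
    rw [← e1]
    have := hfg.gf (av n σ (g y))
    rw [h.pi_av] at this
    exact this.symm
  refine isIso_cut h.cen_av h'.cen_av hfg.hf hfg.hg ?_ ?_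
  · intro x
    rw [h1, h'.av_av, ← h1]
    have := hfg.gf (av n σ x)
    rw [h.pi_av] at this
    rw [this, h.av_av, h.av_pi]
  · intro y
    rw [h2, h'.av_av]
    have := hfg.fg (av n τ y)
    rw [h'.pi_av] at this
    rw [this, h'.av_av, h'.av_pi]

theorem eqv_of_pi {P : KD R V} {Q : KD R W} {n : ℕ} {σ : Module.End R V}
    {τ : Module.End R W} (h : Cyc n P σ) (h' : Cyc n Q τ) {f : V →ₗ[R] W} (hf : IsHom P Q f)
    (hστ : ∀ x, f (σ (P.pi x)) = τ (f (P.pi x))) (x : V) : f (σ x) = τ (f x) := by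
  rw [← h.spi, hστ, hf.pi, h'.spi]

/-- shuffle for squares -/
theorem th2_eqv (K : KD R V) (L : KD R W) (z : (V ⊗[R] W) ⊗[R] (V ⊗[R] W)) :
    th K L K L (s2 (K.tensor L) z) = TensorProduct.map (s2 K) (s2 L) (th K L K L z) := by
  refine eqv_of_pi (cyc_s2 (K.tensor L)) ((cyc_s2 K).tensor (cyc_s2 L)) (isIso_th K L K L).hf ?_ z
  intro z
  refine hom_eq4 K L K L (F := th K L K L ∘ₗ (s2 (K.tensor L)))
    (G := TensorProduct.map (s2 K) (s2 L) ∘ₗ th K L K L) ?_ z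
  intro a b c d x y x' y'
  rw [LinearMap.comp_apply, LinearMap.comp_apply]
  have e1 : ∀ a b (x : V) (y : W), (K.tensor L).p (xor a b) (K.p a x ⊗ₜ L.p b y) =
      K.p a x ⊗ₜ[R] L.p b y := by
    intro a b x y
    cases a <;> cases b <;> simp [tensor_p, ppn]
  rw [th_pp, map_smul, map_tmul, s2_pp, s2_pp]
  have e2 := s2_pp (K.tensor L) (xor a b) (xor c d) (K.p a x ⊗ₜ L.p b y) (K.p c x' ⊗ₜ L.p d y')
  rw [e1, e1] at e2
  rw [e2, map_smul, th_pp]
  cases a <;> cases b <;> cases c <;> cases d <;> simp [neg_tmul, tmul_neg, negA]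

/-- shuffle for cubes -/
noncomputable def th3 (K : KD R V) (L : KD R W) :
    (V ⊗[R] W) ⊗[R] ((V ⊗[R] W) ⊗[R] (V ⊗[R] W)) →ₗ[R]
      (V ⊗[R] (V ⊗[R] V)) ⊗[R] (W ⊗[R] (W ⊗[R] W)) :=
  th K L (K.tensor K) (L.tensor L) ∘ₗ TensorProduct.map LinearMap.id (th K L K L)

/-- inverse shuffle for cubes -/
noncomputable def ht3 (K : KD R V) (L : KD R W) :
      (V ⊗[R] (V ⊗[R] V)) ⊗[R] (W ⊗[R] (W ⊗[R] W)) →ₗ[R]
      (V ⊗[R] W) ⊗[R] ((V ⊗[R] W) ⊗[R] (V ⊗[R] W)) :=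
  TensorProduct.map LinearMap.id (ht K L K L) ∘ₗ ht K L (K.tensor K) (L.tensor L)

theorem isIso_th3 (K : KD R V) (L : KD R W) :
    IsIso ((K.tensor L).tensor ((K.tensor L).tensor (K.tensor L)))
      ((K.tensor (K.tensor K)).tensor (L.tensor (L.tensor L))) (th3 K L) (ht3 K L) :=
  ((IsIso.refl (K.tensor L)).tensor (isIso_th K L K L)).trans
    (isIso_th K L (K.tensor K) (L.tensor L))

theorem tensor_p_pp (K : KD R V) (L : KD R W) (a b : Bool) (x : V) (y : W) :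
    (K.tensor L).p (xor a b) (K.p a x ⊗ₜ L.p b y) = K.p a x ⊗ₜ[R] L.p b y := by
  cases a <;> cases b <;> simp [tensor_p, ppn]

theorem th3_pp (K : KD R V) (L : KD R W) (a b c d e f : Bool) (x : V) (y : W) (x' : V) (y' : W)
    (x'' : V) (y'' : W) :
    th3 K L ((K.p a x ⊗ₜ L.p b y) ⊗ₜ ((K.p c x' ⊗ₜ L.p d y') ⊗ₜ (K.p e x'' ⊗ₜ L.p f y''))) =
      ((if d && e then (-1 : R) else 1) * (if b && xor c e then (-1 : R) else 1)) •
      ((K.p a x ⊗ₜ (K.p c x' ⊗ₜ K.p e x'')) ⊗ₜ (L.p b y ⊗ₜ (L.p d y' ⊗ₜ L.p f y''))) := by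
  rw [th3, LinearMap.comp_apply, map_tmul, LinearMap.id_apply, th_pp, tmul_smul, map_smul]
  have e2 := th_pp K L (K.tensor K) (L.tensor L) (K.p a x) b (xor c e) y
    (K.p c x' ⊗ₜ K.p e x'') (L.p d y' ⊗ₜ L.p f y'')
  rw [tensor_p_pp] at e2
  rw [e2, smul_smul]

theorem th3_eqv (K : KD R V) (L : KD R W) (z : (V ⊗[R] W) ⊗[R] ((V ⊗[R] W) ⊗[R] (V ⊗[R] W))) :
    th3 K L (s3 (K.tensor L) z) = TensorProduct.map (s3 K) (s3 L) (th3 K L z) := by
  refine eqv_of_pi (cyc_s3 (K.tensor L)) ((cyc_s3 K).tensor (cyc_s3 L)) (isIso_th3 K L).hf ?_ z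
  intro z
  refine hom_eq6 K L K L K L (F := th3 K L ∘ₗ (s3 (K.tensor L)))
    (G := TensorProduct.map (s3 K) (s3 L) ∘ₗ th3 K L) ?_ z
  intro a b c d e f x y x' y' x'' y''
  rw [LinearMap.comp_apply, LinearMap.comp_apply]
  rw [th3_pp, map_smul, map_tmul, s3_pp, s3_pp]
  have e2 := s3_pp (K.tensor L) (xor a b) (xor c d) (xor e f) (K.p a x ⊗ₜ L.p b y)
    (K.p c x' ⊗ₜ L.p d y') (K.p e x'' ⊗ₜ L.p f y'')
  rw [tensor_p_pp, tensor_p_pp, tensor_p_pp] at e2
  rw [e2, map_smul, th3_pp, smul_smul, smul_tmul_smul, smul_smul]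
  congr 1
  cases a <;> cases b <;> cases c <;> cases d <;> cases e <;> cases f <;> simp

end KD

end Groth.Agent.Books.AdKD
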