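import Groth.Agent.Books.AdKos3

set_option autoImplicit false
universe u

/-!
# The operations on the unit
-/

open TensorProduct

namespace Groth.Agent.Books.AdKD

open Groth.Agent.Books.AdLen

namespace KD

variable {R : Type u} [CommRing R] {V W U : Type u} [AddCommGroup V] [Module R V]
  [AddCommGroup W] [Module R W] [AddCommGroup U] [Module R U]

theorem av_of_id {n : ℕ} [Invertible (n : R)] {σ : Module.End R V} (h : ∀ x, σ x = x) (x : V) :
    av n σ x = x := by
  have h1 : ∀ i, (σ ^ i) x = x := by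
    intro i
    induction i with
    | zero => simp
    | succ i ih => rw [pow_succ, Module.End.mul_apply, h, ih]
  rw [av_apply, Finset.sum_congr rfl fun i _ => h1 (i + 1), Finset.sum_const, Finset.card_range,
    ← Nat.cast_smul_eq_nsmul R, smul_smul, invOf_mul_self, one_smul]

theorem cutG_of_id {K : KD R V} {e : V →ₗ[R] V} (h : K.Good e) (he : ∀ x, e x = x) :
    cutG h = K := by
  refine KD.ext (fun z => ?_) (fun a z => ?_)
  · rw [cutG_d, he, he]
  · rw [cutG_p, he]

theorem s2_one (z : R ⊗[R] R) : s2 (one R) z = z := by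
  refine lin_eq (F := s2 (one R)) (G := LinearMap.id) (fun x y => ?_) z
  have h : ∀ x y : R, x ⊗ₜ[R] y = (x * y) • (1 : R) ⊗ₜ[R] (1 : R) := by
    intro x y
    rw [smul_tmul', smul_eq_mul, mul_one, mul_comm, ← smul_eq_mul, smul_tmul, smul_eq_mul, mul_one]
  simp only [s2, sw_tmul, one_pi, one_p_false, one_p_true, tmul_zero, add_zero, LinearMap.id_apply]
  rw [h, h x y, mul_comm]

theorem A2_one [Invertible ((2 : ℕ) : R)] : A2 (one R) = (one R).tensor (one R) :=
  cutG_of_id _ (av_of_id s2_one)

theorem s3_one (z : R ⊗[R] (R ⊗[R] R)) : s3 (one R) z = z := by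
  refine lin_eq3' (F := s3 (one R)) (G := LinearMap.id) (fun x y z => ?_) z
  have h : ∀ x y z : R, x ⊗ₜ[R] (y ⊗ₜ[R] z) = (x * y * z) • ((1 : R) ⊗ₜ[R] ((1 : R) ⊗ₜ[R] (1 : R))) := by
    intro x y z
    have h1 : x = x • (1 : R) := by simp
    have h2 : y = y • (1 : R) := by simp
    have h3 : z = z • (1 : R) := by simp
    conv_lhs => rw [h1, h2, h3]
    rw [← smul_tmul', ← smul_tmul', tmul_smul, tmul_smul, tmul_smul, smul_smul, smul_smul, mul_assoc]
  simp only [s3, LinearMap.comp_apply, sw_tmul, one_pi, one_p_false, one_p_true, tmul_zero, add_zero,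
    LinearMap.id_apply, tensor_pi, asc_tmul]
  rw [h, h x y z]
  congr 1
  ring

theorem A3_one [Invertible ((3 : ℕ) : R)] : A3 (one R) = (one R).tensor ((one R).tensor (one R)) :=
  cutG_of_id _ (av_of_id s3_one)

theorem chi_T2_one (X : KD R U) (ℓ : LenFun R) :
    (((one R).tensor (one R)).tensor X).chi ℓ = X.chi ℓ := by
  rw [chi_congr ((isIso_one_tensor (one R)).tensor (IsIso.refl X)), chi_congr (isIso_one_tensor X)]

theorem chi_T3_one (X : KD R U) (ℓ : LenFun R) :
    (((one R).tensor ((one R).tensor (one R))).tensor X).chi ℓ = X.chi ℓ := by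
  rw [chi_congr ((isIso_one_tensor ((one R).tensor (one R))).tensor (IsIso.refl X)), chi_T2_one]

end KD

end Groth.Agent.Books.AdKD
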