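import Groth.Agent.Books.AdLP
import Mathlib.RingTheory.LocalRing.MaximalIdeal.Basic
import Mathlib.RingTheory.Ideal.Height

set_option autoImplicit false
universe u

/-!
# Vanishing for pairs of primes
-/

open TensorProduct

namespace Groth.Agent.Books.AdKD

open Groth.Agent.Books.AdLen

variable {R : Type u} [CommRing R] [IsNoetherianRing R] {ℓ : LenFun R} {n : ℕ}

open IsLocalRing

namespace Cx

theorem chi_ten_cone' {F G : Cx R} {f : F.V →ₗ[R] G.V} (hf : KD.IsHom F.K G.K f)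
    (hg : (KD.cone hf).IsGr) (Z : Cx R)
    (h1 : Small ℓ (F.ann ⊔ Z.ann)) (h2 : Small ℓ (G.ann ⊔ Z.ann)) :
    ((cone hf hg).ten Z).chi ℓ = (G.ten Z).chi ℓ + (F.sh.ten Z).chi ℓ := by
  rw [chi_ten_cone hf hg Z (h1.mono (ann_ten _ _)) (h2.mono (ann_ten _ _)),
    (sh_ten F Z).chi, sh_chi, sub_eq_add_neg]

theorem dev2 (hres : HasRes R) {J : Ideal R} (ℓ ℓ' : LenFun R) (X : Cx R)
    (hsm : ∀ F, InJ J F → Small ℓ (F.ann ⊔ X.ann)) (hℓ : Small ℓ' J) (β : ℤ)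
    (hprime : ∀ P : Ideal R, P.IsPrime → J ≤ P → ∃ F : Cx R, F.IsRes 0 (R ⧸ P) ∧
      (F.ten X).chi ℓ = β * F.chi ℓ') (F : Cx R) (hF : InJ J F) :
    (F.ten X).chi ℓ = β * F.chi ℓ' := by
  have key := dev (J := J) (μ := fun F => (F.ten X).chi ℓ - β * F.chi ℓ') ?_ ?_ ?_ hres F hF
  · linarith
  · intro F G f hf hg hF hG
    rw [chi_ten_cone' hf hg X (hsm F hF) (hsm G hG),
      chi_cone hf hg (hF.small hℓ) (hG.small hℓ)]
    ring
  · intro F hF
    have h1 : (F.ten X).chi ℓ = 0 :=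
      KD.chi_eq_zero_of_one_mem _ ((le_sup_left.trans (ann_ten F X)) hF)
    have h2 : F.chi ℓ' = 0 := KD.chi_eq_zero_of_one_mem _ hF
    rw [h1, h2]; ring
  · intro P hP hJ
    obtain ⟨F, h1, h2⟩ := hprime P hP hJ
    exact ⟨F, h1, by rw [h2]; ring⟩

end Cx

theorem pow_int_inj {n : ℕ} (hn : 2 ≤ n) {a b : ℕ} (h : (n : ℤ) ^ a = (n : ℤ) ^ b) : a = b := by
  have h' : n ^ a = n ^ b := by exact_mod_cast h
  exact Nat.pow_right_injective hn h'

/-- Vanishing for pairs of primes. -/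
theorem AdamsOp.prime_vanish [IsLocalRing R] (hn : 2 ≤ n) (op : AdamsOp R n) (hres : HasRes R)
    (hat : ∀ P : Ideal R, P.IsPrime → ∃ (ℓ : LenFun R) (l : List R),
      AtPrime ℓ P l ∧ (l.length : ℕ∞) = P.height)
    (d : ℕ) (lm : List R) (hm : AtPrime (stdLen R) (maximalIdeal R) lm) (hlm : lm.length = d) :
    ∀ P : Ideal R, P.IsPrime → ∀ P' : Ideal R, P'.IsPrime →
      (∃ k : ℕ, maximalIdeal R ^ k ≤ P ⊔ P') → (d : ℕ∞) < P.height + P'.height →
      ∀ F F' : Cx R, F.IsRes 0 (R ⧸ P) → F'.IsRes 0 (R ⧸ P') →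
        (F.ten F').chi (stdLen R) = 0 := by
  have hsmall : ∀ (P P' : Ideal R), (∃ k : ℕ, maximalIdeal R ^ k ≤ P ⊔ P') →
      ∀ V X : Cx R, Cx.InJ P V → Cx.InJ P' X → Small (stdLen R) (V.ann ⊔ X.ann) := by
    rintro P P' ⟨k, hk⟩ V X ⟨a, ha⟩ ⟨b, hb⟩
    refine ((hm.small_P.pow k).pow (a + b)).mono ?_
    refine (Ideal.pow_right_mono hk (a + b)).trans ?_
    exact (Ideal.sup_pow_add_le_pow_sup_pow).trans (sup_le_sup ha hb)
  intro P
  induction P using WellFoundedGT.induction with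
  | ind P ih =>
  intro hP P'
  induction P' using WellFoundedGT.induction with
  | ind P' ih' =>
  intro hP' hk hd
  have hInJ : ∀ (P : Ideal R) (F : Cx R), F.IsRes 0 (R ⧸ P) → Cx.InJ P F :=
    fun P F hF => ⟨1, by rw [pow_one]; exact hF.ideal_le⟩
  obtain ⟨ℓ, l, hl, hlen⟩ := hat P hP
  obtain ⟨ℓ', l', hl', hlen'⟩ := hat P' hP'
  -- F1
  have F1 : ∀ P1 : Ideal R, P1.IsPrime → P < P1 → ∀ G1 : Cx R, G1.IsRes 0 (R ⧸ P1) →
      ∀ X, Cx.InJ P' X → (G1.ten X).chi (stdLen R) = 0 := by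
    intro P1 hP1 hlt G1 hG1 X hX
    rw [(Cx.comm G1 X).chi]
    have := Cx.dev2 hres (J := P') (stdLen R) ℓ' G1 (fun F hF => by
      rw [sup_comm]
      refine hsmall P1 P' ?_ G1 F (hInJ P1 G1 hG1) hF
      obtain ⟨k, hk⟩ := hk
      exact ⟨k, hk.trans (sup_le_sup hlt.le le_rfl)⟩) hl'.small_P 0 ?_ X hX
    · rw [this, zero_mul]
    · intro P2 hP2 hle
      obtain ⟨F, hF⟩ := hres (R ⧸ P2)
      refine ⟨F, hF, ?_⟩
      rw [zero_mul, (Cx.comm F G1).chi]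
      refine ih P1 hlt hP1 P2 hP2 ?_ ?_ G1 F hG1 hF
      · obtain ⟨k, hk⟩ := hk
        exact ⟨k, hk.trans (sup_le_sup hlt.le hle)⟩
      · exact hd.trans_le (add_le_add (Ideal.height_mono hlt.le) (Ideal.height_mono hle))
  -- F3
  have F3 : ∀ G G' : Cx R, G.IsRes 0 (R ⧸ P) → G'.IsRes 0 (R ⧸ P') → ∀ X, Cx.InJ P' X →
      (X.ten G).chi (stdLen R) = (G'.ten G).chi (stdLen R) * X.chi ℓ' := by
    intro G G' hG hG' X hX
    refine Cx.dev2 hres (J := P') (stdLen R) ℓ' G (fun F hF => by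
      rw [sup_comm]
      exact hsmall P P' hk G F (hInJ P G hG) hF) hl'.small_P _ ?_ X hX
    intro P2 hP2 hle
    rcases hle.eq_or_lt with h | h
    · subst h
      refine ⟨G', hG', ?_⟩
      rw [hG'.chi ℓ', hl'.one]
      simp
    · obtain ⟨F, hF⟩ := hres (R ⧸ P2)
      refine ⟨F, hF, ?_⟩
      have hn : ¬ F.ann ≤ P' := fun h' => h.not_ge (hF.ideal_le.trans h')
      rw [Cx.chi_of_null (hl'.null _ hn), mul_zero, (Cx.comm F G).chi]
      refine ih' P2 h hP2 ?_ ?_ G F hG hF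
      · obtain ⟨k, hk⟩ := hk
        exact ⟨k, hk.trans (sup_le_sup le_rfl hle)⟩
      · exact hd.trans_le (add_le_add le_rfl (Ideal.height_mono hle))
  -- F2
  have F2 : ∀ G : Cx R, G.IsRes 0 (R ⧸ P) → ∀ V X, Cx.InJ P V → Cx.InJ P' X →
      (V.ten X).chi (stdLen R) = (G.ten X).chi (stdLen R) * V.chi ℓ := by
    intro G hG V X hV hX
    refine Cx.dev2 hres (J := P) (stdLen R) ℓ X (fun F hF => hsmall P P' hk F X hF hX)
      hl.small_P _ ?_ V hV
    intro P2 hP2 hle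
    rcases hle.eq_or_lt with h | h
    · subst h
      refine ⟨G, hG, ?_⟩
      rw [hG.chi ℓ, hl.one]
      simp
    · obtain ⟨F, hF⟩ := hres (R ⧸ P2)
      refine ⟨F, hF, ?_⟩
      have hn : ¬ F.ann ≤ P := fun h' => h.not_ge (hF.ideal_le.trans h')
      rw [Cx.chi_of_null (hl.null _ hn), mul_zero]
      exact F1 P2 hP2 h F hF X hX
  intro G G' hG hG'
  set c := (G.ten G').chi (stdLen R) with hc
  have F4 : ∀ V X, Cx.InJ P V → Cx.InJ P' X →
      (V.ten X).chi (stdLen R) = c * V.chi ℓ * X.chi ℓ' := by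
    intro V X hV hX
    rw [F2 G hG V X hV hX, (Cx.comm G X).chi, F3 G G' hG hG' X hX, (Cx.comm G' G).chi]
    ring
  have hPG := hInJ P G hG
  have hPG' := hInJ P' G' hG'
  have F5 : ∀ V X, Cx.InJ P V → Cx.InJ P' X →
      ((V.ten X).ten (Cx.one R)).chi (stdLen R) = c * V.chi ℓ * X.chi ℓ' := by
    intro V X hV hX
    rw [(Cx.ten_one _).chi, F4 V X hV hX]
  have hm1 := op.mult (stdLen R) G G' (Cx.one R) ((hsmall P P' hk G G' hPG hPG').mono le_sup_left)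
  have hloc := op.local_formula hres hm (G.ten G') (by
    obtain ⟨k, hk⟩ := hk
    refine ⟨k, (Ideal.pow_right_mono hm.le k).trans (hk.trans ?_)⟩
    exact (sup_le_sup hG.ideal_le hG'.ideal_le).trans (Cx.ann_ten G G'))
  rw [(Cx.ten_one (op.A (G.ten G'))).chi, (Cx.ten_one (op.B (G.ten G'))).chi, hloc,
    F5 _ _ (hPG.of_le (op.annA G)) (hPG'.of_le (op.annA G')),
    F5 _ _ (hPG.of_le (op.annA G)) (hPG'.of_le (op.annB G')),
    F5 _ _ (hPG.of_le (op.annB G)) (hPG'.of_le (op.annA G')),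
    F5 _ _ (hPG.of_le (op.annB G)) (hPG'.of_le (op.annB G')), ← hc] at hm1
  have h1 := op.local_formula hres hl G ⟨1, by rw [pow_one]; exact hl.le.trans hG.ideal_le⟩
  have h2 := op.local_formula hres hl' G' ⟨1, by rw [pow_one]; exact hl'.le.trans hG'.ideal_le⟩
  rw [hG.chi ℓ, hl.one] at h1
  rw [hG'.chi ℓ', hl'.one] at h2
  have h1' : (n : ℤ) * (op.A G).chi ℓ - (op.B G).chi ℓ = ((n : ℤ) - 1) * (n : ℤ) ^ l.length := by
    rw [h1]; simp
  have h2' : (n : ℤ) * (op.A G').chi ℓ' - (op.B G').chi ℓ' =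
      ((n : ℤ) - 1) * (n : ℤ) ^ l'.length := by
    rw [h2]; simp
  have key : c * (((n : ℤ) - 1) ^ 2 * ((n : ℤ) ^ (l.length + l'.length) - (n : ℤ) ^ lm.length)) = 0 := by
    have e : (n : ℤ) ^ 2 * (c * (op.A G).chi ℓ * (op.A G').chi ℓ') -
        (n : ℤ) * (c * (op.A G).chi ℓ * (op.B G').chi ℓ') -
        (n : ℤ) * (c * (op.B G).chi ℓ * (op.A G').chi ℓ') +
        c * (op.B G).chi ℓ * (op.B G').chi ℓ' =
        c * ((n : ℤ) * (op.A G).chi ℓ - (op.B G).chi ℓ) *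
        ((n : ℤ) * (op.A G').chi ℓ' - (op.B G').chi ℓ') := by ring
    rw [e, h1', h2'] at hm1
    rw [pow_add]
    linear_combination -hm1
  rcases mul_eq_zero.mp key with h | h
  · exact h
  · exfalso
    rcases mul_eq_zero.mp h with h | h
    · have : (n : ℤ) - 1 = 0 := by
        exact pow_eq_zero_iff (two_ne_zero) |>.mp h
      have hn' : (2 : ℤ) ≤ n := by exact_mod_cast hn
      omega
    · have := pow_int_inj hn (sub_eq_zero.mp h)
      rw [← hlen, ← hlen', hlm.symm, ← Nat.cast_add, Nat.cast_lt] at hd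
      omega

end Groth.Agent.Books.AdKD
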