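import Groth.Agent.S1722
import Groth.Agent.LoccohA.DExtDepth
import Groth.Agent.LoccohA.DExtFin
import Groth.Agent.Ega4B.DimFinite
import Mathlib.Order.Interval.Finset.Basic
import Mathlib.Data.Int.Interval

/-!
# The Cohen–Macaulay locus in the presence of a dualizing complex

`E^i(M) = Hom_{D(A)}(M, ω[i])`.  For `p ∈ Supp M`, `M_p` is Cohen–Macaulay iff exactly one of the
modules `E^i(M)_p` is nonzero.
-/

set_option autoImplicit false
universe u
open CategoryTheory CategoryTheory.Limits
attribute [local instance] HasDerivedCategory.standard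

namespace Groth.Agent.Books.DualCM

open Groth.Agent.LoccohA Groth.Agent.LoccohA.DExt Groth.Agent.LoccohA.DExtDim

section Setup

variable {A : Type u} [CommRing A] [IsNoetherianRing A]

/-- The data of a dimension function of a dualizing complex, in the form used by `DExtDim`. -/
theorem exists_setup {ω : Dual.D A} (hω : Dual.IsDualizing A ω) :
    (∀ (i : ℤ) (M : Type u) [AddCommGroup M] [Module A M] [Module.Finite A M],
      Module.Finite A (E ω i M)) ∧
    ∃ δ : PrimeSpectrum A → ℤ,
      (∀ (p : PrimeSpectrum A) (i : ℤ),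
        p ∈ Module.support A (E ω i (A ⧸ p.asIdeal)) ↔ i = -δ p) ∧
      (∀ p q : PrimeSpectrum A, p ⋖ q → δ p = δ q + 1) := by
  obtain ⟨δ, hδ, hcov⟩ := Groth.Agent.S1722.result A ω hω
  exact ⟨fun i M _ _ _ => DExtFin.finite_E hω i M, δ, hδ, hcov⟩

omit [IsNoetherianRing A] in
/-- The dimension function is bounded. -/
theorem exists_bounds {ω : Dual.D A} (hω : Dual.IsDualizing A ω) {δ : PrimeSpectrum A → ℤ}
    (hδ : ∀ (p : PrimeSpectrum A) (i : ℤ),
        p ∈ Module.support A (E ω i (A ⧸ p.asIdeal)) ↔ i = -δ p) :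
    ∃ a b : ℤ, (∀ (M : Type u) [AddCommGroup M] [Module A M] (i : ℤ),
      (i < a ∨ b < i) → Subsingleton (E ω i M)) ∧ ∀ p, a ≤ -δ p ∧ -δ p ≤ b := by
  obtain ⟨a, b, hab⟩ := hω.finite_injective_dimension
  refine ⟨a, b, fun M _ _ i hi => hab M i hi, fun p => ?_⟩
  have h1 : p ∈ Module.support A (E ω (-δ p) (A ⧸ p.asIdeal)) := (hδ p _).mpr rfl
  by_contra hcon
  have h2 : Subsingleton (E ω (-δ p) (A ⧸ p.asIdeal)) := hab _ _ (by omega)
  rw [Module.support_eq_empty] at h1
  exact h1

end Setup

section Dim

variable {A : Type u} [CommRing A] [IsNoetherianRing A] {δ : PrimeSpectrum A → ℤ}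
  (hcov : ∀ p q : PrimeSpectrum A, p ⋖ q → δ p = δ q + 1)

include hcov in
/-- `dim M_p ≤ m` in terms of the dimension function. -/
theorem supportDim_le_iff (p : PrimeSpectrum A) (M : Type u) [AddCommGroup M] [Module A M]
    [Module.Finite A M] (m : ℕ) :
    Module.supportDim (Localization.AtPrime p.asIdeal)
      (LocalizedModule p.asIdeal.primeCompl M) ≤ (m : WithBot ℕ∞) ↔
    ∀ q ∈ Module.support A M, q ≤ p → δ q ≤ δ p + m := by
  rw [Ega4B.DimFinite.supportDim_atPrime_eq]
  constructor
  · intro h q hq hqp
    obtain ⟨s, hs1, hs2, hs3⟩ := DimFun.exists_ltSeries hcov hqp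
    let t : LTSeries {q : PrimeSpectrum A // q ∈ Module.support A M ∧ q ≤ ⟨p.asIdeal, p.2⟩} :=
      { length := s.length
        toFun := fun i => ⟨s i, by
          have h1 : q ≤ s i := by rw [← hs1]; exact s.monotone (Fin.zero_le i)
          have h2 : s i ≤ p := by rw [← hs2]; exact s.monotone (Fin.le_last i)
          exact ⟨Module.mem_support_mono h1 hq, h2⟩⟩
        step := fun i => s.step i }
    have h3 : (s.length : WithBot ℕ∞) ≤ m := (Order.LTSeries.length_le_krullDim t).trans h
    have h4 : s.length ≤ m := by exact_mod_cast h3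
    omega
  · intro h
    refine iSup_le fun l => ?_
    have h1 := DimFun.length_le hcov (l.map (fun x => (x : PrimeSpectrum A)) (fun _ _ h => h))
    have h2 := DimFun.le_of_le hcov (show (l.last : PrimeSpectrum A) ≤ p from l.last.2.2)
    have h3 := h l.head l.head.2.1 l.head.2.2
    simp only [LTSeries.map_length, LTSeries.head_map, LTSeries.last_map] at h1
    have : l.length ≤ m := by omega
    exact_mod_cast this

include hcov in
/-- There is a prime `q ≤ p`, minimal in the support, computing the dimension. -/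
theorem exists_dim (p : PrimeSpectrum A) (M : Type u) [AddCommGroup M] [Module A M]
    [Module.Finite A M] (hp : p ∈ Module.support A M) : ∃ (m : ℕ) (q : PrimeSpectrum A),
      Module.supportDim (Localization.AtPrime p.asIdeal)
        (LocalizedModule p.asIdeal.primeCompl M) = (m : WithBot ℕ∞) ∧
      q ∈ Module.support A M ∧ q ≤ p ∧ δ q = δ p + m ∧ q.asIdeal ∈ associatedPrimes A M ∧
      ∀ q' ∈ Module.support A M, q' ≤ p → δ q' ≤ δ q := by
  classical
  -- the height of p bounds the lengths
  obtain ⟨n, hn⟩ : ∃ n : ℕ, p.asIdeal.height = n :=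
    ENat.ne_top_iff_exists.mp (Ideal.height_ne_top p.2.ne_top) |>.imp fun _ h => h.symm
  have hbd : ∀ q ∈ Module.support A M, q ≤ p → δ q ≤ δ p + n := by
    intro q hq hqp
    obtain ⟨s, hs1, hs2, hs3⟩ := DimFun.exists_ltSeries hcov hqp
    have h1 : (s.length : ℕ∞) ≤ p.asIdeal.height := by
      rw [PrimeSpectrum.height_eq_orderHeight]
      exact Order.length_le_height (by rw [hs2])
    rw [hn] at h1
    have : s.length ≤ n := by exact_mod_cast h1
    omega
  -- take the least such bound
  have hex : ∃ m : ℕ, ∀ q ∈ Module.support A M, q ≤ p → δ q ≤ δ p + m := ⟨n, hbd⟩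
  obtain ⟨q, hq, hqp, hqδ⟩ : ∃ q ∈ Module.support A M, q ≤ p ∧ δ q = δ p + (Nat.find hex : ℕ) := by
    by_contra hcon
    push Not at hcon
    have h1 := Nat.find_spec hex
    rcases Nat.eq_zero_or_pos (Nat.find hex) with h0 | hpos
    · have := hcon p hp le_rfl
      rw [h0] at this
      simp at this
    · refine Nat.find_min hex (m := Nat.find hex - 1) (by omega) fun q hq hqp => ?_
      have h2 := h1 q hq hqp
      have h3 := hcon q hq hqp
      omega
  refine ⟨Nat.find hex, q, le_antisymm ?_ ?_, hq, hqp, hqδ, ?_, ?_⟩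
  · rw [supportDim_le_iff hcov]
    exact Nat.find_spec hex
  · by_contra hlt
    rw [not_le] at hlt
    rcases Nat.eq_zero_or_pos (Nat.find hex) with h0 | hpos
    · rw [h0] at hlt
      have hnt : Nontrivial (LocalizedModule p.asIdeal.primeCompl M) := hp
      have h1 : 0 ≤ Module.supportDim (Localization.AtPrime p.asIdeal)
        (LocalizedModule p.asIdeal.primeCompl M) := by
        have : Module.supportDim (Localization.AtPrime p.asIdeal)
          (LocalizedModule p.asIdeal.primeCompl M) ≠ ⊥ := Module.supportDim_ne_bot_of_nontrivial _ _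
        obtain ⟨x, hx⟩ := WithBot.ne_bot_iff_exists.mp this
        rw [← hx]
        exact_mod_cast (zero_le : 0 ≤ x)
      exact absurd (lt_of_le_of_lt h1 hlt) (by simp)
    · have h2 : Module.supportDim (Localization.AtPrime p.asIdeal)
        (LocalizedModule p.asIdeal.primeCompl M) ≤ ((Nat.find hex - 1 : ℕ) : WithBot ℕ∞) := by
        revert hlt
        generalize Module.supportDim (Localization.AtPrime p.asIdeal)
          (LocalizedModule p.asIdeal.primeCompl M) = x
        intro hlt
        induction x with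
        | bot => exact bot_le
        | coe x =>
          have h3 : x < ((Nat.find hex : ℕ) : ℕ∞) := by exact_mod_cast hlt
          obtain ⟨y, rfl⟩ := ENat.ne_top_iff_exists.mp (ne_top_of_lt h3)
          have h4 : y < Nat.find hex := by exact_mod_cast h3
          have h5 : y ≤ Nat.find hex - 1 := by omega
          have h6 : (y : ℕ∞) ≤ ((Nat.find hex - 1 : ℕ) : ℕ∞) := Nat.cast_le.mpr h5
          exact WithBot.coe_le_coe.mpr h6
      rw [supportDim_le_iff hcov] at h2
      exact Nat.find_min hex (by omega) h2
  · -- q is minimal in the support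
    have hmin : ∀ q' ∈ Module.support A M, q' ≤ q → q' = q := by
      intro q' hq' hle
      by_contra hne
      have h1 := DimFun.lt_of_lt hcov (lt_of_le_of_ne hle hne)
      have h2 := Nat.find_spec hex q' hq' (hle.trans hqp)
      omega
    apply Module.associatedPrimes.minimalPrimes_annihilator_subset_associatedPrimes A M
    rw [Module.support_eq_zeroLocus] at hq
    refine ⟨⟨q.2, hq⟩, fun J hJ hJq => ?_⟩
    have := hmin ⟨J, hJ.1⟩ (by rw [Module.support_eq_zeroLocus]; exact hJ.2) hJq
    rw [← this]
  · intro q' hq' hq'p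
    rw [hqδ]
    exact Nat.find_spec hex q' hq' hq'p

end Dim

section CM

variable {A : Type u} [CommRing A] [IsNoetherianRing A] (ω : Dual.D A)
  (hfin : ∀ (i : ℤ) (M : Type u) [AddCommGroup M] [Module A M] [Module.Finite A M],
    Module.Finite A (E ω i M))
  {δ : PrimeSpectrum A → ℤ}
  (hδ : ∀ (p : PrimeSpectrum A) (i : ℤ),
    p ∈ Module.support A (E ω i (A ⧸ p.asIdeal)) ↔ i = -δ p)
  (hcov : ∀ p q : PrimeSpectrum A, p ⋖ q → δ p = δ q + 1)

include hfin hδ hcov in
/-- the dimension and depth of `M_p` are both visible among the `E^i(M)_p`. -/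
theorem isCohenMacaulayModule_iff (p : PrimeSpectrum A) (M : Type u) [AddCommGroup M] [Module A M]
    [Module.Finite A M] (hp : p ∈ Module.support A M) :
    LocCoh.IsCohenMacaulayModule (Localization.AtPrime p.asIdeal)
      (LocalizedModule p.asIdeal.primeCompl M) ↔
    ∀ i j : ℤ, p ∈ Module.support A (E ω i M) → p ∈ Module.support A (E ω j M) → i = j := by
  obtain ⟨m, q, hm, hq, hqp, hqδ, hass, hmax⟩ := exists_dim hcov p M hp
  have key := DExtDepth.natCast_le_depth_iff ω hfin hδ p M
  have hmemq : p ∈ Module.support A (E ω (-δ q) M) :=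
    Module.mem_support_mono hqp (mem_of_mem_associatedPrimes ω hfin hδ q M hass)
  have hdepth : LocCoh.depth (Localization.AtPrime p.asIdeal)
      (LocalizedModule p.asIdeal.primeCompl M) ≤ (m : ℕ∞) := by
    have h1 : ¬ (((m + 1 : ℕ) : ℕ∞) ≤ LocCoh.depth (Localization.AtPrime p.asIdeal)
        (LocalizedModule p.asIdeal.primeCompl M)) := by
      rw [key]
      intro h
      refine h m (by omega) ?_
      have : -δ p - (m : ℤ) = -δ q := by omega
      rwa [this]
    rw [not_le] at h1
    exact ENat.lt_natCast_add_one_iff.mp (by exact_mod_cast h1)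
  unfold LocCoh.IsCohenMacaulayModule
  rw [hm]
  constructor
  · intro hCM
    have h1 : ((m : ℕ) : ℕ∞) ≤ LocCoh.depth (Localization.AtPrime p.asIdeal)
        (LocalizedModule p.asIdeal.primeCompl M) := by
      exact WithBot.coe_le_coe.mp hCM.le
    rw [key] at h1
    suffices H : ∀ i : ℤ, p ∈ Module.support A (E ω i M) → i = -δ q by
      intro i j hi hj
      rw [H i hi, H j hj]
    intro i hi
    obtain ⟨q', hq', hq'p, hle⟩ := exists_le_of_mem ω hfin hδ hcov p M i hi
    have h2 := hmax q' hq' hq'p
    have h3 : i ≤ -δ p := by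
      by_contra hlt
      exact notMem_of_gt ω hfin hδ p M i (by omega) hi
    obtain ⟨d, hd⟩ : ∃ d : ℕ, i = -δ p - d := ⟨(-δ p - i).toNat, by omega⟩
    have h4 : ¬ d < m := fun hdm => h1 d hdm (hd ▸ hi)
    omega
  · intro h
    have h1 : ((m : ℕ) : ℕ∞) ≤ LocCoh.depth (Localization.AtPrime p.asIdeal)
        (LocalizedModule p.asIdeal.primeCompl M) := by
      rw [key]
      intro d hd hmem
      have := h _ _ hmem hmemq
      omega
    have h2 := le_antisymm h1 hdepth
    rw [← h2]
    rfl

include hfin hδ hcov in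
/-- For a prime `q` minimal in the support of `M`, only `E^{-δ q}(M)_q` is nonzero. -/
theorem eq_of_minimal (q : PrimeSpectrum A) (M : Type u) [AddCommGroup M] [Module A M]
    [Module.Finite A M] (hmin : ∀ q' ∈ Module.support A M, q' ≤ q → q' = q) (i : ℤ)
    (hi : q ∈ Module.support A (E ω i M)) : i = -δ q := by
  obtain ⟨q', hq', hq'p, hle⟩ := exists_le_of_mem ω hfin hδ hcov q M i hi
  rw [hmin q' hq' hq'p] at hle
  have h3 : i ≤ -δ q := by
    by_contra hlt
    exact notMem_of_gt ω hfin hδ q M i (by omega) hi
  omega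

end CM

section Locus

variable {A : Type u} [CommRing A] [IsNoetherianRing A]

/-- The Cohen–Macaulay locus of a finite module is open. -/
theorem isOpen_cohenMacaulay {ω : Dual.D A} (hω : Dual.IsDualizing A ω) (M : Type u)
    [AddCommGroup M] [Module A M] [Module.Finite A M] :
    IsOpen {p : PrimeSpectrum A | Subsingleton (LocalizedModule p.asIdeal.primeCompl M) ∨
      LocCoh.IsCohenMacaulayModule (Localization.AtPrime p.asIdeal)
        (LocalizedModule p.asIdeal.primeCompl M)} := by
  obtain ⟨hfin, δ, hδ, hcov⟩ := exists_setup hω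
  obtain ⟨a, b, hab, -⟩ := exists_bounds hω hδ
  have hset : {p : PrimeSpectrum A | Subsingleton (LocalizedModule p.asIdeal.primeCompl M) ∨
      LocCoh.IsCohenMacaulayModule (Localization.AtPrime p.asIdeal)
        (LocalizedModule p.asIdeal.primeCompl M)} =
      (⋃ i ∈ Set.Icc a b, ⋃ j ∈ Set.Icc a b \ {i},
        Module.support A (E ω i M) ∩ Module.support A (E ω j M))ᶜ := by
    ext p
    simp only [Set.mem_ofPred_eq, Set.mem_compl_iff, Set.mem_iUnion, not_exists]
    by_cases hp : p ∈ Module.support A M
    · have hnt : ¬ Subsingleton (LocalizedModule p.asIdeal.primeCompl M) := by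
        rw [not_subsingleton_iff_nontrivial]; exact hp
      rw [or_iff_right hnt, isCohenMacaulayModule_iff ω hfin hδ hcov p M hp]
      constructor
      · rintro h i - j hj ⟨h1, h2⟩
        exact hj.2 (h i j h1 h2).symm
      · intro h i j hi hj
        by_contra hne
        have hmem : ∀ i : ℤ, p ∈ Module.support A (E ω i M) → i ∈ Set.Icc a b := by
          intro i hi
          by_contra hcon
          have h2 : Subsingleton (E ω i M) := hab _ _ (by
            rw [Set.mem_Icc, not_and_or, not_le, not_le] at hcon; exact hcon)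
          rw [Module.support_eq_empty] at hi
          exact hi
        exact h i (hmem i hi) j ⟨hmem j hj, fun h => hne h.symm⟩ ⟨hi, hj⟩
    · have hs : Subsingleton (LocalizedModule p.asIdeal.primeCompl M) :=
        Module.notMem_support_iff.mp hp
      refine ⟨fun _ i _ j _ h => hp (DExtSupp.support_subset ω _ h.1), fun _ => Or.inl hs⟩
  rw [hset, isOpen_compl_iff]
  refine Set.Finite.isClosed_biUnion (Set.finite_Icc a b) fun i _ =>
    Set.Finite.isClosed_biUnion ((Set.finite_Icc a b).subset Set.sdiff_subset) fun j _ => ?_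
  have h1 := hfin i M
  have h2 := hfin j M
  exact Module.isClosed_support.inter Module.isClosed_support

/-- The Cohen–Macaulay locus of a finite module is dense in its support. -/
theorem support_subset_closure {ω : Dual.D A} (hω : Dual.IsDualizing A ω) (M : Type u)
    [AddCommGroup M] [Module A M] [Module.Finite A M] :
    Module.support A M ⊆ closure ({p : PrimeSpectrum A |
      LocCoh.IsCohenMacaulayModule (Localization.AtPrime p.asIdeal)
        (LocalizedModule p.asIdeal.primeCompl M)} ∩ Module.support A M) := by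
  obtain ⟨hfin, δ, hδ, hcov⟩ := exists_setup hω
  intro p hp
  obtain ⟨m, q, hm, hq, hqp, hqδ, hass, hmax⟩ := exists_dim hcov p M hp
  have hmin : ∀ q' ∈ Module.support A M, q' ≤ q → q' = q := by
    intro q' hq' hle
    by_contra hne
    have h1 := DimFun.lt_of_lt hcov (lt_of_le_of_ne hle hne)
    have h2 := hmax q' hq' (hle.trans hqp)
    omega
  have hCM : q ∈ ({p : PrimeSpectrum A |
      LocCoh.IsCohenMacaulayModule (Localization.AtPrime p.asIdeal)
        (LocalizedModule p.asIdeal.primeCompl M)} ∩ Module.support A M) := by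
    refine ⟨?_, hq⟩
    rw [Set.mem_ofPred_eq, isCohenMacaulayModule_iff ω hfin hδ hcov q M hq]
    intro i j hi hj
    rw [eq_of_minimal ω hfin hδ hcov q M hmin i hi, eq_of_minimal ω hfin hδ hcov q M hmin j hj]
  have h1 : p ∈ closure {q} := by
    rw [← PrimeSpectrum.le_iff_mem_closure]
    exact hqp
  exact closure_mono (Set.singleton_subset_iff.mpr hCM) h1

end Locus

end Groth.Agent.Books.DualCM
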