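import Groth.Agent.Books.DualCM
import Groth.Agent.LoccohA.EquidimS2
import Groth.Agent.Ega4B.DepthBasic

/-!
# Consequences: Cohen–Macaulay local rings, the ring itself, minimal primes, normalized complexes
-/

set_option autoImplicit false
set_option linter.unusedSectionVars false
universe u
open CategoryTheory CategoryTheory.Limits
attribute [local instance] HasDerivedCategory.standard

namespace Groth.Agent.Books.DualCM2

open Groth.Agent.LoccohA Groth.Agent.LoccohA.DExt Groth.Agent.LoccohA.DExtDim
open Groth.Agent.Books.DualCM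

variable {A : Type u} [CommRing A] [IsNoetherianRing A]

theorem isCohenMacaulayLocalRing_iff (p : Ideal A) [p.IsPrime] :
    LocCoh.IsCohenMacaulayLocalRing (Localization.AtPrime p) ↔
      LocCoh.IsCohenMacaulayModule (Localization.AtPrime p)
        (LocalizedModule p.primeCompl A) := by
  have h1 : Module.supportDim (Localization.AtPrime p) (LocalizedModule p.primeCompl A) =
      Module.supportDim (Localization.AtPrime p) (Localization.AtPrime p) :=
    Module.supportDim_eq_of_equiv (EquidimS2.localizedModuleSelfEquiv p.primeCompl)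
  have h2 : LocCoh.depth (Localization.AtPrime p) (LocalizedModule p.primeCompl A) =
      LocCoh.depth (Localization.AtPrime p) (Localization.AtPrime p) :=
    Groth.Agent.Ega4B.DepthBasic.depth_congr (EquidimS2.localizedModuleSelfEquiv p.primeCompl)
  have hN : IsNoetherianRing (Localization.AtPrime p) :=
    IsLocalization.isNoetherianRing p.primeCompl _ inferInstance
  unfold LocCoh.IsCohenMacaulayModule
  rw [h1, h2]
  exact ⟨fun h => h.supportDim_eq_depth, fun h => { supportDim_eq_depth := h }⟩

/-- `p ∈ Supp H^i(ω)` iff `p ∈ Supp E^i(A)`. -/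
theorem mem_support_HD_iff (ω : Dual.D A) (p : PrimeSpectrum A) (i : ℤ) :
    p ∈ Module.support A (Dual.HD A ω i) ↔ p ∈ Module.support A (E ω i A) := by
  rw [LinearEquiv.support_eq (DzHomology.homA ω i)]

theorem mem_support_self (p : PrimeSpectrum A) : p ∈ Module.support A A := by
  rw [Module.support_eq_zeroLocus, PrimeSpectrum.mem_zeroLocus]
  intro x hx
  have h1 : x ∈ Module.annihilator A A := hx
  rw [Module.mem_annihilator] at h1
  have h2 := h1 1
  rw [smul_eq_mul, mul_one] at h2
  rw [h2]
  exact p.asIdeal.zero_mem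

/-- A local ring of a ring with dualizing complex is Cohen–Macaulay iff the cohomology of the
dualizing complex is concentrated in one degree at that point. -/
theorem isCohenMacaulayLocalRing_iff_HD {ω : Dual.D A} (hω : Dual.IsDualizing A ω)
    (p : PrimeSpectrum A) : LocCoh.IsCohenMacaulayLocalRing (Localization.AtPrime p.asIdeal) ↔
      ∀ i j : ℤ, p ∈ Module.support A (Dual.HD A ω i) → p ∈ Module.support A (Dual.HD A ω j) →
        i = j := by
  obtain ⟨hfin, δ, hδ, hcov⟩ := exists_setup hω
  rw [isCohenMacaulayLocalRing_iff,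
    isCohenMacaulayModule_iff ω hfin hδ hcov p A (mem_support_self p)]
  simp only [mem_support_HD_iff]

/-- At a minimal prime the cohomology of `ω` sits in degree `-δ p` exactly. -/
theorem mem_support_HD_iff_of_minimal (ω : Dual.D A)
    (hfin : ∀ (i : ℤ) (M : Type u) [AddCommGroup M] [Module A M] [Module.Finite A M],
      Module.Finite A (E ω i M))
    {δ : PrimeSpectrum A → ℤ}
    (hδ : ∀ (p : PrimeSpectrum A) (i : ℤ),
      p ∈ Module.support A (E ω i (A ⧸ p.asIdeal)) ↔ i = -δ p)
    (hcov : ∀ p q : PrimeSpectrum A, p ⋖ q → δ p = δ q + 1)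
    (p : PrimeSpectrum A) (hp : p.asIdeal ∈ minimalPrimes A) (i : ℤ) :
    p ∈ Module.support A (Dual.HD A ω i) ↔ i = -δ p := by
  rw [mem_support_HD_iff]
  constructor
  · intro hi
    refine eq_of_minimal ω hfin hδ hcov p A (fun q' _ hle => ?_) i hi
    exact le_antisymm hle (hp.2 ⟨q'.2, bot_le⟩ hle)
  · rintro rfl
    refine mem_of_mem_associatedPrimes ω hfin hδ p A ?_
    apply Module.associatedPrimes.minimalPrimes_annihilator_subset_associatedPrimes A A
    have hann : Module.annihilator A A = ⊥ := by
      rw [eq_bot_iff]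
      intro x hx
      rw [Module.mem_annihilator] at hx
      have h2 := hx 1
      rw [smul_eq_mul, mul_one] at h2
      exact h2
    rw [hann]
    exact hp

/-- For a normalized dualizing complex, `δ` vanishes at the closed point. -/
theorem delta_closedPoint [IsLocalRing A] {ω : Dual.D A} (hn : Dual.IsNormalized A ω)
    {δ : PrimeSpectrum A → ℤ}
    (hδ : ∀ (p : PrimeSpectrum A) (i : ℤ),
      p ∈ Module.support A (E ω i (A ⧸ p.asIdeal)) ↔ i = -δ p) :
    δ (IsLocalRing.closedPoint A) = 0 := by
  by_contra hne
  have h1 : IsLocalRing.closedPoint A ∈ Module.support A (DExt.E ω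
    (-δ (IsLocalRing.closedPoint A)) (A ⧸ (IsLocalRing.closedPoint A).asIdeal)) :=
    (hδ _ _).mpr rfl
  have h2 : Subsingleton (DExt.E ω
    (-δ (IsLocalRing.closedPoint A)) (A ⧸ (IsLocalRing.closedPoint A).asIdeal)) :=
    hn _ (by omega)
  rw [Module.support_eq_empty] at h1
  exact h1

end Groth.Agent.Books.DualCM2
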