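import Groth.Agent.Books.GorCyclic
import Groth.Agent.LoccohB.HomBC2
import Groth.Agent.LoccohB.DCalc
import Groth.Agent.LoccohB.DualShift
import Groth.Agent.LoccohB.FlatDual
import Groth.Agent.Localalg.DGor
import Groth.Agent.S0341
import Groth.Agent.S0364
import Groth.Agent.S0365

/-!
# Gorenstein local rings and dualizing complexes

For a Noetherian local ring `R` with dualizing complex `ω`: `R` is Gorenstein iff `ω` has exactly
one cohomology module and this module is isomorphic to `R`.
-/

set_option autoImplicit false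
universe u

open CategoryTheory CategoryTheory.Limits

attribute [local instance] HasDerivedCategory.standard

namespace Groth.Agent.Books.DualGor

open DerivedCategory Groth.Agent.LoccohB Groth.Agent.LoccohB.HomBC

section General

variable {R : Type u} [CommRing R]

/-- If the cohomology of `K` is concentrated in degree `n`, then `K[n] ≅ H^n(K)[0]`. -/
theorem exists_iso_of_subsingleton (K : Dual.D R) (n : ℤ)
    (h : ∀ i, i ≠ n → Subsingleton (Dual.HD R K i)) :
    Nonempty (K⟦n⟧ ≅ Dual.inD R (Dual.HD R K n)) := by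
  have h1 : K.IsGE n := by
    rw [isGE_iff]
    intro i hi
    rw [isZero_homology_iff]
    exact h i hi.ne
  have h2 : K.IsLE n := by
    rw [isLE_iff]
    intro i hi
    rw [isZero_homology_iff]
    exact h i hi.ne'
  obtain ⟨f⟩ := DCalc.exists_iso_single K n
  exact ⟨(shiftFunctor _ n).mapIso f ≪≫
    ((singleFunctors (ModuleCat.{u} R)).shiftIso n 0 n (by simp)).app _⟩

/-- `R[0]` dualizing implies finite injective dimension. -/
theorem exists_hasInjectiveDimensionLT (h : Dual.IsDualizing R (Dual.inD R R)) :
    ∃ n : ℕ, HasInjectiveDimensionLT (ModuleCat.of R R) n := by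
  obtain ⟨a, b, hab⟩ := h.finite_injective_dimension
  refine ⟨(b + 1).toNat, HasInjectiveDimensionLT.mk fun i hi Y e => ?_⟩
  have h8 : Subsingleton (Dual.inD R Y ⟶ (Dual.inD R R)⟦(i : ℤ)⟧) := hab Y i (by omega)
  have h9 := (Localalg.DGor.subsingleton_hom_iff R Y R i).1 h8
  exact Subsingleton.elim _ _

/-- The annihilator of a dualizing module is zero. -/
theorem eq_zero_of_smul_eq_zero (W : Type u) [AddCommGroup W] [Module R W]
    (h : Dual.IsDualizing R (Dual.inD R W)) (a : R) (ha : ∀ w : W, a • w = 0) : a = 0 := by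
  apply h.toEnd_bijective.1
  have h1 : a • (𝟙 (ModuleCat.of R W)) = 0 := by
    ext w
    exact ha w
  have h2 : a • (𝟙 (Dual.inD R W)) = 0 := by
    have h3 := congrArg (fun f => (singleFunctor (ModuleCat.{u} R) 0).map f) h1
    simp only [Functor.map_smul, CategoryTheory.Functor.map_id, Functor.map_zero] at h3
    exact h3
  simp only [h2, zero_smul]

/-- One direction: if `ω` is concentrated in degree `n` with `H^n(ω) ≃ R`, then `R` has finite
injective dimension over itself. -/
theorem exists_hasInjectiveDimensionLT_of_equiv {ω : Dual.D R} (hω : Dual.IsDualizing R ω) (n : ℤ)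
    (h : ∀ i, i ≠ n → Subsingleton (Dual.HD R ω i)) (e : Dual.HD R ω n ≃ₗ[R] R) :
    ∃ n : ℕ, HasInjectiveDimensionLT (ModuleCat.of R R) n := by
  obtain ⟨f⟩ := exists_iso_of_subsingleton ω n h
  have h1 := DualShift.isDualizing_shift ω hω n
  exact exists_hasInjectiveDimensionLT (DualShift.isDualizing_of_iso
    (f ≪≫ (singleFunctor (ModuleCat.{u} R) 0).mapIso e.toModuleIso) h1)

end General

section Local

variable {R : Type u} [CommRing R] [LocCoh.IsGorensteinLocalRing R]

/-- Over a Gorenstein local ring, a dualizing complex with only one cohomology module `W` has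
`W ≃ R`. -/
theorem exists_generator {ω : Dual.D R} (hω : Dual.IsDualizing R ω) (n : ℤ)
    (h : ∀ i, i ≠ n → Subsingleton (Dual.HD R ω i)) :
    ∃ w : Dual.HD R ω n, Function.Bijective (LinearMap.toSpanSingleton R (Dual.HD R ω n) w) := by
  obtain ⟨f⟩ := exists_iso_of_subsingleton ω n h
  have hW : Dual.IsDualizing R (Dual.inD R (Dual.HD R ω n)) :=
    DualShift.isDualizing_of_iso f (DualShift.isDualizing_shift ω hω n)
  have hfinW : Module.Finite R (Dual.HD R ω n) := hω.finite_cohomology n
  obtain ⟨s, hs, ⟨es⟩⟩ := Groth.Agent.S0364.result R (Dual.inD R (Dual.HD R ω n)) hW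
    (IsLocalRing.maximalIdeal R)
  set W := Dual.HD R ω n with hWdef
  -- the normalized shift
  have hn := DualShift.isNormalized_shift (Dual.inD R W) s hs
  have hd := DualShift.isDualizing_shift (Dual.inD R W) hW s
  obtain ⟨d, hdim⟩ := Groth.Agent.CalgA.RegBasic.ringKrullDim_eq_natCast R
  have hCM := Groth.Agent.S0341.result R
  have hdepth : LocCoh.depth R R = d := by
    have h1 := hCM.supportDim_eq_depth
    rw [Module.supportDim_self_eq_ringKrullDim, hdim] at h1
    exact (WithBot.coe_injective h1).symm
  have h2 := ((Groth.Agent.S0365.result R _ hd hn d).mp hdepth).2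
  have hsd : s = d := by
    by_contra hne
    have h3 : Subsingleton (Dual.HD R ((Dual.inD R W)⟦s⟧) (-(d : ℤ))) := by
      have h4 : Subsingleton (Dual.HD R (Dual.inD R W) (s + -(d : ℤ))) := by
        have hne' : s + -(d : ℤ) ≠ 0 := by omega
        apply ModuleCat.subsingleton_of_isZero
        rcases lt_or_gt_of_ne hne' with hlt | hgt
        · exact DerivedCategory.isZero_of_isGE _ 0 _ hlt
        · exact DerivedCategory.isZero_of_isLE _ 0 _ hgt
      exact (DualShift.shiftHD (Dual.inD R W) s (-(d : ℤ)) (s + -(d : ℤ)) rfl).toLinearEquiv.toEquiv.subsingleton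
    exact not_subsingleton_iff_nontrivial.mpr h2 h3
  subst hsd
  obtain ⟨w, hw⟩ := GorCyclic.exists_generator d R hdim W (fun i hi => by
    rw [← Localalg.DGor.subsingleton_hom_iff]
    exact hs i (by exact_mod_cast hi)) (by
    let e1 := (Localalg.DGor.extEquiv R (IsLocalRing.ResidueField R) W d).trans es
    refine ⟨e1.symm 1, fun y => ?_⟩
    obtain ⟨a, ha⟩ := Ideal.Quotient.mk_surjective (e1 y)
    refine ⟨a, ?_⟩
    apply e1.injective
    rw [map_smul, LinearEquiv.apply_symm_apply, ← ha, Algebra.smul_def, mul_one]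
    rfl)
  refine ⟨w, ?_, ?_⟩
  · rw [← LinearMap.ker_eq_bot, eq_bot_iff]
    intro a ha
    rw [LinearMap.mem_ker, LinearMap.toSpanSingleton_apply] at ha
    refine eq_zero_of_smul_eq_zero W hW a (fun v => ?_)
    have hv : v ∈ Submodule.span R {w} := by rw [hw]; trivial
    obtain ⟨b, rfl⟩ := Submodule.mem_span_singleton.mp hv
    rw [smul_comm, ha, smul_zero]
  · intro v
    have hv : v ∈ Submodule.span R {w} := by rw [hw]; trivial
    obtain ⟨b, rfl⟩ := Submodule.mem_span_singleton.mp hv
    exact ⟨b, rfl⟩

end Local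

end Groth.Agent.Books.DualGor
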