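import Groth.Agent.Books.DualGor
import Groth.Agent.Books.DualCM2

/-!
# The Gorenstein locus in the presence of a dualizing complex is open
-/

set_option autoImplicit false
universe u

open CategoryTheory CategoryTheory.Limits

attribute [local instance] HasDerivedCategory.standard

namespace Groth.Agent.Books.DualGorLocus

open DerivedCategory Groth.Agent.LoccohB Groth.Agent.LoccohB.HomBC Groth.Agent.Books.DualGor

section Span

variable {A : Type u} [CommRing A] (p : PrimeSpectrum A) {W : Type u} [AddCommGroup W] [Module A W]

theorem smul_mk (a : A) (s : p.asIdeal.primeCompl) (w : W) :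
    (Localization.mk a s : Localization.AtPrime p.asIdeal) •
      (LocalizedModule.mk w 1 : LocalizedModule p.asIdeal.primeCompl W) =
      LocalizedModule.mk (a • w) s := by
  have h := LocalizedModule.mk_smul_mk (S := p.asIdeal.primeCompl) a w s 1
  rw [mul_one] at h
  exact h

/-- `w` generates `W_p` freely iff kernel and cokernel of `A → W` vanish at `p`. -/
theorem bijective_toSpanSingleton_iff (w : W) :
    Function.Bijective (LinearMap.toSpanSingleton (Localization.AtPrime p.asIdeal)
      (LocalizedModule p.asIdeal.primeCompl W) (LocalizedModule.mk w 1)) ↔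
    p ∉ Module.support A (LinearMap.ker (LinearMap.toSpanSingleton A W w)) ∧
      p ∉ Module.support A (W ⧸ LinearMap.range (LinearMap.toSpanSingleton A W w)) := by
  rw [Module.notMem_support_iff', Module.notMem_support_iff']
  constructor
  · rintro ⟨hinj, hsurj⟩
    constructor
    · rintro ⟨a, ha⟩
      rw [LinearMap.mem_ker, LinearMap.toSpanSingleton_apply] at ha
      have h1 : algebraMap A (Localization.AtPrime p.asIdeal) a = 0 := by
        apply hinj
        rw [LinearMap.toSpanSingleton_apply, map_zero, algebraMap_smul, LocalizedModule.smul'_mk,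
          ha, LocalizedModule.zero_mk]
      obtain ⟨t, ht⟩ := (IsLocalization.map_eq_zero_iff p.asIdeal.primeCompl
        (Localization.AtPrime p.asIdeal) a).mp h1
      exact ⟨t, t.2, Subtype.ext ht⟩
    · intro m
      obtain ⟨u, rfl⟩ := Submodule.mkQ_surjective _ m
      obtain ⟨r, hr⟩ := hsurj (LocalizedModule.mk u 1)
      obtain ⟨⟨a, s⟩, rfl⟩ : ∃ x : A × p.asIdeal.primeCompl, Localization.mk x.1 x.2 = r :=
        Localization.induction_on r fun x => ⟨x, rfl⟩
      rw [LinearMap.toSpanSingleton_apply, smul_mk, LocalizedModule.mk_eq] at hr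
      obtain ⟨t, ht⟩ := hr
      refine ⟨t * s, p.asIdeal.primeCompl.mul_mem t.2 s.2, ?_⟩
      rw [← map_smul, Submodule.mkQ_apply, Submodule.Quotient.mk_eq_zero]
      refine ⟨t * a, ?_⟩
      rw [LinearMap.toSpanSingleton_apply]
      simp only [one_smul, Submonoid.smul_def] at ht
      rw [mul_smul, mul_smul, ht]
  · rintro ⟨hker, hcok⟩
    constructor
    · rw [← LinearMap.ker_eq_bot, eq_bot_iff]
      intro r hr
      obtain ⟨⟨a, s⟩, rfl⟩ : ∃ x : A × p.asIdeal.primeCompl, Localization.mk x.1 x.2 = r :=
        Localization.induction_on r fun x => ⟨x, rfl⟩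
      rw [LinearMap.mem_ker, LinearMap.toSpanSingleton_apply, smul_mk,
        ← LocalizedModule.zero_mk 1, LocalizedModule.mk_eq] at hr
      obtain ⟨t, ht⟩ := hr
      simp only [one_smul, Submonoid.smul_def, smul_zero] at ht
      obtain ⟨c, hc, hc'⟩ := hker ⟨t * a, by
        rw [LinearMap.mem_ker, LinearMap.toSpanSingleton_apply, mul_smul]; exact ht⟩
      have hc'' : c * (t * a) = 0 := congrArg Subtype.val hc'
      rw [Submodule.mem_bot, Localization.mk_eq_mk', IsLocalization.mk'_eq_zero_iff]
      refine ⟨⟨c, hc⟩ * t, ?_⟩
      rw [Submonoid.coe_mul, mul_assoc]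
      exact hc''
    · intro y
      induction y using LocalizedModule.induction_on with
      | _ u s =>
        obtain ⟨r, hr, hr'⟩ := hcok (Submodule.mkQ _ u)
        rw [← map_smul, Submodule.mkQ_apply, Submodule.Quotient.mk_eq_zero] at hr'
        obtain ⟨a, ha⟩ := hr'
        rw [LinearMap.toSpanSingleton_apply] at ha
        let r' : p.asIdeal.primeCompl := ⟨r, hr⟩
        have hr2 : (r' : A) = r := rfl
        refine ⟨Localization.mk a (r' * s), ?_⟩
        rw [LinearMap.toSpanSingleton_apply, smul_mk, ha, ← hr2, LocalizedModule.mk_eq]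
        refine ⟨1, ?_⟩
        simp only [one_smul, Submonoid.smul_def, Submonoid.coe_mul]
        rw [smul_smul, mul_comm]

end Span

section Locus

variable {A : Type u} [CommRing A] [IsNoetherianRing A]

/-- The localization of a dualizing complex at a prime, with its cohomology. -/
theorem exists_localized {ω : Dual.D A} (hω : Dual.IsDualizing A ω) (p : PrimeSpectrum A) :
    ∃ ωp : Dual.D (Localization.AtPrime p.asIdeal),
      Dual.IsDualizing (Localization.AtPrime p.asIdeal) ωp ∧
      ∀ i : ℤ, Nonempty (LocalizedModule p.asIdeal.primeCompl (Dual.HD A ω i)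
        ≃ₗ[Localization.AtPrime p.asIdeal] Dual.HD (Localization.AtPrime p.asIdeal) ωp i) := by
  have hflat : Module.Flat A (Localization.AtPrime p.asIdeal) :=
    IsLocalization.flat _ p.asIdeal.primeCompl
  have h : (algebraMap A (Localization.AtPrime p.asIdeal)).Flat :=
    (RingHom.flat_algebraMap_iff).2 hflat
  have hN : IsNoetherianRing (Localization.AtPrime p.asIdeal) :=
    IsLocalization.isNoetherianRing p.asIdeal.primeCompl _ inferInstance
  refine ⟨(FlatLBC.flatBC (algebraMap A (Localization.AtPrime p.asIdeal)) h).obj ω,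
    FlatDual.isDualizing_flatBC_of_maximal h ω hω (fun m _ => ⟨m.comap (algebraMap A _),
      IsLocalization.map_under p.asIdeal.primeCompl _ m⟩), fun i => ⟨?_⟩⟩
  exact (LocalizedModule.equivTensorProduct p.asIdeal.primeCompl (Dual.HD A ω i)).trans
    (flatHDEquiv (Localization.AtPrime p.asIdeal) h ω i)

theorem mem_iff {ω : Dual.D A} (hω : Dual.IsDualizing A ω) (p : PrimeSpectrum A) :
    LocCoh.IsGorensteinLocalRing (Localization.AtPrime p.asIdeal) ↔
      ∃ (n : ℤ) (w : Dual.HD A ω n), (∀ i, i ≠ n → p ∉ Module.support A (Dual.HD A ω i)) ∧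
        p ∉ Module.support A (LinearMap.ker (LinearMap.toSpanSingleton A (Dual.HD A ω n) w)) ∧
        p ∉ Module.support A
          (Dual.HD A ω n ⧸ LinearMap.range (LinearMap.toSpanSingleton A (Dual.HD A ω n) w)) := by
  obtain ⟨ωp, hωp, he⟩ := exists_localized hω p
  have e := fun i => (he i).some
  have hN : IsNoetherianRing (Localization.AtPrime p.asIdeal) :=
    IsLocalization.isNoetherianRing p.asIdeal.primeCompl _ inferInstance
  constructor
  · intro hG
    have hCM := Groth.Agent.S0341.result (Localization.AtPrime p.asIdeal)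
    rw [DualCM2.isCohenMacaulayLocalRing_iff_HD hω p] at hCM
    obtain ⟨n, hn⟩ : ∃ n : ℤ, ∀ i, i ≠ n → p ∉ Module.support A (Dual.HD A ω i) := by
      by_cases hex : ∃ n : ℤ, p ∈ Module.support A (Dual.HD A ω n)
      · obtain ⟨n, hn⟩ := hex
        exact ⟨n, fun i hi h => hi (hCM i n h hn)⟩
      · push Not at hex
        exact ⟨0, fun i _ => hex i⟩
    obtain ⟨w', hw'⟩ := exists_generator hωp n (fun i hi => by
      have : Subsingleton (LocalizedModule p.asIdeal.primeCompl (Dual.HD A ω i)) :=
        Module.notMem_support_iff.mp (hn i hi)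
      exact (e i).symm.toEquiv.subsingleton)
    obtain ⟨x, rfl⟩ := (e n).surjective w'
    induction x using LocalizedModule.induction_on with
    | _ v s =>
      refine ⟨n, v, hn, (bijective_toSpanSingleton_iff p v).mp ?_⟩
      have hu : IsUnit (algebraMap A (Localization.AtPrime p.asIdeal) (s : A)) :=
        IsLocalization.map_units _ s
      have h1 : (LocalizedModule.mk v 1 : LocalizedModule p.asIdeal.primeCompl (Dual.HD A ω n)) =
          (algebraMap A (Localization.AtPrime p.asIdeal) (s : A)) • LocalizedModule.mk v s := by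
        rw [algebraMap_smul, LocalizedModule.smul'_mk, LocalizedModule.mk_eq]
        exact ⟨1, by simp [Submonoid.smul_def]⟩
      have h2 : ∀ r : Localization.AtPrime p.asIdeal,
          LinearMap.toSpanSingleton (Localization.AtPrime p.asIdeal)
            (LocalizedModule p.asIdeal.primeCompl (Dual.HD A ω n)) (LocalizedModule.mk v 1) r =
          (e n).symm (LinearMap.toSpanSingleton (Localization.AtPrime p.asIdeal)
            (Dual.HD (Localization.AtPrime p.asIdeal) ωp n) (e n (LocalizedModule.mk v s))
            (r * (algebraMap A (Localization.AtPrime p.asIdeal) (s : A)))) := by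
        intro r
        rw [LinearMap.toSpanSingleton_apply, LinearMap.toSpanSingleton_apply, map_smul,
          LinearEquiv.symm_apply_apply, mul_smul, h1]
      have h3 : Function.Bijective (fun r : Localization.AtPrime p.asIdeal =>
          r * (algebraMap A (Localization.AtPrime p.asIdeal) (s : A))) :=
        hu.unit.mulRight_bijective
      have h4 := (e n).symm.bijective.comp (hw'.comp h3)
      exact (funext h2 : _ = _) ▸ h4
  · rintro ⟨n, w, hn, hker, hcok⟩
    have hb := (bijective_toSpanSingleton_iff p w).mpr ⟨hker, hcok⟩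
    have e1 := LinearEquiv.ofBijective _ hb
    exact { exists_hasInjectiveDimensionLT :=
      exists_hasInjectiveDimensionLT_of_equiv hωp n (fun i hi => by
        have : Subsingleton (LocalizedModule p.asIdeal.primeCompl (Dual.HD A ω i)) :=
          Module.notMem_support_iff.mp (hn i hi)
        exact (e i).symm.toEquiv.subsingleton) ((e n).symm.trans e1.symm) }

/-- The Gorenstein locus is open. -/
theorem isOpen_gorenstein {ω : Dual.D A} (hω : Dual.IsDualizing A ω) :
    IsOpen {p : PrimeSpectrum A |
      LocCoh.IsGorensteinLocalRing (Localization.AtPrime p.asIdeal)} := by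
  obtain ⟨a, b, ha, hb, -⟩ := exists_bounds_of_isDualizing hω
  have hfin := hω.finite_cohomology
  have hset : {p : PrimeSpectrum A |
      LocCoh.IsGorensteinLocalRing (Localization.AtPrime p.asIdeal)} =
      ⋃ (n : ℤ) (w : Dual.HD A ω n), (⋂ i ∈ Set.Icc a b \ {n},
        (Module.support A (Dual.HD A ω i))ᶜ) ∩
        ((Module.support A (LinearMap.ker (LinearMap.toSpanSingleton A (Dual.HD A ω n) w)))ᶜ ∩
        (Module.support A
          (Dual.HD A ω n ⧸ LinearMap.range (LinearMap.toSpanSingleton A (Dual.HD A ω n) w)))ᶜ) := by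
    ext p
    rw [Set.mem_ofPred_eq, mem_iff hω p]
    simp only [Set.mem_iUnion, Set.mem_inter_iff, Set.mem_iInter, Set.mem_compl_iff]
    refine exists_congr fun n => exists_congr fun w => and_congr_left fun _ => ?_
    constructor
    · intro h i hi
      exact h i hi.2
    · intro h i hi
      by_cases hmem : i ∈ Set.Icc a b
      · exact h i ⟨hmem, hi⟩
      · have h2 : Subsingleton (Dual.HD A ω i) := by
          apply ModuleCat.subsingleton_of_isZero
          rw [Set.mem_Icc, not_and_or, not_le, not_le] at hmem
          rcases hmem with hlt | hgt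
          · exact DerivedCategory.isZero_of_isGE _ a _ hlt
          · exact DerivedCategory.isZero_of_isLE _ b _ hgt
        rw [Module.support_eq_empty]
        exact Set.notMem_empty p
  rw [hset]
  refine isOpen_iUnion fun n => isOpen_iUnion fun w => ?_
  refine IsOpen.inter ?_ (IsOpen.inter ?_ ?_)
  · refine Set.Finite.isOpen_biInter ((Set.finite_Icc a b).subset Set.sdiff_subset) fun i _ => ?_
    exact Module.isClosed_support.isOpen_compl
  · exact Module.isClosed_support.isOpen_compl
  · exact Module.isClosed_support.isOpen_compl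

end Locus

end Groth.Agent.Books.DualGorLocus
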