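import Groth.Agent.Books.DualGor
import Groth.Agent.S0368

/-!
# Dualizing complexes over a Gorenstein local ring

Over a Gorenstein local ring `R` every dualizing complex is a shift of `R`.
-/

set_option autoImplicit false
universe u

open CategoryTheory CategoryTheory.Limits

attribute [local instance] HasDerivedCategory.standard

namespace Groth.Agent.Books.DualGorUniq

open DerivedCategory Groth.Agent.LoccohB Groth.Agent.LoccohB.HomBC Groth.Agent.Books.DualGor

variable {R : Type u} [CommRing R]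

/-- A dualizing complex over a Cohen–Macaulay local ring has cohomology in a single degree. -/
theorem exists_degree [LocCoh.IsCohenMacaulayLocalRing R] {ω : Dual.D R}
    (hω : Dual.IsDualizing R ω) :
    ∃ n : ℤ, ∀ i, i ≠ n → Subsingleton (Dual.HD R ω i) := by
  obtain ⟨s, hs, ⟨es⟩⟩ := Groth.Agent.S0364.result R ω hω (IsLocalRing.maximalIdeal R)
  have hn := DualShift.isNormalized_shift ω s hs
  have hd := DualShift.isDualizing_shift ω hω s
  obtain ⟨d, hdim⟩ := Groth.Agent.CalgA.RegBasic.ringKrullDim_eq_natCast R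
  have hCM : LocCoh.IsCohenMacaulayModule R R :=
    LocCoh.IsCohenMacaulayLocalRing.supportDim_eq_depth
  have h1 := (Groth.Agent.S0368.result R _ hd hn R d
    (by rw [Module.supportDim_self_eq_ringKrullDim, hdim])).mp hCM
  refine ⟨s + -(d : ℤ), fun i hi => ?_⟩
  have h2 := h1 (-(i - s)) (by omega)
  rw [neg_neg] at h2
  have h3 : Subsingleton (Dual.HD R (ω⟦s⟧) (i - s)) := (subsingleton_HD_iff _ _).mpr h2
  exact (DualShift.shiftHD ω s (i - s) i (by omega)).symm.toLinearEquiv.toEquiv.subsingleton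

/-- **Uniqueness** over a Gorenstein local ring: `ω[n] ≅ R[0]`. -/
theorem exists_shift_iso [LocCoh.IsGorensteinLocalRing R] {ω : Dual.D R}
    (hω : Dual.IsDualizing R ω) :
    ∃ n : ℤ, Nonempty (ω⟦n⟧ ≅ Dual.inD R R) := by
  have hCM := Groth.Agent.S0341.result R
  obtain ⟨n, hn⟩ := exists_degree hω
  obtain ⟨f⟩ := exists_iso_of_subsingleton ω n hn
  obtain ⟨w, hw⟩ := exists_generator hω n hn
  exact ⟨n, ⟨f ≪≫ (singleFunctor (ModuleCat.{u} R) 0).mapIso
    (LinearEquiv.ofBijective _ hw).symm.toModuleIso⟩⟩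

/-- **Uniqueness** over a Gorenstein local ring: `ω ≅ R[m]`. -/
theorem exists_iso_shift [LocCoh.IsGorensteinLocalRing R] {ω : Dual.D R}
    (hω : Dual.IsDualizing R ω) :
    ∃ m : ℤ, Nonempty (ω ≅ (Dual.inD R R)⟦m⟧) := by
  obtain ⟨n, ⟨f⟩⟩ := exists_shift_iso hω
  refine ⟨-n, ⟨((shiftFunctorCompIsoId (Dual.D R) n (-n) (by omega)).app ω).symm ≪≫
    (shiftFunctor _ (-n)).mapIso f⟩⟩

end Groth.Agent.Books.DualGorUniq
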