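import Groth.Agent.Localalg.GorExt
import Groth.Agent.Localalg.GorSocle

/-!
# A finite module over a Gorenstein local ring with the Bass numbers of the ring is cyclic

`exists_generator`: `A` Gorenstein local of dimension `d`, `W` a finite module with
`Ext^i(κ, W) = 0` for `i ≠ d` and `Ext^d(κ, W)` cyclic.  Then `W` is cyclic.
-/

set_option autoImplicit false
universe u

open CategoryTheory Abelian Limits
open scoped Pointwise

namespace Groth.Agent.Books.GorCyclic

open Groth.Agent.Localalg

section Base

variable {A : Type u} [CommRing A] [IsLocalRing A] [IsNoetherianRing A]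

/-- Over a local ring of dimension zero, a nonzero finite module contains the residue field. -/
theorem exists_injective_residueField [Ring.KrullDimLE 0 A] (K : Type u) [AddCommGroup K]
    [Module A K] [Module.Finite A K] [Nontrivial K] :
    ∃ g : (A ⧸ IsLocalRing.maximalIdeal A) →ₗ[A] K, Function.Injective g := by
  refine GorDepth.exists_injective_residueField (A := A) K (fun x hx hreg => ?_)
  have hnil : IsNilpotent x := by
    rw [← mem_nilradical, nilradical_eq_sInf, Ideal.mem_sInf]
    intro J hJ
    have hJ' : J.IsPrime := hJ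
    have : J.IsMaximal := Ring.krullDimLE_zero_iff.mp inferInstance J hJ'
    rw [IsLocalRing.eq_maximalIdeal this]
    exact hx
  obtain ⟨n, hn⟩ := hnil
  obtain ⟨k, hk⟩ := exists_ne (0 : K)
  have h1 : IsSMulRegular K (x ^ n) := hreg.pow n
  rw [hn] at h1
  exact hk (h1.right_eq_zero_of_smul (by rw [zero_smul]))

/-- The Artinian case. -/
theorem exists_generator_zero (hA : HasInjectiveDimensionLT (ModuleCat.of A A) 1)
    (W : Type u) [AddCommGroup W] [Module A W] [Module.Finite A W]
    (hW : HasInjectiveDimensionLT (ModuleCat.of A W) 1)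
    (h : ∃ g : (A ⧸ IsLocalRing.maximalIdeal A) →ₗ[A] W,
      ∀ y : (A ⧸ IsLocalRing.maximalIdeal A) →ₗ[A] W, ∃ a : A, y = a • g) :
    ∃ w : W, Submodule.span A {w} = ⊤ := by
  have h0 := GorDepth.krullDimLE_zero hA
  rcases subsingleton_or_nontrivial W with hs | hnt
  · exact ⟨0, Subsingleton.elim _ _⟩
  have hinjA : Module.Injective A A := by
    rw [Module.injective_iff_injective_object]
    infer_instance
  have hinjW : Module.Injective A W := by
    rw [Module.injective_iff_injective_object]
    infer_instance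
  obtain ⟨σ, hσ, hσ'⟩ := GorSocle.exists_socle_generator hA
  obtain ⟨g, hg⟩ := h
  have hg1 : g 1 ≠ 0 := by
    intro h1
    obtain ⟨y, hy⟩ := exists_injective_residueField (A := A) W
    obtain ⟨a, ha⟩ := hg y
    have h2 : y 1 = 0 := by rw [ha, LinearMap.smul_apply, h1, smul_zero]
    have h3 : (1 : A ⧸ IsLocalRing.maximalIdeal A) = 0 := hy (by rw [h2, map_zero])
    exact one_ne_zero h3
  obtain ⟨φ, hφ⟩ := hinjW.out σ hσ g
  -- φ is injective
  have hφinj : Function.Injective φ := by
    rw [← LinearMap.ker_eq_bot, ← Submodule.subsingleton_iff_eq_bot, ← not_nontrivial_iff_subsingleton]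
    intro hK
    obtain ⟨y, hy⟩ := exists_injective_residueField (A := A) (LinearMap.ker φ)
    obtain ⟨c, hc⟩ := hσ' (y 1 : A) (fun a ha => by
      have h1 : a • y 1 = 0 := by
        rw [← map_smul]
        have : a • (1 : A ⧸ IsLocalRing.maximalIdeal A) = 0 := by
          rw [Algebra.smul_def, mul_one]
          exact Ideal.Quotient.eq_zero_iff_mem.mpr ha
        rw [this, map_zero]
      exact congrArg Subtype.val h1)
    have h2 : c • g 1 = 0 := by
      rw [← hφ, ← map_smul, smul_eq_mul, ← hc]
      exact (y 1).2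
    have hcm : c ∈ IsLocalRing.maximalIdeal A := by
      rw [IsLocalRing.mem_maximalIdeal]
      intro hu
      obtain ⟨u, rfl⟩ := hu
      exact hg1 (by
        have := congrArg (fun t => (↑u⁻¹ : A) • t) h2
        simpa [smul_smul] using this)
    have h3 : (y 1 : A) = 0 := by
      rw [hc, ← smul_eq_mul, ← map_smul]
      have : c • (1 : A ⧸ IsLocalRing.maximalIdeal A) = 0 := by
        rw [Algebra.smul_def, mul_one]
        exact Ideal.Quotient.eq_zero_iff_mem.mpr hcm
      rw [this, map_zero]
    have h4 : y 1 = 0 := Subtype.ext h3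
    have h5 : (1 : A ⧸ IsLocalRing.maximalIdeal A) = 0 := hy (by rw [h4, map_zero])
    exact one_ne_zero h5
  -- a retraction
  obtain ⟨r, hr⟩ := hinjA.out φ hφinj LinearMap.id
  have hker : LinearMap.ker r = ⊥ := by
    rw [← Submodule.subsingleton_iff_eq_bot, ← not_nontrivial_iff_subsingleton]
    intro hK
    obtain ⟨y, hy⟩ := exists_injective_residueField (A := A) (LinearMap.ker r)
    obtain ⟨a, ha⟩ := hg ((LinearMap.ker r).subtype ∘ₗ y)
    have h1 : (y 1 : W) = φ (a • σ 1) := by
      have := congrArg (fun t => t 1) ha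
      simp only [LinearMap.comp_apply, Submodule.subtype_apply, LinearMap.smul_apply] at this
      rw [this, map_smul, hφ]
    have h2 : a • σ 1 = 0 := by
      have h3 : r (y 1 : W) = 0 := (y 1).2
      rw [h1, hr] at h3
      exact h3
    have h4 : y 1 = 0 := Subtype.ext (by rw [h1, h2, map_zero]; rfl)
    have h5 : (1 : A ⧸ IsLocalRing.maximalIdeal A) = 0 := hy (by rw [h4, map_zero])
    exact one_ne_zero h5
  refine ⟨φ 1, ?_⟩
  rw [eq_top_iff]
  rintro w -
  rw [Submodule.mem_span_singleton]
  refine ⟨r w, ?_⟩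
  rw [← map_smul, smul_eq_mul, mul_one]
  exact (LinearMap.ker_eq_bot.mp hker) (by rw [hr]; rfl)

end Base

section Step

variable {A : Type u} [CommRing A]

/-- `W / xW` as an `A/(x)`-module, restricted to `A`, is the cokernel of `x` on `W`. -/
noncomputable def quotientIso (x : A) (W : Type u) [AddCommGroup W] [Module A W] :
    (ModuleCat.restrictScalars (Ideal.Quotient.mk (Ideal.span {x}))).obj
      (ModuleCat.of (A ⧸ Ideal.span {x}) (W ⧸ (Ideal.span {x} • (⊤ : Submodule A W)))) ≅
      ((ModuleCat.of A W).smulShortComplex x).X₃ :=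
  LinearEquiv.toModuleIso (X₁ := (ModuleCat.restrictScalars (Ideal.Quotient.mk (Ideal.span {x}))).obj
      (ModuleCat.of (A ⧸ Ideal.span {x}) (W ⧸ (Ideal.span {x} • (⊤ : Submodule A W)))))
    (Submodule.quotEquivOfEq (Ideal.span {x} • (⊤ : Submodule A W)) (x • (⊤ : Submodule A W)) (by
      rw [← Submodule.ideal_span_singleton_smul]))

/-- Precomposition with an isomorphism is bijective on `Ext`. -/
theorem bijective_comp_iso {X Y M : ModuleCat.{u} A} (e : X ≅ Y) (n : ℕ) :
    Function.Bijective (fun z : Ext Y M n ↦ (Ext.mk₀ e.hom).comp z (zero_add n)) := by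
  refine Function.bijective_iff_has_inverse.2
    ⟨fun z ↦ (Ext.mk₀ e.inv).comp z (zero_add _), fun z ↦ ?_, fun z ↦ ?_⟩
  · change (Ext.mk₀ e.inv).comp ((Ext.mk₀ e.hom).comp z _) _ = z
    rw [Ext.mk₀_comp_mk₀_assoc, e.inv_hom_id, Ext.mk₀_id_comp]
  · change (Ext.mk₀ e.hom).comp ((Ext.mk₀ e.inv).comp z _) _ = z
    rw [Ext.mk₀_comp_mk₀_assoc, e.hom_inv_id, Ext.mk₀_id_comp]

end Step

/-- **Cyclicity.** -/
theorem exists_generator (d : ℕ) : ∀ (A : Type u) [CommRing A] [LocCoh.IsGorensteinLocalRing A]
    (_ : ringKrullDim A = d) (W : Type u) [AddCommGroup W] [Module A W] [Module.Finite A W]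
    (_ : ∀ i : ℕ, i ≠ d → Subsingleton
      (Ext (ModuleCat.of A (IsLocalRing.ResidueField A)) (ModuleCat.of A W) i))
    (_ : ∃ z : Ext (ModuleCat.of A (IsLocalRing.ResidueField A)) (ModuleCat.of A W) d,
      ∀ y, ∃ a : A, y = a • z),
    ∃ w : W, Submodule.span A {w} = ⊤ := by
  induction d with
  | zero =>
    intro A _ _ hd W _ _ _ hi hz
    have hreg : ∀ x ∈ IsLocalRing.maximalIdeal A, ¬ IsSMulRegular A x := by
      intro x hx hreg
      have h1 := ringKrullDim_quotient_span_singleton_succ_eq_ringKrullDim hreg hx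
      rw [hd] at h1
      have : Nontrivial (A ⧸ Ideal.span {x}) := Ideal.Quotient.nontrivial_iff.2 (by
        rw [Ne, Ideal.span_singleton_eq_top]
        exact (IsLocalRing.mem_maximalIdeal x).1 hx)
      have h2 : 0 ≤ ringKrullDim (A ⧸ Ideal.span {x}) := ringKrullDim_nonneg_of_nontrivial
      have h3 : (1 : WithBot ℕ∞) ≤ 0 := by
        calc (1 : WithBot ℕ∞) = 0 + 1 := (zero_add 1).symm
          _ ≤ ringKrullDim (A ⧸ Ideal.span {x}) + 1 := by gcongr
          _ = 0 := by rw [h1]; rfl
      exact absurd h3 (by decide)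
    obtain ⟨n, hn⟩ := LocCoh.IsGorensteinLocalRing.exists_hasInjectiveDimensionLT (A := A)
    have h1 := GorDepth.hasInjectiveDimensionLT_one (ModuleCat.of A A) n hn hreg
    have h2 : HasInjectiveDimensionLT (ModuleCat.of A W) 1 := by
      have : Module.Finite A (ModuleCat.of A W) := inferInstanceAs (Module.Finite A W)
      exact InjDim.hasInjectiveDimensionLT_of_ext_quotient_maximalIdeal _ 1
        fun i hi' => hi i (by omega)
    refine exists_generator_zero h1 W h2 ?_
    obtain ⟨z, hz⟩ := hz
    refine ⟨(Ext.linearEquiv₀ (R := A) z).hom, fun y => ?_⟩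
    obtain ⟨a, ha⟩ := hz ((Ext.linearEquiv₀ (R := A)).symm (ModuleCat.ofHom y))
    refine ⟨a, ?_⟩
    have h3 := congrArg (Ext.linearEquiv₀ (R := A)) ha
    rw [LinearEquiv.apply_symm_apply, map_smul] at h3
    have h4 := congrArg (fun t => t.hom) h3
    exact h4
  | succ d ih =>
    intro A _ _ hd W _ _ _ hi hz
    have hdim : ¬ Ring.KrullDimLE 0 A := by
      intro h
      have := Ring.krullDimLE_iff.1 h
      rw [hd] at this
      norm_cast at this
    obtain ⟨x0, hx0, hreg0⟩ := GorDepth.exists_isSMulRegular hdim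
    -- an element regular on both `A` and `W`
    obtain ⟨x, hx, hregx⟩ : ∃ x ∈ IsLocalRing.maximalIdeal A, IsSMulRegular (A × W) x := by
      by_contra! hcon
      obtain ⟨g, hg⟩ := GorDepth.exists_injective_residueField (A := A) (A × W) hcon
      have h1 : (g 1).1 = 0 := by
        apply hreg0.right_eq_zero_of_smul
        have h2 : x0 • g 1 = 0 := by
          rw [← map_smul]
          have : x0 • (1 : A ⧸ IsLocalRing.maximalIdeal A) = 0 := by
            rw [Algebra.smul_def, mul_one]
            exact Ideal.Quotient.eq_zero_iff_mem.mpr hx0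
          rw [this, map_zero]
        exact congrArg Prod.fst h2
      have h2 : (LinearMap.snd A A W) ∘ₗ g = 0 := by
        have h3 : Subsingleton
            (ModuleCat.of A (IsLocalRing.ResidueField A) ⟶ ModuleCat.of A W) :=
          Ext.homEquiv₀.subsingleton_congr.mp (hi 0 (by omega))
        have h4 : ModuleCat.ofHom ((LinearMap.snd A A W) ∘ₗ g) =
            (0 : ModuleCat.of A (IsLocalRing.ResidueField A) ⟶ ModuleCat.of A W) :=
          Subsingleton.elim (α := (ModuleCat.of A (IsLocalRing.ResidueField A) ⟶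
            ModuleCat.of A W)) _ _
        exact congrArg (fun t => t.hom) h4
      have h3 : (g 1).2 = 0 := congrArg (fun t => t 1) h2
      have h4 : g 1 = 0 := Prod.ext h1 h3
      have h5 : (1 : A ⧸ IsLocalRing.maximalIdeal A) = 0 := hg (by rw [h4, map_zero])
      exact one_ne_zero h5
    have hregA : IsSMulRegular A x := by
      intro a b h
      have := @hregx (a, 0) (b, 0) (Prod.ext h rfl)
      exact congrArg Prod.fst this
    have hregW : IsSMulRegular W x := by
      intro a b h
      have := @hregx (0, a) (0, b) (Prod.ext rfl h)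
      exact congrArg Prod.snd this
    have hgor := (Groth.Agent.S0343.result A x hx hregA).1 inferInstance
    have hd' : ringKrullDim (A ⧸ Ideal.span {x}) = d := by
      have h1 := ringKrullDim_quotient_span_singleton_succ_eq_ringKrullDim hregA hx
      rw [hd] at h1
      have h2 : ringKrullDim (A ⧸ Ideal.span {x}) + 1 = (d : WithBot ℕ∞) + 1 := by
        rw [h1]; norm_cast
      exact (ENat.WithBot.add_natCast_cancel (c := 1)).1 (by exact_mod_cast h2)
    let φ := Ideal.Quotient.mk (Ideal.span {x})
    have hφ : Function.Surjective φ := Ideal.Quotient.mk_surjective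
    have hker : RingHom.ker φ = Ideal.span {x} := Ideal.mk_ker
    have hfin : Module.Finite (A ⧸ Ideal.span {x})
        (W ⧸ (Ideal.span {x} • (⊤ : Submodule A W))) :=
      Module.Finite.of_restrictScalars_finite A _ _
    have hcb := ReesLemma.comparison_bijective hφ hker hregA (ModuleCat.of A W) hregW
      (quotientIso x W) d (ModuleCat.of (A ⧸ Ideal.span {x})
        (IsLocalRing.ResidueField (A ⧸ Ideal.span {x})))
    obtain ⟨wb, hwb⟩ := ih (A ⧸ Ideal.span {x}) hd'
      (W ⧸ (Ideal.span {x} • (⊤ : Submodule A W)))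
      (fun i hi' => (ReesLemma.subsingleton_ext_residueField_iff hφ hker hregA
        (ModuleCat.of A W) hregW (quotientIso x W) i).mpr (hi (i + 1) (by omega))) (by
      obtain ⟨z, hz⟩ := hz
      let iso := ReesLemma.residueFieldIso (φ := φ) hφ
      have hΨ := (bijective_comp_iso (M := ModuleCat.of A W) iso (d + 1)).comp hcb
      obtain ⟨z', hz'⟩ := hΨ.2 z
      refine ⟨z', fun y' => ?_⟩
      obtain ⟨a, ha⟩ := hz ((Ext.mk₀ iso.hom).comp (ReesLemma.comparison
        (IsSMulRegular.smulShortComplex_shortExact (M := ModuleCat.of A W) hregW)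
        (quotientIso x W).hom _ d y') (zero_add _))
      have key : ∀ c : Ext ((ModuleCat.restrictScalars φ).obj
          (ModuleCat.of (A ⧸ Ideal.span {x}) (IsLocalRing.ResidueField (A ⧸ Ideal.span {x}))))
          (ModuleCat.of A W) (d + 1),
          (Ext.mk₀ iso.hom).comp (a • c) (zero_add (d + 1)) =
            a • (Ext.mk₀ iso.hom).comp c (zero_add (d + 1)) := fun c => Ext.comp_smul _ _ _ _
      refine ⟨φ a, hΨ.1 ?_⟩
      simp only [Function.comp_apply] at hz' ⊢
      rw [GorExt.comparison_smul]
      refine Eq.trans ha ?_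
      rw [← hz']
      exact (key _).symm)
    obtain ⟨w, rfl⟩ := Submodule.mkQ_surjective _ wb
    refine ⟨w, ?_⟩
    rw [eq_top_iff]
    refine Submodule.le_of_le_smul_of_le_jacobson_bot (I := Ideal.span {x})
      (Module.finite_def.mp inferInstance) ?_ ?_
    · rw [Ideal.span_singleton_le_iff_mem]
      exact IsLocalRing.maximalIdeal_le_jacobson _ hx
    · rintro v -
      have h1 : (Submodule.mkQ (Ideal.span {x} • (⊤ : Submodule A W)) v) ∈
          Submodule.span (A ⧸ Ideal.span {x})
            {Submodule.mkQ (Ideal.span {x} • (⊤ : Submodule A W)) w} := by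
        rw [hwb]; trivial
      rw [Submodule.mem_span_singleton] at h1
      obtain ⟨b, hb⟩ := h1
      obtain ⟨a, rfl⟩ := hφ b
      have h2 : Submodule.mkQ (Ideal.span {x} • (⊤ : Submodule A W)) (v - a • w) = 0 := by
        rw [map_sub, map_smul, ← hb]
        exact sub_self _
      rw [Submodule.mkQ_apply, Submodule.Quotient.mk_eq_zero] at h2
      have h3 : v = a • w + (v - a • w) := by abel
      rw [h3]
      exact Submodule.add_mem_sup (Submodule.smul_mem _ _ (Submodule.mem_span_singleton_self w)) h2

end Groth.Agent.Books.GorCyclic
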