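import Groth.Agent.Books.Linkage
import Groth.Agent.Ega4A.Depth
import Groth.Agent.S0559
import Mathlib.RingTheory.Length
import Mathlib.RingTheory.Artinian.Ring
import Mathlib.RingTheory.HopkinsLevitzki

/-!
# Lifting along complete intersections
-/

set_option autoImplicit false

universe u

open Ideal RingTheory.Sequence IsLocalRing

namespace Groth.Agent.Books.GorLift

open Groth.Agent.Books.Linkage

section SelfInj

variable {A : Type u} [CommRing A] [IsLocalRing A]

theorem length_span_le_one (s : A) (hs1 : ∀ a ∈ maximalIdeal A, a * s = 0) :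
    Module.length A (span {s} : Ideal A) ≤ 1 := by
  let g : (A ⧸ maximalIdeal A) →ₗ[A] (span {s} : Ideal A) :=
    Submodule.liftQ (maximalIdeal A)
      (LinearMap.toSpanSingleton A (span {s} : Ideal A) ⟨s, mem_span_singleton_self s⟩)
      (fun a ha => by
        rw [LinearMap.mem_ker]
        exact Subtype.ext (hs1 a ha))
  have hg : Function.Surjective g := by
    rintro ⟨x, hx⟩
    obtain ⟨a, rfl⟩ := Ideal.mem_span_singleton'.mp hx
    exact ⟨Submodule.Quotient.mk a, rfl⟩
  have : IsSimpleModule A (A ⧸ maximalIdeal A) :=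
    isSimpleModule_iff_isCoatom.mpr (Ideal.isMaximal_def.mp inferInstance)
  calc _ ≤ Module.length A (A ⧸ maximalIdeal A) := Module.length_le_of_surjective g hg
    _ = 1 := Module.length_eq_one A _

/-- `length Hom(N, A) ≤ length N` for a local ring with socle generated by one element. -/
theorem length_hom_le (s : A) (hs1 : ∀ a ∈ maximalIdeal A, a * s = 0)
    (hs : ∀ x, (∀ a ∈ maximalIdeal A, a * x = 0) → x ∈ span {s}) {N : Type u} [AddCommGroup N]
    [Module A N] (h : IsFiniteLength A N) :
    Module.length A (N →ₗ[A] A) ≤ Module.length A N := by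
  induction h with
  | of_subsingleton => simp
  | @of_simple_quotient M _ _ N _ h ih =>
    let ρ : (M →ₗ[A] A) →ₗ[A] (N →ₗ[A] A) := LinearMap.lcomp A A N.subtype
    have h1 : Module.length A (M →ₗ[A] A) =
        Module.length A (LinearMap.ker ρ) + Module.length A (LinearMap.range ρ) :=
      Module.length_eq_add_of_exact (LinearMap.ker ρ).subtype ρ.rangeRestrict
        (Submodule.injective_subtype _) (LinearMap.surjective_rangeRestrict _) (by
          rw [LinearMap.exact_iff, LinearMap.ker_rangeRestrict, Submodule.range_subtype])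
    have h2 : Module.length A M = Module.length A N + Module.length A (M ⧸ N) :=
      Module.length_eq_add_of_exact N.subtype N.mkQ (Submodule.injective_subtype _)
        (Submodule.mkQ_surjective _) (by
          rw [LinearMap.exact_iff, Submodule.ker_mkQ, Submodule.range_subtype])
    have h3 : Module.length A (LinearMap.range ρ) ≤ Module.length A (N →ₗ[A] A) :=
      Module.length_le_of_injective (LinearMap.range ρ).subtype (Submodule.injective_subtype _)
    have h4 : Module.length A (LinearMap.ker ρ) ≤ 1 := by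
      have hnt : Nontrivial (M ⧸ N) := IsSimpleModule.nontrivial A (M ⧸ N)
      obtain ⟨y, hy⟩ := exists_ne (0 : M ⧸ N)
      obtain ⟨x, rfl⟩ := Submodule.mkQ_surjective N y
      have hxm : ∀ a ∈ maximalIdeal A, a • x ∈ N := by
        intro a ha
        obtain ⟨I, hI, ⟨e⟩⟩ := (isSimpleModule_iff_quot_maximal (R := A)
          (M := M ⧸ N)).mp inferInstance
        rw [← Submodule.Quotient.mk_eq_zero, Submodule.Quotient.mk_smul]
        apply e.injective
        rw [map_smul, map_zero]
        obtain ⟨b, hb⟩ := Ideal.Quotient.mk_surjective (e (Submodule.Quotient.mk x))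
        rw [← hb]
        change Ideal.Quotient.mk I (a * b) = 0
        rw [Ideal.Quotient.eq_zero_iff_mem, eq_maximalIdeal hI]
        exact Ideal.mul_mem_right _ _ ha
      have hspan : ∀ z : M, ∃ a : A, z - a • x ∈ N := by
        intro z
        obtain ⟨a, ha⟩ := IsSimpleModule.toSpanSingleton_surjective A hy (Submodule.Quotient.mk z)
        refine ⟨a, ?_⟩
        rw [← Submodule.Quotient.mk_eq_zero, Submodule.Quotient.mk_sub, Submodule.Quotient.mk_smul,
          ← ha]
        simp
      let ev : LinearMap.ker ρ →ₗ[A] (span {s} : Ideal A) :=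
        LinearMap.codRestrict _ ((LinearMap.applyₗ x).comp (LinearMap.ker ρ).subtype) (by
          rintro ⟨φ, hφ⟩
          apply hs
          intro a ha
          have := LinearMap.congr_fun hφ ⟨a • x, hxm a ha⟩
          change φ (a • x) = 0 at this
          rw [map_smul] at this
          exact this)
      have hev : Function.Injective ev := by
        rw [injective_iff_map_eq_zero]
        rintro ⟨φ, hφ⟩ h0
        have h0' : φ x = 0 := congrArg Subtype.val h0
        apply Subtype.ext
        ext z
        obtain ⟨a, ha⟩ := hspan z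
        have := LinearMap.congr_fun hφ ⟨z - a • x, ha⟩
        change φ (z - a • x) = 0 at this
        rw [map_sub, map_smul, h0', smul_zero, sub_zero] at this
        exact this
      exact (Module.length_le_of_injective ev hev).trans (length_span_le_one s hs1)
    rw [h1, h2, Module.length_eq_one A (M ⧸ N), add_comm]
    exact add_le_add (h3.trans ih) h4

/-- **Self-injectivity** of an Artinian local ring with cyclic socle. -/
theorem exists_mul_of_ker_le [IsArtinianRing A] (s : A) (hs1 : ∀ a ∈ maximalIdeal A, a * s = 0)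
    (hs : ∀ x, (∀ a ∈ maximalIdeal A, a * x = 0) → x ∈ span {s}) {P : Type u} [AddCommGroup P]
    [Module A P] (L k : P →ₗ[A] A) (h : LinearMap.ker L ≤ LinearMap.ker k) :
    ∃ c, ∀ v, k v = c * L v := by
  set J := LinearMap.range L with hJ
  let ρ : A →ₗ[A] (J →ₗ[A] A) := LinearMap.toSpanSingleton A _ J.subtype
  have hρ : ∀ c x, ρ c x = c * x := fun c x => rfl
  let j : LinearMap.ker ρ →ₗ[A] ((A ⧸ J) →ₗ[A] A) :=
    { toFun := fun c => J.liftQ (LinearMap.toSpanSingleton A A c.1) (fun x hx => by
        have := LinearMap.congr_fun c.2 ⟨x, hx⟩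
        rw [hρ] at this
        rw [LinearMap.mem_ker]
        change x * c.1 = 0
        rw [mul_comm]
        exact this)
      map_add' := by
        intro c c'
        apply Submodule.linearMap_qext
        apply LinearMap.ext
        intro x
        exact mul_add x c.1 c'.1
      map_smul' := by
        intro c c'
        apply Submodule.linearMap_qext
        apply LinearMap.ext
        intro x
        exact mul_left_comm x c c'.1 }
  have hj : Function.Injective j := by
    rw [injective_iff_map_eq_zero]
    intro c hc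
    have := LinearMap.congr_fun hc (Submodule.Quotient.mk 1)
    apply Subtype.ext
    change (1 : A) * c.1 = 0 at this
    simpa using this
  have h1 : Module.length A A = Module.length A (LinearMap.ker ρ) +
      Module.length A (LinearMap.range ρ) :=
    Module.length_eq_add_of_exact (LinearMap.ker ρ).subtype ρ.rangeRestrict
      (Submodule.injective_subtype _) (LinearMap.surjective_rangeRestrict _) (by
        rw [LinearMap.exact_iff, LinearMap.ker_rangeRestrict, Submodule.range_subtype])
  have h2 : Module.length A A = Module.length A J + Module.length A (A ⧸ J) :=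
    Module.length_eq_add_of_exact J.subtype J.mkQ (Submodule.injective_subtype _)
      (Submodule.mkQ_surjective _) (by
        rw [LinearMap.exact_iff, Submodule.ker_mkQ, Submodule.range_subtype])
  have hfin : ∀ (N : Type u) [AddCommGroup N] [Module A N] [Module.Finite A N],
      IsFiniteLength A N := fun N _ _ _ =>
    isFiniteLength_iff_isNoetherian_isArtinian.mpr ⟨inferInstance, inferInstance⟩
  have h3 : Module.length A (LinearMap.ker ρ) ≤ Module.length A (A ⧸ J) :=
    (Module.length_le_of_injective j hj).trans (length_hom_le s hs1 hs (hfin _))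
  have h4 : Module.length A (J →ₗ[A] A) ≤ Module.length A J := length_hom_le s hs1 hs (hfin _)
  have h5 : Module.length A (J →ₗ[A] A) = Module.length A (LinearMap.range ρ) +
      Module.length A ((J →ₗ[A] A) ⧸ LinearMap.range ρ) :=
    Module.length_eq_add_of_exact (LinearMap.range ρ).subtype (LinearMap.range ρ).mkQ
      (Submodule.injective_subtype _) (Submodule.mkQ_surjective _) (by
        rw [LinearMap.exact_iff, Submodule.ker_mkQ, Submodule.range_subtype])
  have hAt : Module.length A A ≠ ⊤ := Module.length_ne_top_iff.mpr (hfin A)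
  have hsub : Subsingleton ((J →ₗ[A] A) ⧸ LinearMap.range ρ) := by
    rw [← Module.length_eq_zero_iff (R := A)]
    have ha := Module.length_ne_top_iff.mpr (hfin (LinearMap.ker ρ))
    have hb := Module.length_ne_top_iff.mpr (hfin (LinearMap.range ρ))
    have hc := Module.length_ne_top_iff.mpr (hfin (A ⧸ J))
    have hd := Module.length_ne_top_iff.mpr (hfin J)
    have he := Module.length_ne_top_iff.mpr (hfin (J →ₗ[A] A))
    have hf := Module.length_ne_top_iff.mpr (hfin ((J →ₗ[A] A) ⧸ LinearMap.range ρ))
    rw [h1] at h2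
    generalize Module.length A (LinearMap.ker ρ) = a at *
    generalize Module.length A (LinearMap.range ρ) = b at *
    generalize Module.length A (A ⧸ J) = c at *
    generalize Module.length A J = d at *
    generalize Module.length A (J →ₗ[A] A) = e at *
    generalize Module.length A ((J →ₗ[A] A) ⧸ LinearMap.range ρ) = f at *
    lift a to ℕ using ha
    lift b to ℕ using hb
    lift c to ℕ using hc
    lift d to ℕ using hd
    lift e to ℕ using he
    lift f to ℕ using hf
    norm_cast at *
    omega
  have hsurj : Function.Surjective ρ := by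
    rw [← LinearMap.range_eq_top]
    exact Submodule.Quotient.subsingleton_iff.mp hsub
  let g : J →ₗ[A] A := ((LinearMap.ker L).liftQ k h).comp L.quotKerEquivRange.symm.toLinearMap
  obtain ⟨c, hc⟩ := hsurj g
  refine ⟨c, fun v => ?_⟩
  have h6 := LinearMap.congr_fun hc ⟨L v, v, rfl⟩
  rw [hρ] at h6
  have h7 : L.quotKerEquivRange.symm ⟨L v, v, rfl⟩ = Submodule.Quotient.mk v := by
    rw [LinearEquiv.symm_apply_eq]
    rfl
  calc k v = g ⟨L v, v, rfl⟩ := by
        change k v = (LinearMap.ker L).liftQ k h (L.quotKerEquivRange.symm ⟨L v, v, rfl⟩)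
        rw [h7]; rfl
    _ = c * L v := h6.symm

end SelfInj

section MultProp

variable {R : Type u} [CommRing R]

/-- Every `R`-linear map `(K + (a)) / K → R / K` is a multiplication, i.e.
`Ext¹_{R/K}(R/(K + (a)), R/K) = 0`; stated for a tuple of generators. -/
def IsMult (K : Ideal R) {m : ℕ} (a : Fin m → R) : Prop :=
  ∀ b : Fin m → R, (∀ r : Fin m → R, ∑ i, r i * a i ∈ K → ∑ i, r i * b i ∈ K) →
    ∃ s, ∀ i, b i - s * a i ∈ K

/-- Descent of `IsMult` along a regular element. -/
theorem IsMult.of_sup_span [IsLocalRing R] [IsNoetherianRing R] {K : Ideal R} {m : ℕ}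
    {a : Fin m → R} {t : R} (ht : t ∈ maximalIdeal R) (h1 : ∀ x, t * x ∈ K → x ∈ K)
    (h2 : ∀ x, t * x ∈ K ⊔ span (Set.range a) → x ∈ K ⊔ span (Set.range a))
    (h : IsMult (K ⊔ span {t}) a) : IsMult K a := by
  let B : Submodule R (Fin m → R) :=
    { carrier := {b | ∀ r : Fin m → R, ∑ i, r i * a i ∈ K → ∑ i, r i * b i ∈ K}
      add_mem' := by
        intro b b' hb hb' r hr
        simp only [Pi.add_apply, mul_add, Finset.sum_add_distrib]
        exact K.add_mem (hb r hr) (hb' r hr)
      zero_mem' := by
        intro r _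
        simp
      smul_mem' := by
        intro c b hb r hr
        have e : ∑ i, r i * (c • b) i = c * ∑ i, r i * b i := by
          rw [Finset.mul_sum]
          exact Finset.sum_congr rfl fun i _ => by
            rw [Pi.smul_apply, smul_eq_mul]; ring
        rw [e]
        exact K.mul_mem_left _ (hb r hr) }
  let D : Submodule R (Fin m → R) :=
    { carrier := {b | ∃ s, ∀ i, b i - s * a i ∈ K}
      add_mem' := by
        rintro b b' ⟨s, hs⟩ ⟨s', hs'⟩
        refine ⟨s + s', fun i => ?_⟩
        have e : (b + b') i - (s + s') * a i = (b i - s * a i) + (b' i - s' * a i) := by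
          rw [Pi.add_apply]; ring
        rw [e]
        exact K.add_mem (hs i) (hs' i)
      zero_mem' := ⟨0, by simp⟩
      smul_mem' := by
        rintro c b ⟨s, hs⟩
        refine ⟨c * s, fun i => ?_⟩
        have e : (c • b) i - c * s * a i = c * (b i - s * a i) := by
          rw [Pi.smul_apply, smul_eq_mul]; ring
        rw [e]
        exact K.mul_mem_left _ (hs i) }
  have hle : B ≤ D ⊔ maximalIdeal R • B := by
    intro b hb
    have hb1 : ∀ r : Fin m → R, ∑ i, r i * a i ∈ K ⊔ span {t} →
        ∑ i, r i * b i ∈ K ⊔ span {t} := by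
      intro r hr
      obtain ⟨y, hy⟩ := mem_sup_span_singleton.mp hr
      have hy1 : y ∈ K ⊔ span (Set.range a) := by
        refine h2 y ?_
        have e : t * y = ∑ i, r i * a i - (∑ i, r i * a i - y * t) := by ring
        rw [e]
        exact Ideal.sub_mem _ (Ideal.sum_mem _ fun i _ => Ideal.mul_mem_left _ _
          (mem_sup_right (subset_span ⟨i, rfl⟩))) (mem_sup_left hy)
      obtain ⟨k, hk, z, hz, hkz⟩ := Submodule.mem_sup.mp hy1
      obtain ⟨c, rfl⟩ := Ideal.mem_span_range_iff_exists_fun.mp hz
      have h3 : ∑ i, (r i - t * c i) * a i ∈ K := by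
        have e : ∑ i, (r i - t * c i) * a i = (∑ i, r i * a i - y * t) + t * k := by
          rw [← hkz]
          simp only [sub_mul, Finset.sum_sub_distrib, mul_assoc, add_mul, Finset.sum_mul]
          have : ∑ i, t * (c i * a i) = ∑ i, c i * (a i * t) :=
            Finset.sum_congr rfl fun i _ => by ring
          rw [this]; ring
        rw [e]
        exact K.add_mem hy (K.mul_mem_left _ hk)
      have h4 := hb _ h3
      rw [mem_sup_span_singleton]
      refine ⟨∑ i, c i * b i, ?_⟩
      have e : ∑ i, r i * b i - (∑ i, c i * b i) * t = ∑ i, (r i - t * c i) * b i := by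
        simp only [sub_mul, Finset.sum_sub_distrib, Finset.sum_mul]
        congr 1
        exact Finset.sum_congr rfl fun i _ => by ring
      rw [e]
      exact h4
    obtain ⟨s, hs⟩ := h b hb1
    choose b' hb' using fun i => mem_sup_span_singleton.mp (hs i)
    have hb'B : b' ∈ B := by
      intro r hr
      apply h1
      have e : t * ∑ i, r i * b' i = ∑ i, r i * b i - s * ∑ i, r i * a i -
          ∑ i, r i * (b i - s * a i - b' i * t) := by
        simp only [Finset.mul_sum, mul_sub, Finset.sum_sub_distrib]
        have e1 : ∑ i, r i * (s * a i) = ∑ i, s * (r i * a i) :=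
          Finset.sum_congr rfl fun i _ => by ring
        have e2 : ∑ i, r i * (b' i * t) = ∑ i, t * (r i * b' i) :=
          Finset.sum_congr rfl fun i _ => by ring
        rw [e1, e2]; ring
      rw [e]
      exact K.sub_mem (K.sub_mem (hb r hr) (K.mul_mem_left _ hr))
        (Ideal.sum_mem _ fun i _ => K.mul_mem_left _ (hb' i))
    have e : b = (b - t • b') + t • b' := by simp
    rw [e]
    refine Submodule.add_mem_sup ⟨s, fun i => ?_⟩ (Submodule.smul_mem_smul ht hb'B)
    have := hb' i
    rw [Pi.sub_apply, Pi.smul_apply, smul_eq_mul]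
    have e : b i - t * b' i - s * a i = b i - s * a i - b' i * t := by ring
    rw [e]
    exact this
  have hBD : B ≤ D := Submodule.le_of_le_smul_of_le_jacobson_bot (IsNoetherian.noetherian B)
    (maximalIdeal_le_jacobson _) hle
  intro b hb
  exact hBD hb

/-- The base case: Artinian quotient with cyclic socle. -/
theorem IsMult.of_artinian [IsLocalRing R] {K : Ideal R} (hK : K ≤ maximalIdeal R)
    [IsArtinianRing (R ⧸ K)] (s : R) (hs1 : ∀ a ∈ maximalIdeal R, a * s ∈ K)
    (hs : ∀ x, (∀ a ∈ maximalIdeal R, a * x ∈ K) → x ∈ K ⊔ span {s}) {m : ℕ} (a : Fin m → R) :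
    IsMult K a := by
  intro b hb
  have hnt : Nontrivial (R ⧸ K) := Ideal.Quotient.nontrivial_iff.mpr
    (ne_top_of_le_ne_top (Ideal.IsPrime.ne_top inferInstance) hK)
  have hloc : IsLocalRing (R ⧸ K) := .of_surjective' _ Ideal.Quotient.mk_surjective
  have hmax : maximalIdeal (R ⧸ K) = (maximalIdeal R).map (Ideal.Quotient.mk K) := by
    rcases Ideal.map_eq_top_or_isMaximal_of_surjective (Ideal.Quotient.mk K)
      Ideal.Quotient.mk_surjective (I := maximalIdeal R) inferInstance with h | h
    · exfalso
      have h1 : (1 : R ⧸ K) ∈ (maximalIdeal R).map (Ideal.Quotient.mk K) := by rw [h]; trivial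
      rw [Ideal.mem_map_iff_of_surjective _ Ideal.Quotient.mk_surjective] at h1
      obtain ⟨x, hx, hx1⟩ := h1
      rw [← map_one (Ideal.Quotient.mk K), Ideal.Quotient.eq] at hx1
      have h2 := Ideal.sub_mem _ hx (hK hx1)
      rw [sub_sub_cancel] at h2
      exact (Ideal.ne_top_iff_one _).mp (Ideal.IsPrime.ne_top inferInstance) h2
    · exact (eq_maximalIdeal h).symm
  have hs1' : ∀ y ∈ maximalIdeal (R ⧸ K), y * Ideal.Quotient.mk K s = 0 := by
    intro y hy
    rw [hmax, Ideal.mem_map_iff_of_surjective _ Ideal.Quotient.mk_surjective] at hy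
    obtain ⟨x, hx, rfl⟩ := hy
    rw [← map_mul, Ideal.Quotient.eq_zero_iff_mem]
    exact hs1 x hx
  have hs' : ∀ x, (∀ y ∈ maximalIdeal (R ⧸ K), y * x = 0) → x ∈ span {Ideal.Quotient.mk K s} := by
    intro x hx
    obtain ⟨x, rfl⟩ := Ideal.Quotient.mk_surjective x
    have h1 := hs x (fun y hy => by
      rw [← Ideal.Quotient.eq_zero_iff_mem, map_mul]
      exact hx _ (by rw [hmax]; exact Ideal.mem_map_of_mem _ hy))
    obtain ⟨y, hy⟩ := mem_sup_span_singleton.mp h1
    rw [← Ideal.Quotient.eq_zero_iff_mem, map_sub, sub_eq_zero, map_mul] at hy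
    rw [hy]
    exact Ideal.mul_mem_left _ _ (mem_span_singleton_self _)
  let L : (Fin m → R ⧸ K) →ₗ[R ⧸ K] (R ⧸ K) :=
    Fintype.linearCombination (R ⧸ K) (fun i => Ideal.Quotient.mk K (a i))
  let k : (Fin m → R ⧸ K) →ₗ[R ⧸ K] (R ⧸ K) :=
    Fintype.linearCombination (R ⧸ K) (fun i => Ideal.Quotient.mk K (b i))
  have hL : ∀ r : Fin m → R, L (fun i => Ideal.Quotient.mk K (r i)) =
      Ideal.Quotient.mk K (∑ i, r i * a i) := by
    intro r
    simp [L, Fintype.linearCombination_apply]
  have hk : ∀ r : Fin m → R, k (fun i => Ideal.Quotient.mk K (r i)) =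
      Ideal.Quotient.mk K (∑ i, r i * b i) := by
    intro r
    simp [k, Fintype.linearCombination_apply]
  obtain ⟨c, hc⟩ := exists_mul_of_ker_le _ hs1' hs' L k (by
    intro v hv
    choose r hr using fun i => Ideal.Quotient.mk_surjective (v i)
    obtain rfl : v = fun i => Ideal.Quotient.mk K (r i) := funext fun i => (hr i).symm
    rw [LinearMap.mem_ker, hL, Ideal.Quotient.eq_zero_iff_mem] at hv
    rw [LinearMap.mem_ker, hk, Ideal.Quotient.eq_zero_iff_mem]
    exact hb r hv)
  obtain ⟨c, rfl⟩ := Ideal.Quotient.mk_surjective c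
  refine ⟨c, fun i => ?_⟩
  have h1 := hc (Pi.single i 1)
  have e1 : L (Pi.single i 1) = Ideal.Quotient.mk K (a i) := by
    simp [L, Fintype.linearCombination_apply_single]
  have e2 : k (Pi.single i 1) = Ideal.Quotient.mk K (b i) := by
    simp [k, Fintype.linearCombination_apply_single]
  rw [e1, e2] at h1
  rw [← Ideal.Quotient.eq_zero_iff_mem, map_sub, map_mul, h1, sub_self]

theorem ofList_le_maximalIdeal [IsLocalRing R] {l : List R} (h : ∀ r ∈ l, r ∈ maximalIdeal R) :
    ofList l ≤ maximalIdeal R := span_le.mpr h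

/-- Exchange: the quotient by a regular sequence still has a regular sequence of the
complementary length. -/
theorem exists_reg_sup [IsLocalRing R] [IsNoetherianRing R] (l₁ : List R) :
    ∀ (J : Ideal R) (l₂ : List R) (k : ℕ), Reg J l₁ → Reg J l₂ → (∀ r ∈ l₁, r ∈ maximalIdeal R) →
      (∀ r ∈ l₂, r ∈ maximalIdeal R) → l₂.length = l₁.length + k →
      ∃ l₃ : List R, l₃.length = k ∧ (∀ r ∈ l₃, r ∈ maximalIdeal R) ∧
        Reg (J ⊔ ofList l₁) l₃ := by
  induction l₁ with
  | nil =>
    intro J l₂ k _ h2 _ hm2 hlen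
    exact ⟨l₂, by simpa using hlen, hm2, by simpa using h2⟩
  | cons x l₁ ih =>
    intro J l₂ k h1 h2 hm1 hm2 hlen
    have hx : x ∈ maximalIdeal R := hm1 x List.mem_cons_self
    obtain ⟨l, hl1, hl2, hl3⟩ : ∃ l : List R, l.length = l₁.length + k ∧
        (∀ r ∈ l, r ∈ maximalIdeal R) ∧ Reg (J ⊔ span {x}) l := by
      by_cases hJ : J ≤ maximalIdeal R
      · have hnt : Nontrivial (R ⧸ J) := Ideal.Quotient.nontrivial_iff.mpr
          (ne_top_of_le_ne_top (Ideal.IsPrime.ne_top inferInstance) hJ)
        obtain ⟨l, hl1, hl2, hl3⟩ :=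
          Groth.Agent.Ega4A.Depth.exists_isWeaklyRegular_quotSMulTop (R := R) (M := R ⧸ J)
          (I := maximalIdeal R) (Groth.Agent.Ega4A.Depth.smul_top_ne_top le_rfl) hx
          ((isSMulRegular_quot_iff J x).mpr h1.1) (l₁.length + k)
          ⟨l₂, by rw [hlen, List.length_cons]; ring, hm2, (reg_iff J l₂).mp h2⟩
        refine ⟨l, hl1, hl2, ?_⟩
        obtain ⟨e⟩ := nonempty_quotSMulTop_equiv J x
        rw [reg_iff, ← e.isWeaklyRegular_congr]
        exact hl3
      · have hJt : J = ⊤ := by
          by_contra hne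
          exact hJ (le_maximalIdeal hne)
        refine ⟨List.replicate (l₁.length + k) x, by simp, fun r hr => ?_, ?_⟩
        · rw [List.eq_of_mem_replicate hr]; exact hx
        · subst hJt
          rw [top_sup_eq]
          generalize List.replicate (l₁.length + k) x = l
          induction l with
          | nil => trivial
          | cons a l ih => exact ⟨fun _ _ => trivial, by rwa [top_sup_eq]⟩
    obtain ⟨l₃, h31, h32, h33⟩ := ih (J ⊔ span {x}) l k h1.2 hl3
      (fun r hr => hm1 r (List.mem_cons_of_mem _ hr)) hl2 hl1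
    exact ⟨l₃, h31, h32, by rwa [ofList_cons, ← sup_assoc]⟩

end MultProp

section Regular

variable {R : Type u} [CommRing R] [IsRegularLocalRing R]

/-- Regular system of parameters. -/
theorem exists_param (d : ℕ) (hd : ringKrullDim R = d) :
    ∃ x : Fin d → R, span (Set.range x) = maximalIdeal R ∧ IsWeaklyRegular R (List.ofFn x) := by
  have hfg : Submodule.FG (maximalIdeal R) := (isNoetherianRing_iff_ideal_fg R).mp inferInstance _
  have hcard : Nat.card (Submodule.generators (maximalIdeal R)) = d := by
    rw [Nat.card_coe_set_eq, hfg.generators_ncard]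
    have := IsRegularLocalRing.spanFinrank_maximalIdeal (R := R)
    rw [hd] at this
    exact_mod_cast this
  have : Finite (Submodule.generators (maximalIdeal R)) := hfg.finite_generators
  let e := (Finite.equivFinOfCardEq hcard).symm
  have hx : span (Set.range (fun i => ((e i : Submodule.generators (maximalIdeal R)) : R))) =
      maximalIdeal R := by
    have h1 : Set.range (fun i => ((e i : Submodule.generators (maximalIdeal R)) : R)) =
        Submodule.generators (maximalIdeal R) := by
      ext y
      constructor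
      · rintro ⟨i, rfl⟩; exact (e i).2
      · intro hy; exact ⟨e.symm ⟨y, hy⟩, by simp⟩
    rw [h1]
    exact Submodule.span_generators (maximalIdeal R)
  exact ⟨_, hx, (Groth.Agent.S0559.result R d hd _ hx).toIsWeaklyRegular⟩

/-- A maximal regular sequence of a regular local ring gives a Gorenstein Artinian quotient. -/
theorem isMult_of_length_eq (l : List R) (hl : Reg ⊥ l)
    (hlm : ∀ r ∈ l, r ∈ maximalIdeal R) (hlen : (l.length : WithBot ℕ∞) = ringKrullDim R)
    {m : ℕ} (a : Fin m → R) : IsMult (ofList l) a := by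
  have hw := reg_bot_iff.mp hl
  have hreg : IsRegular R l := .of_isWeaklyRegular_of_mem_maximalIdeal R hlm hw
  have hdim := ringKrullDim_add_length_eq_ringKrullDim_of_isRegular l hreg
  obtain ⟨d, g, rfl⟩ : ∃ (d : ℕ) (g : Fin d → R), l = List.ofFn g :=
    ⟨l.length, l.get, (List.ofFn_get l).symm⟩
  rw [List.length_ofFn] at hlen hdim
  obtain ⟨x, hx, hxr⟩ := exists_param (R := R) d hlen.symm
  have hgm : ∀ i, g i ∈ maximalIdeal R := fun i => hlm _ (List.mem_ofFn.mpr ⟨i, rfl⟩)
  have hxm : ∀ i, x i ∈ maximalIdeal R := fun i => hx ▸ subset_span ⟨i, rfl⟩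
  choose M hM using fun i => Ideal.mem_span_range_iff_exists_fun.mp (hx.symm ▸ hgm i)
  have hM' : ∀ i, g i = ∑ j, Matrix.of M i j * x j := fun i => (hM i).symm
  have hart : IsArtinianRing (R ⧸ ofList (List.ofFn g)) := by
    rw [isArtinianRing_iff_krullDimLE_zero, Ring.krullDimLE_iff]
    rw [← hlen] at hdim
    generalize ringKrullDim (R ⧸ ofList (List.ofFn g)) = D at hdim
    induction D using WithBot.recBotCoe with
    | bot => exact bot_le
    | coe e =>
      induction e using ENat.recTopCoe with
      | top => 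
        exfalso
        have h1 : ((⊤ : ℕ∞) : WithBot ℕ∞) + (d : WithBot ℕ∞) = (((⊤ : ℕ∞) + (d : ℕ∞) : ℕ∞) :
          WithBot ℕ∞) := rfl
        rw [h1, top_add] at hdim
        have h2 : (⊤ : ℕ∞) = (d : ℕ∞) := by exact_mod_cast hdim
        exact ENat.natCast_ne_top d h2.symm
      | coe e =>
        have h1 : e + d = d := by exact_mod_cast hdim
        have h2 : e = 0 := by omega
        rw [h2]
        exact le_rfl
  refine IsMult.of_artinian (ofList_le_maximalIdeal hlm) (Matrix.of M).det ?_ ?_ a
  · intro y hy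
    rw [← hx] at hy
    obtain ⟨c, rfl⟩ := Ideal.mem_span_range_iff_exists_fun.mp hy
    rw [Finset.sum_mul, ofList_ofFn]
    refine Ideal.sum_mem _ fun j _ => ?_
    have e : c j * x j * (Matrix.of M).det = c j * ((Matrix.of M).det * x j) := by ring
    rw [e]
    exact Ideal.mul_mem_left _ _ (det_mul_mem hM' j)
  · intro y hy
    rw [ofList_ofFn]
    refine mem_span_sup_span_det hM' hw hxr hgm hxm y fun j => ?_
    rw [← ofList_ofFn, mul_comm]
    exact hy _ (hxm j)

/-- In a Noetherian local ring, if `R/K` and `R/I` both have positive depth there is an element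
of the maximal ideal regular on both. -/
theorem exists_regular_two {R : Type u} [CommRing R] [IsLocalRing R] [IsNoetherianRing R]
    (K I : Ideal R) (hK : ∃ t ∈ maximalIdeal R, ∀ x, t * x ∈ K → x ∈ K)
    (hI : ∃ t ∈ maximalIdeal R, ∀ x, t * x ∈ I → x ∈ I) :
    ∃ t ∈ maximalIdeal R, (∀ x, t * x ∈ K → x ∈ K) ∧ (∀ x, t * x ∈ I → x ∈ I) := by
  classical
  obtain ⟨c, hc, h⟩ := exists_add_notMem
    ((associatedPrimes.finite R (R ⧸ K)).toFinset ∪ (associatedPrimes.finite R (R ⧸ I)).toFinset)
    (by
      intro P hP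
      rcases Finset.mem_union.mp hP with hP | hP
      · exact ((Set.Finite.mem_toFinset _).mp hP).isPrime
      · exact ((Set.Finite.mem_toFinset _).mp hP).isPrime) (maximalIdeal R) 0 (by
      intro P hP hle
      rcases Finset.mem_union.mp hP with hP | hP
      · obtain ⟨t, ht, h⟩ := hK
        exact (regular_iff_notMem K t).mp h P ((Set.Finite.mem_toFinset _).mp hP)
          (hle (mem_sup_left ht))
      · obtain ⟨t, ht, h⟩ := hI
        exact (regular_iff_notMem I t).mp h P ((Set.Finite.mem_toFinset _).mp hP)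
          (hle (mem_sup_left ht)))
  rw [zero_add] at h
  exact ⟨c, hc,
    (regular_iff_notMem K c).mpr fun P hP => h P
      (Finset.mem_union_left _ ((Set.Finite.mem_toFinset _).mpr hP)),
    (regular_iff_notMem I c).mpr fun P hP => h P
      (Finset.mem_union_right _ ((Set.Finite.mem_toFinset _).mpr hP))⟩

/-- **Main theorem**: `R` regular local, `l` a regular sequence, `R/I` maximal Cohen–Macaulay over
`R/(l)` where `I = (l) + (a)`; then `Ext¹_{R/(l)}(R/I, R/(l)) = 0`, i.e. all maps
`I/(l) → R/(l)` are multiplications. -/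
theorem isMult_of_mcm (k : ℕ) : ∀ (l : List R), Reg ⊥ l → (∀ r ∈ l, r ∈ maximalIdeal R) →
    (((l.length + k : ℕ) : ℕ∞) : WithBot ℕ∞) = ringKrullDim R → ∀ {m : ℕ} (a : Fin m → R)
    (l' : List R), l'.length = k → (∀ r ∈ l', r ∈ maximalIdeal R) →
    Reg (ofList l ⊔ span (Set.range a)) l' → IsMult (ofList l) a := by
  induction k with
  | zero =>
    intro l hl hlm hdim m a l' _ _ _
    exact isMult_of_length_eq l hl hlm (by simpa using hdim) a
  | succ k ih =>
    intro l hl hlm hdim m a l' hlen hl'm hl'
    obtain ⟨x, hx, hxr⟩ := exists_param (R := R) (l.length + (k + 1)) hdim.symm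
    have hxm : ∀ r ∈ List.ofFn x, r ∈ maximalIdeal R := by
      intro r hr
      obtain ⟨i, rfl⟩ := List.mem_ofFn.mp hr
      exact hx ▸ subset_span ⟨i, rfl⟩
    obtain ⟨l₃, h31, h32, h33⟩ := exists_reg_sup l ⊥ (List.ofFn x) (k + 1) hl
      (reg_bot_iff.mpr hxr) hlm hxm (by rw [List.length_ofFn])
    rw [bot_sup_eq] at h33
    obtain ⟨t, htm, htK, htI⟩ := exists_regular_two (ofList l) (ofList l ⊔ span (Set.range a))
      (by
        match l₃, h31 with
        | t :: _, _ => exact ⟨t, h32 t List.mem_cons_self, h33.1⟩)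
      (by
        match l', hlen with
        | t :: _, _ => exact ⟨t, hl'm t List.mem_cons_self, hl'.1⟩)
    refine IsMult.of_sup_span htm htK htI ?_
    have e1 : ofList l ⊔ span {t} = ofList (l ++ [t]) := by
      rw [ofList_append, ofList_singleton]
    obtain ⟨l₄, h41, h42, h43⟩ := exists_reg_sup [t] (ofList l ⊔ span (Set.range a)) l' k
      ⟨htI, trivial⟩ hl' (by
        intro r hr
        rw [List.mem_singleton.mp hr]; exact htm) hl'm (by rw [hlen]; simp [add_comm])
    rw [e1]
    refine ih (l ++ [t]) ?_ ?_ ?_ a l₄ h41 h42 ?_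
    · rw [reg_append, bot_sup_eq]
      exact ⟨hl, htK, trivial⟩
    · intro r hr
      rcases List.mem_append.mp hr with hr | hr
      · exact hlm r hr
      · rw [List.mem_singleton.mp hr]; exact htm
    · rw [← hdim]
      simp only [List.length_append, List.length_singleton]
      congr 2
      ring
    · rw [ofList_append, sup_right_comm]
      exact h43

end Regular

section Lift

variable {R : Type u} [CommRing R]

/-- `((K, t) : I) ≤ (K : I) + (K, t)`, i.e. `Hom(R/I, R/K) → Hom(R/I, R/(K,t))` is onto. -/
theorem IsMult.exists_lift {K : Ideal R} {m : ℕ} {a : Fin m → R} (h : IsMult K a) {t : R}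
    (ht : ∀ x, t * x ∈ K → x ∈ K) (x : R) (hx : ∀ i, x * a i ∈ K ⊔ span {t}) :
    ∃ y, (∀ i, y * a i ∈ K) ∧ x - y ∈ span {t} := by
  choose b hb using fun i => mem_sup_span_singleton.mp (hx i)
  obtain ⟨s, hs⟩ := h b (by
    intro r hr
    apply ht
    have e : t * ∑ i, r i * b i = x * ∑ i, r i * a i - ∑ i, r i * (x * a i - b i * t) := by
      simp only [Finset.mul_sum, mul_sub, Finset.sum_sub_distrib]
      have e1 : ∑ i, r i * (x * a i) = ∑ i, x * (r i * a i) :=
        Finset.sum_congr rfl fun i _ => by ring
      have e2 : ∑ i, r i * (b i * t) = ∑ i, t * (r i * b i) :=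
        Finset.sum_congr rfl fun i _ => by ring
      rw [e1, e2]; ring
    rw [e]
    exact K.sub_mem (K.mul_mem_left _ hr) (Ideal.sum_mem _ fun i _ => K.mul_mem_left _ (hb i)))
  refine ⟨x - s * t, fun i => ?_, ?_⟩
  · have e : (x - s * t) * a i = (x * a i - b i * t) + t * (b i - s * a i) := by ring
    rw [e]
    exact K.add_mem (hb i) (K.mul_mem_left _ (hs i))
  · rw [sub_sub_cancel]
    exact Ideal.mul_mem_left _ _ (mem_span_singleton_self t)

end Lift

/-- **Ext lifting lemma.** `R` regular local of dimension `n + k`, `f : Fin n → R` a regular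
sequence in the maximal ideal and in `I`, `R/I` having a regular sequence of length `k`
(maximal Cohen–Macaulay over `R/(f)`), `t` regular modulo `(f)`.
Then `((f, t) : I) ≤ ((f) : I) + (t)`. -/
theorem exists_lift {R : Type u} [CommRing R] [IsRegularLocalRing R] {n k : ℕ}
    (hdim : ringKrullDim R = (n + k : ℕ)) (f : Fin n → R) (hf : IsWeaklyRegular R (List.ofFn f))
    (hfm : ∀ i, f i ∈ maximalIdeal R) (I : Ideal R) (hfI : ∀ i, f i ∈ I) (l : List R)
    (hl : l.length = k) (hlm : ∀ r ∈ l, r ∈ maximalIdeal R) (hlI : IsWeaklyRegular (R ⧸ I) l)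
    (t : R) (ht : ∀ x, t * x ∈ span (Set.range f) → x ∈ span (Set.range f)) (x : R)
    (hx : ∀ a ∈ I, x * a ∈ span (Set.range f) ⊔ span {t}) :
    ∃ y, (∀ a ∈ I, y * a ∈ span (Set.range f)) ∧ x - y ∈ span {t} := by
  have hfg : I.FG := (isNoetherianRing_iff_ideal_fg R).mp inferInstance _
  obtain ⟨m, a, ha⟩ := Submodule.fg_iff_exists_fin_generating_family.mp hfg
  have ha' : span (Set.range a) = I := ha
  have hle : span (Set.range f) ≤ I := span_le.mpr (by rintro _ ⟨i, rfl⟩; exact hfI i)
  have hmult : IsMult (ofList (List.ofFn f)) a := by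
    refine isMult_of_mcm k (List.ofFn f) (reg_bot_iff.mpr hf) ?_ ?_ a l hl hlm ?_
    · intro r hr
      obtain ⟨i, rfl⟩ := List.mem_ofFn.mp hr
      exact hfm i
    · rw [List.length_ofFn, hdim]
      rfl
    · rw [ofList_ofFn, ha', sup_eq_right.mpr hle, reg_iff]
      exact hlI
  rw [ofList_ofFn] at hmult
  obtain ⟨y, hy1, hy2⟩ := hmult.exists_lift ht x
    (fun i => hx _ (ha' ▸ subset_span ⟨i, rfl⟩))
  refine ⟨y, fun z hz => ?_, hy2⟩
  rw [← ha'] at hz
  obtain ⟨c, rfl⟩ := Ideal.mem_span_range_iff_exists_fun.mp hz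
  rw [Finset.mul_sum]
  refine Ideal.sum_mem _ fun i _ => ?_
  have e : y * (c i * a i) = c i * (y * a i) := by ring
  rw [e]
  exact Ideal.mul_mem_left _ _ (hy1 i)

end Groth.Agent.Books.GorLift
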