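import Groth.Prelude.Def_LambdaRing
import Mathlib.Tactic.LinearCombination
import Mathlib.Tactic.Abel
import Mathlib.RingTheory.Polynomial.Vieta

/-!
# Lambda rings: additivity of the Adams operations, line elements, extensions
-/

set_option autoImplicit false
universe u

open PowerSeries Finset LambdaRing

namespace Groth.Agent.Books.Lambda1

section basic

variable {K : Type u} [CommRing K] [LambdaOps K]

@[simp]
lemma coeff_lamSeries (x : K) (n : ℕ) : coeff n (lamSeries x) = LambdaOps.lam n x := by
  simp [lamSeries]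

@[simp]
lemma constantCoeff_lamSeries (x : K) : constantCoeff (lamSeries x) = 1 := by
  rw [← coeff_zero_eq_constantCoeff_apply, coeff_lamSeries, LambdaOps.lam_zero]

/-- the generating series of the lambda operations is multiplicative -/
lemma lamSeries_add (x y : K) : lamSeries (x + y) = lamSeries x * lamSeries y := by
  ext n
  rw [coeff_lamSeries, LambdaOps.lam_add, coeff_mul,
    Finset.Nat.sum_antidiagonal_eq_sum_range_succ_mk]
  simp

lemma isUnit_lamSeries (x : K) : IsUnit (lamSeries x) := by
  rw [PowerSeries.isUnit_iff_constantCoeff, constantCoeff_lamSeries]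
  exact isUnit_one

lemma lamSeries_zero : lamSeries (0 : K) = 1 := by
  have h := lamSeries_add (0 : K) 0
  rw [add_zero] at h
  have h2 : lamSeries (0 : K) * lamSeries (0 : K) = lamSeries (0 : K) * 1 := by
    rw [mul_one, ← h]
  exact (isUnit_lamSeries (0 : K)).mul_left_cancel h2

lemma lamSeries_mul_neg (x : K) : lamSeries x * lamSeries (-x) = 1 := by
  rw [← lamSeries_add, add_neg_cancel, lamSeries_zero]

/-- the series `λ_(-t)(x)` -/
noncomputable def R (x : K) : PowerSeries K := PowerSeries.rescale (-1 : K) (lamSeries x)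

lemma R_add (x y : K) : R (x + y) = R x * R y := by
  rw [R, lamSeries_add, map_mul]; rfl

lemma constantCoeff_R (x : K) : constantCoeff (R x) = 1 := by
  rw [R, ← coeff_zero_eq_constantCoeff_apply, coeff_rescale]
  simp [LambdaOps.lam_zero]

lemma R_mul_inv (x : K) : R x * (R x).invOfUnit 1 = 1 :=
  mul_invOfUnit _ _ (by rw [constantCoeff_R]; rfl)

lemma adamsSeries_eq (P : PosStructure K) (x : K) : adamsSeries P x =
    PowerSeries.C (P.aug x : K) - PowerSeries.X * (PowerSeries.derivative K (R x)) *
      (R x).invOfUnit 1 := rfl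

lemma adamsSeries_add (P : PosStructure K) (x y : K) :
    adamsSeries P (x + y) = adamsSeries P x + adamsSeries P y := by
  simp only [adamsSeries_eq, R_add, map_add, Int.cast_add, Derivation.leibniz, smul_eq_mul]
  have hx := R_mul_inv x
  have hy := R_mul_inv y
  have hxy : R x * R y * (R x * R y).invOfUnit 1 = 1 := by rw [← R_add]; exact R_mul_inv _
  have h1 : (R x * R y).invOfUnit 1 = (R x).invOfUnit 1 * (R y).invOfUnit 1 := by
    calc (R x * R y).invOfUnit 1 =
        (R x * (R x).invOfUnit 1) * (R y * (R y).invOfUnit 1) * (R x * R y).invOfUnit 1 := by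
          rw [hx, hy]; ring
      _ = (R x).invOfUnit 1 * (R y).invOfUnit 1 * (R x * R y * (R x * R y).invOfUnit 1) := by ring
      _ = _ := by rw [hxy, mul_one]
  rw [h1]
  linear_combination (-(X * (PowerSeries.derivative K (R y)) * (R y).invOfUnit 1)) * hx -
    (X * (PowerSeries.derivative K (R x)) * (R x).invOfUnit 1) * hy

lemma adams_add (P : PosStructure K) (j : ℕ) (x y : K) :
    adams P j (x + y) = adams P j x + adams P j y := by
  simp [adams, adamsSeries_add]

/-- the Adams operation as an additive homomorphism -/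
noncomputable def adamsHom (P : PosStructure K) (j : ℕ) : K →+ K where
  toFun := adams P j
  map_zero' := by
    have h := adams_add P j 0 0
    rw [add_zero] at h
    exact left_eq_add.mp h
  map_add' := adams_add P j

@[simp]
lemma adamsHom_apply (P : PosStructure K) (j : ℕ) (x : K) : adamsHom P j x = adams P j x := rfl

lemma adams_zero_eq (P : PosStructure K) (x : K) : adams P 0 x = (P.aug x : K) := by
  simp [adams, adamsSeries_eq, mul_assoc]

lemma lamSeries_line (P : PosStructure K) (u : K) (hu : P.IsLine u) :
    lamSeries u = 1 + PowerSeries.C u * X := by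
  ext n
  rw [coeff_lamSeries]
  rcases n with _ | _ | n
  · simp [LambdaOps.lam_zero]
  · simp [LambdaOps.lam_one]
  · rw [P.lam_eq_zero u hu.1 _ (by rw [hu.2]; push_cast; omega)]
    rw [map_add, coeff_one, if_neg (by omega), coeff_C_mul, coeff_X, if_neg (by omega)]
    simp

lemma R_line (P : PosStructure K) (u : K) (hu : P.IsLine u) :
    R u = 1 - PowerSeries.C u * X := by
  rw [R, lamSeries_line P u hu, map_add, map_one, map_mul, rescale_X, sub_eq_add_neg]
  congr 1
  have : rescale (-1 : K) (PowerSeries.C u) = PowerSeries.C u := by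
    ext n
    rw [coeff_rescale, coeff_C]
    split_ifs with h
    · simp [h]
    · simp
  rw [this]
  simp

lemma adams_line (P : PosStructure K) (u : K) (hu : P.IsLine u) (j : ℕ) :
    adams P j u = u ^ j := by
  have h1 : (1 - PowerSeries.C u * X) * PowerSeries.mk (fun n => u ^ n) = 1 := by
    ext n
    rw [sub_mul, one_mul, map_sub, coeff_mk, mul_assoc, coeff_C_mul, mul_comm X, coeff_one]
    rcases n with _ | n
    · simp
    · rw [coeff_succ_mul_X, coeff_mk, if_neg (by omega), pow_succ]
      ring
  have h2 : (1 - PowerSeries.C u * X) * adamsSeries P u = 1 := by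
    rw [adamsSeries_eq]
    have h3 := R_mul_inv u
    rw [R_line P u hu] at h3 ⊢
    rw [hu.2]
    have h4 : (PowerSeries.derivative K) (1 - PowerSeries.C u * X) = - PowerSeries.C u := by
      rw [map_sub, Derivation.leibniz]
      simp
    rw [h4]
    have h5 : PowerSeries.C (((1 : ℤ) : K)) = 1 := by simp
    rw [h5]
    linear_combination X * PowerSeries.C u * h3
  have h3 : adamsSeries P u = PowerSeries.mk (fun n => u ^ n) := by
    calc adamsSeries P u = ((1 - PowerSeries.C u * X) * PowerSeries.mk (fun n => u ^ n)) *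
          adamsSeries P u := by rw [h1, one_mul]
      _ = ((1 - PowerSeries.C u * X) * adamsSeries P u) * PowerSeries.mk (fun n => u ^ n) := by ring
      _ = _ := by rw [h2, one_mul]
  rw [adams, h3, coeff_mk]

lemma isLine_one (P : PosStructure K) : P.IsLine 1 := by
  refine ⟨?_, by simp⟩
  have := P.natCast_mem 1 one_pos
  simpa using this

lemma IsLine_mul (P : PosStructure K) {u v : K} (hu : P.IsLine u) (hv : P.IsLine v) :
    P.IsLine (u * v) :=
  ⟨P.mul_mem _ _ hu.1 hv.1, by rw [map_mul, hu.2, hv.2, one_mul]⟩

lemma IsLine_pow (P : PosStructure K) {u : K} (hu : P.IsLine u) (j : ℕ) :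
    P.IsLine (u ^ j) := by
  induction j with
  | zero => simpa using isLine_one P
  | succ j ih => rw [pow_succ]; exact IsLine_mul P ih hu

lemma adams_one (P : PosStructure K) (j : ℕ) : adams P j 1 = 1 := by
  rw [adams_line P 1 (isLine_one P), one_pow]

lemma adams_multiset_sum (P : PosStructure K) (j : ℕ) (s : Multiset K)
    (hs : ∀ u ∈ s, P.IsLine u) : adams P j s.sum = (s.map (· ^ j)).sum := by
  have h1 : adams P j s.sum = (s.map (adams P j)).sum := by
    rw [← adamsHom_apply, map_multiset_sum]
    rfl
  rw [h1]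
  congr 1
  apply Multiset.map_congr rfl
  intro u hu
  exact adams_line P u (hs u hu) j

end basic

section ext

variable {K K' : Type u} [CommRing K] [LambdaOps K] [CommRing K'] [LambdaOps K']

lemma map_lamSeries {f : K →+* K'} (hf : IsLambdaHom f) (x : K) :
    PowerSeries.map f (lamSeries x) = lamSeries (f x) := by
  ext n
  rw [coeff_map, coeff_lamSeries, coeff_lamSeries, hf]

lemma map_R {f : K →+* K'} (hf : IsLambdaHom f) (x : K) :
    PowerSeries.map f (R x) = R (f x) := by
  ext n
  rw [coeff_map, R, R, coeff_rescale, coeff_rescale, coeff_lamSeries, coeff_lamSeries, map_mul, hf]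
  simp

lemma map_adams {P : PosStructure K} {P' : PosStructure K'} {f : K →+* K'}
    (hf : IsExtension P P' f) (j : ℕ) (x : K) : f (adams P j x) = adams P' j (f x) := by
  have h1 : PowerSeries.map f (adamsSeries P x) = adamsSeries P' (f x) := by
    rw [adamsSeries_eq, adamsSeries_eq]
    have hi : PowerSeries.map f ((R x).invOfUnit 1) = (R (f x)).invOfUnit 1 := by
      have h2 : R (f x) * PowerSeries.map f ((R x).invOfUnit 1) = 1 := by
        rw [← map_R hf.isLambdaHom, ← map_mul, R_mul_inv, map_one]
      have h3 := R_mul_inv (f x)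
      calc PowerSeries.map f ((R x).invOfUnit 1) =
          (R (f x) * (R (f x)).invOfUnit 1) * PowerSeries.map f ((R x).invOfUnit 1) := by
            rw [h3, one_mul]
        _ = (R (f x) * PowerSeries.map f ((R x).invOfUnit 1)) * (R (f x)).invOfUnit 1 := by ring
        _ = _ := by rw [h2, one_mul]
    have hd : PowerSeries.map f (PowerSeries.derivative K (R x)) =
        PowerSeries.derivative K' (R (f x)) := by
      rw [← map_R hf.isLambdaHom]
      ext n
      rw [coeff_map, coeff_derivative, coeff_derivative, coeff_map]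
      simp
    rw [map_sub, map_mul, map_mul, hi, hd, map_X, map_C, hf.aug_comp]
    simp
  rw [adams, adams, ← h1, coeff_map]

lemma IsLine_map {P : PosStructure K} {P' : PosStructure K'} {f : K →+* K'}
    (hf : IsExtension P P' f) {u : K} (hu : P.IsLine u) : P'.IsLine (f u) :=
  ⟨hf.pos_subset u hu.1, by rw [hf.aug_comp, hu.2]⟩

lemma IsExtension_comp {K'' : Type u} [CommRing K''] [LambdaOps K''] {P : PosStructure K}
    {P' : PosStructure K'} {P'' : PosStructure K''} {f : K →+* K'} {g : K' →+* K''}
    (hf : IsExtension P P' f) (hg : IsExtension P' P'' g) : IsExtension P P'' (g.comp f) where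
  isLambdaHom i x := by
    rw [RingHom.comp_apply, hf.isLambdaHom, hg.isLambdaHom]; rfl
  injective := hg.injective.comp hf.injective
  aug_comp x := by rw [RingHom.comp_apply, hg.aug_comp, hf.aug_comp]
  pos_subset e he := hg.pos_subset _ (hf.pos_subset _ he)

end ext

section splitting

variable {K : Type u} [CommRing K] [LambdaOps K]

/-- splitting of one positive element -/
lemma exists_split (P : PosStructure K) (hK : HasSplitting K P) (e : K) (he : e ∈ P.pos) :
    ∃ L' : PosLambdaRing.{u}, ∃ f : K →+* L'.carrier, IsExtension P L'.posStr f ∧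
      ∃ s : Multiset L'.carrier, (∀ u ∈ s, L'.posStr.IsLine u) ∧ s.sum = f e := by
  obtain ⟨C, hC, hsplit⟩ := hK
  obtain ⟨L', -, f, hf, s, hs⟩ := hsplit _ hC e he
  exact ⟨L', f, hf, s, hs⟩

/-- splitting of two positive elements -/
lemma exists_split₂ (P : PosStructure K) (hK : HasSplitting K P) (e e' : K) (he : e ∈ P.pos)
    (he' : e' ∈ P.pos) :
    ∃ L' : PosLambdaRing.{u}, ∃ f : K →+* L'.carrier, IsExtension P L'.posStr f ∧
      (∃ s : Multiset L'.carrier, (∀ u ∈ s, L'.posStr.IsLine u) ∧ s.sum = f e) ∧
      (∃ s : Multiset L'.carrier, (∀ u ∈ s, L'.posStr.IsLine u) ∧ s.sum = f e') := by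
  obtain ⟨C, hC, hsplit⟩ := hK
  obtain ⟨L', hL', f, hf, s, hs, hsum⟩ := hsplit _ hC e he
  obtain ⟨L'', hL'', g, hg, t, ht, htsum⟩ := hsplit _ hL' (f e') (hf.pos_subset _ he')
  refine ⟨L'', g.comp f, IsExtension_comp hf hg, ⟨s.map g, ?_, ?_⟩, ⟨t, ht, htsum⟩⟩
  · intro u hu
    obtain ⟨v, hv, rfl⟩ := Multiset.mem_map.mp hu
    exact IsLine_map hg (hs v hv)
  · rw [← map_multiset_sum, hsum]
    rfl

omit [LambdaOps K] in
lemma adams_line_mul_sum [LambdaOps K] (P : PosStructure K) (j : ℕ) (u : K) (hu : P.IsLine u)
    (t : Multiset K) (ht : ∀ v ∈ t, P.IsLine v) :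
    adams P j (u * t.sum) = u ^ j * (t.map (· ^ j)).sum := by
  have h1 : u * t.sum = (t.map (fun v => u * v)).sum := by
    rw [Multiset.sum_map_mul_left, Multiset.map_id']
  rw [h1, adams_multiset_sum P j]
  · rw [Multiset.map_map, ← Multiset.sum_map_mul_left]
    congr 1
    apply Multiset.map_congr rfl
    intro v _
    simp [mul_pow]
  · intro v hv
    obtain ⟨w, hw, rfl⟩ := Multiset.mem_map.mp hv
    exact IsLine_mul P hu (ht w hw)

lemma adams_sum_mul_sum (P : PosStructure K) (j : ℕ) (s t : Multiset K)
    (hs : ∀ u ∈ s, P.IsLine u) (ht : ∀ v ∈ t, P.IsLine v) :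
    adams P j (s.sum * t.sum) = adams P j s.sum * adams P j t.sum := by
  rw [adams_multiset_sum P j s hs, adams_multiset_sum P j t ht]
  induction s using Multiset.induction_on with
  | empty =>
    simp only [Multiset.sum_zero, zero_mul, Multiset.map_zero]
    exact (adamsHom P j).map_zero
  | cons u s ih =>
    rw [Multiset.sum_cons, add_mul, adams_add, Multiset.map_cons, Multiset.sum_cons, add_mul,
      ih (fun v hv => hs v (Multiset.mem_cons_of_mem hv)),
      adams_line_mul_sum P j u (hs u (Multiset.mem_cons_self _ _)) t ht]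

lemma adams_mul_of_pos (P : PosStructure K) (hK : HasSplitting K P) (j : ℕ) (e e' : K)
    (he : e ∈ P.pos) (he' : e' ∈ P.pos) : adams P j (e * e') = adams P j e * adams P j e' := by
  obtain ⟨L', f, hf, ⟨s, hs, hsum⟩, ⟨t, ht, htsum⟩⟩ := exists_split₂ P hK e e' he he'
  apply hf.injective
  rw [map_mul, map_adams hf, map_adams hf, map_adams hf, map_mul, ← hsum, ← htsum]
  exact adams_sum_mul_sum _ j s t hs ht

lemma adams_mul (P : PosStructure K) (hK : HasSplitting K P) (j : ℕ) (x y : K) :
    adams P j (x * y) = adams P j x * adams P j y := by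
  obtain ⟨a, b, ha, hb, rfl⟩ := P.exists_sub x
  obtain ⟨c, d, hc, hd, rfl⟩ := P.exists_sub y
  have h1 : (a - b) * (c - d) = a * c - a * d - b * c + b * d := by ring
  rw [h1]
  simp only [← adamsHom_apply, map_sub, map_add]
  simp only [adamsHom_apply]
  rw [adams_mul_of_pos P hK j a c ha hc, adams_mul_of_pos P hK j a d ha hd,
    adams_mul_of_pos P hK j b c hb hc, adams_mul_of_pos P hK j b d hb hd]
  ring

/-- the Adams operation as a ring homomorphism -/
noncomputable def adamsRingHom (P : PosStructure K) (hK : HasSplitting K P) (j : ℕ) : K →+* K where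
  toFun := adams P j
  map_one' := adams_one P j
  map_mul' := adams_mul P hK j
  map_zero' := (adamsHom P j).map_zero
  map_add' := adams_add P j

@[simp]
lemma adamsRingHom_apply (P : PosStructure K) (hK : HasSplitting K P) (j : ℕ) (x : K) :
    adamsRingHom P hK j x = adams P j x := rfl

lemma adams_adams_of_pos (P : PosStructure K) (hK : HasSplitting K P) (i j : ℕ) (e : K)
    (he : e ∈ P.pos) : adams P i (adams P j e) = adams P (i * j) e := by
  obtain ⟨L', f, hf, s, hs, hsum⟩ := exists_split P hK e he
  apply hf.injective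
  rw [map_adams hf, map_adams hf, map_adams hf, ← hsum, adams_multiset_sum _ j s hs,
    adams_multiset_sum _ i, adams_multiset_sum _ (i * j) s hs, Multiset.map_map]
  · congr 1
    apply Multiset.map_congr rfl
    intro u _
    simp [← pow_mul, mul_comm]
  · intro v hv
    obtain ⟨w, hw, rfl⟩ := Multiset.mem_map.mp hv
    exact IsLine_pow _ (hs w hw) j

lemma adams_adams (P : PosStructure K) (hK : HasSplitting K P) (i j : ℕ) (x : K) :
    adams P i (adams P j x) = adams P (i * j) x := by
  obtain ⟨a, b, ha, hb, rfl⟩ := P.exists_sub x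
  have h : ∀ m, adams P m (a - b) = adams P m a - adams P m b := fun m =>
    (adamsHom P m).map_sub a b
  have h' : ∀ y z, adams P i (y - z) = adams P i y - adams P i z := fun y z =>
    (adamsHom P i).map_sub y z
  rw [h, h, h', adams_adams_of_pos P hK i j a ha, adams_adams_of_pos P hK i j b hb]

/-- for a sum of line elements, `λ^i` is the elementary symmetric polynomial -/
lemma lamSeries_multiset_sum (P : PosStructure K) (s : Multiset K) (hs : ∀ u ∈ s, P.IsLine u) :
    lamSeries s.sum = (s.map (fun u => 1 + PowerSeries.C u * X)).prod := by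
  induction s using Multiset.induction_on with
  | empty => simp [lamSeries_zero]
  | cons u s ih =>
    rw [Multiset.sum_cons, lamSeries_add, Multiset.map_cons, Multiset.prod_cons,
      ih (fun v hv => hs v (Multiset.mem_cons_of_mem hv)),
      lamSeries_line P u (hs u (Multiset.mem_cons_self _ _))]

lemma aug_multiset_sum (P : PosStructure K) (s : Multiset K) (hs : ∀ u ∈ s, P.IsLine u) :
    P.aug s.sum = Multiset.card s := by
  rw [map_multiset_sum]
  have : s.map P.aug = s.map (fun _ => (1 : ℤ)) := Multiset.map_congr rfl (fun u hu => (hs u hu).2)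
  rw [this]
  simp

lemma aug_lam_multiset_sum (P : PosStructure K) (s : Multiset K) (hs : ∀ u ∈ s, P.IsLine u)
    (i : ℕ) : P.aug (LambdaOps.lam i s.sum) = ((Multiset.card s).choose i : ℤ) := by
  rw [← coeff_lamSeries, lamSeries_multiset_sum P s hs, ← coeff_map, map_multiset_prod,
    Multiset.map_map]
  have : s.map ((PowerSeries.map P.aug) ∘ (fun u => 1 + PowerSeries.C u * X)) =
      s.map (fun _ => (1 + X : PowerSeries ℤ)) := by
    apply Multiset.map_congr rfl
    intro u hu
    simp [(hs u hu).2]
  rw [this, Multiset.map_const', Multiset.prod_replicate]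
  have h2 : ((1 + X : PowerSeries ℤ)) ^ (Multiset.card s) =
      (((1 + Polynomial.X) ^ (Multiset.card s) : Polynomial ℤ) : PowerSeries ℤ) := by
    simp
  rw [h2, Polynomial.coeff_coe, Polynomial.coeff_one_add_X_pow]

end splitting

end Groth.Agent.Books.Lambda1
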