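import Groth.Agent.Books.Lambda1
import Mathlib.RingTheory.PowerSeries.Substitution
import Mathlib.RingTheory.PowerSeries.WellKnown

/-!
# Lambda rings: the gamma operations and the gamma filtration
-/

set_option autoImplicit false
universe u

open PowerSeries Finset LambdaRing

namespace Groth.Agent.Books.Lambda2

open Groth.Agent.Books.Lambda1

section gamma

variable {K : Type u} [CommRing K]

/-- the series `t / (1 - t)` -/
noncomputable def T (K : Type u) [CommRing K] : PowerSeries K := X * PowerSeries.mk 1

lemma T_mul_one_sub : T K * (1 - X) = X := by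
  rw [T, mul_assoc, PowerSeries.mk_one_mul_one_sub_eq_one, mul_one]

lemma coeff_T_pow_of_lt {k j : ℕ} (h : k < j) : coeff k (T K ^ j) = 0 := by
  rw [T, mul_pow, mul_comm, coeff_mul_X_pow', if_neg (by omega)]

lemma coeff_T_pow {k j : ℕ} (hk : k ≠ 0) :
    coeff k (T K ^ j) = if j = 0 then 0 else (Nat.choose (k - 1) (j - 1) : K) := by
  rcases j with _ | j
  · simp [coeff_one, hk]
  · rw [if_neg (by omega)]
    rcases lt_or_ge k (j + 1) with h | h
    · rw [coeff_T_pow_of_lt h, Nat.choose_eq_zero_of_lt (by omega)]
      simp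
    · rw [T, mul_pow, mul_comm, coeff_mul_X_pow', if_pos h, PowerSeries.mk_one_pow_eq_mk_choose_add,
        coeff_mk]
      congr 2
      omega

lemma hasSubst_T : PowerSeries.HasSubst (T K) := by
  apply PowerSeries.HasSubst.of_constantCoeff_zero'
  simp [T]

variable [LambdaOps K]

/-- generating series of the gamma operations -/
noncomputable def gammaSeries (x : K) : PowerSeries K := PowerSeries.mk fun k => gamma k x

@[simp]
lemma coeff_gammaSeries (x : K) (k : ℕ) : coeff k (gammaSeries x) = gamma k x := by
  simp [gammaSeries]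

lemma gamma_zero (x : K) : gamma 0 x = 1 := by simp [gamma]

lemma gamma_eq_sum (k : ℕ) (x : K) :
    gamma k x = ∑ j ∈ range (k + 1), LambdaOps.lam j x * coeff k (T K ^ j) := by
  by_cases hk : k = 0
  · subst hk
    simp [gamma, LambdaOps.lam_zero]
  · rw [gamma, if_neg hk]
    apply Finset.sum_congr rfl
    intro j _
    rw [coeff_T_pow hk]
    split_ifs with hj
    · simp
    · ring

lemma gammaSeries_eq_subst (x : K) : gammaSeries x = (lamSeries x).subst (T K) := by
  ext k
  rw [PowerSeries.coeff_subst' hasSubst_T, coeff_gammaSeries, gamma_eq_sum]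
  rw [finsum_eq_sum_of_support_subset (s := range (k + 1))]
  · simp
  · intro j hj
    simp only [Function.mem_support] at hj
    simp only [coe_range, Set.mem_Iio]
    by_contra h
    apply hj
    rw [coeff_T_pow_of_lt (by omega), smul_zero]

lemma gammaSeries_add (x y : K) : gammaSeries (x + y) = gammaSeries x * gammaSeries y := by
  rw [gammaSeries_eq_subst, lamSeries_add, PowerSeries.subst_mul hasSubst_T,
    ← gammaSeries_eq_subst, ← gammaSeries_eq_subst]

lemma gamma_add (k : ℕ) (x y : K) :
    gamma k (x + y) = ∑ i ∈ range (k + 1), gamma i x * gamma (k - i) y := by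
  rw [← coeff_gammaSeries, gammaSeries_add, coeff_mul,
    Finset.Nat.sum_antidiagonal_eq_sum_range_succ_mk]
  simp

lemma constantCoeff_gammaSeries (x : K) : constantCoeff (gammaSeries x) = 1 := by
  rw [← coeff_zero_eq_constantCoeff_apply, coeff_gammaSeries, gamma_zero]

lemma isUnit_gammaSeries (x : K) : IsUnit (gammaSeries x) := by
  rw [PowerSeries.isUnit_iff_constantCoeff, constantCoeff_gammaSeries]
  exact isUnit_one

lemma gammaSeries_zero : gammaSeries (0 : K) = 1 := by
  have h := gammaSeries_add (0 : K) 0
  rw [add_zero] at h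
  have h2 : gammaSeries (0 : K) * gammaSeries (0 : K) = gammaSeries (0 : K) * 1 := by
    rw [mul_one, ← h]
  exact (isUnit_gammaSeries (0 : K)).mul_left_cancel h2

lemma gammaSeries_mul_neg (x : K) : gammaSeries x * gammaSeries (-x) = 1 := by
  rw [← gammaSeries_add, add_neg_cancel, gammaSeries_zero]

lemma gamma_one (x : K) : gamma 1 x = x := by
  rw [gamma, if_neg (by omega), sum_range_succ, sum_range_succ]
  simp [LambdaOps.lam_one]

lemma gammaSeries_line (P : PosStructure K) (u : K) (hu : P.IsLine u) :
    gammaSeries u = 1 + PowerSeries.C u * T K := by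
  rw [gammaSeries_eq_subst, lamSeries_line P u hu, PowerSeries.subst_add hasSubst_T,
    PowerSeries.subst_mul hasSubst_T, PowerSeries.subst_X hasSubst_T]
  congr 1
  · rw [← coe_substAlgHom hasSubst_T, map_one]
  · rw [PowerSeries.subst_C]; rfl

lemma one_sub_mul_gammaSeries_line (P : PosStructure K) (u : K) (hu : P.IsLine u) :
    (1 - X) * gammaSeries u = 1 + PowerSeries.C (u - 1) * X := by
  rw [gammaSeries_line P u hu, map_sub, map_one]
  have := T_mul_one_sub (K := K)
  linear_combination PowerSeries.C u * this

lemma one_sub_mul_gammaSeries_one (P : PosStructure K) :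
    (1 - X) * gammaSeries (1 : K) = 1 := by
  rw [one_sub_mul_gammaSeries_line P 1 (isLine_one P)]
  simp

lemma gammaSeries_neg_one (P : PosStructure K) : gammaSeries (-1 : K) = 1 - X := by
  have h1 := gammaSeries_mul_neg (1 : K)
  have h2 := one_sub_mul_gammaSeries_one P
  calc gammaSeries (-1 : K) = ((1 - X) * gammaSeries (1 : K)) * gammaSeries (-1) := by
        rw [h2, one_mul]
    _ = (1 - X) * (gammaSeries (1 : K) * gammaSeries (-1)) := by ring
    _ = _ := by rw [h1, mul_one]

lemma gammaSeries_sub_nat (P : PosStructure K) (x : K) (m : ℕ) :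
    gammaSeries (x - m) = (1 - X) ^ m * gammaSeries x := by
  induction m with
  | zero => simp
  | succ m ih =>
    have h1 : x - ((m + 1 : ℕ) : K) = (x - m) + (-1) := by push_cast; ring
    rw [h1, gammaSeries_add, ih, gammaSeries_neg_one P]
    ring

lemma gammaSeries_line_sub_one (P : PosStructure K) (u : K) (hu : P.IsLine u) :
    gammaSeries (u - 1) = 1 + PowerSeries.C (u - 1) * X := by
  have := gammaSeries_sub_nat P u 1
  rw [Nat.cast_one, pow_one, one_sub_mul_gammaSeries_line P u hu] at this
  exact this

/-- the gamma series of a positive element minus its rank -/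
lemma gammaSeries_pos_sub (P : PosStructure K) (e : K) (he : e ∈ P.pos) :
    gammaSeries (e - ((P.aug e).toNat : K)) =
      ∑ i ∈ range ((P.aug e).toNat + 1), PowerSeries.C (LambdaOps.lam i e) *
        (X ^ i * (1 - X) ^ ((P.aug e).toNat - i)) := by
  rw [gammaSeries_sub_nat P]
  set m := (P.aug e).toNat with hm
  have h1 : lamSeries e = ((∑ i ∈ range (m + 1), Polynomial.C (LambdaOps.lam i e) *
      Polynomial.X ^ i : Polynomial K) : PowerSeries K) := by
    ext n
    rw [coeff_lamSeries, Polynomial.coeff_coe, Polynomial.finset_sum_coeff]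
    simp only [Polynomial.coeff_C_mul, Polynomial.coeff_X_pow, mul_ite, mul_one, mul_zero]
    rw [Finset.sum_ite_eq]
    split_ifs with h
    · rfl
    · apply P.lam_eq_zero e he
      have h3 : ¬ n < m + 1 := by simpa using h
      have h2 := P.aug_pos e he
      omega
  have h2 : gammaSeries e = ∑ i ∈ range (m + 1), PowerSeries.C (LambdaOps.lam i e) * T K ^ i := by
    rw [gammaSeries_eq_subst, h1, ← coe_substAlgHom hasSubst_T, substAlgHom_coe hasSubst_T,
      map_sum]
    apply Finset.sum_congr rfl
    intro i _
    rw [map_mul, map_pow, Polynomial.aeval_X, Polynomial.aeval_C]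
    rfl
  rw [h2, Finset.mul_sum]
  apply Finset.sum_congr rfl
  intro i hi
  have hi' : i ≤ m := by
    have := Finset.mem_range.mp hi
    omega
  have h3 : (1 - X : PowerSeries K) ^ m = (1 - X) ^ i * (1 - X) ^ (m - i) := by
    rw [← pow_add]; congr 1; omega
  have h4 : X ^ i = T K ^ i * (1 - X) ^ i := by
    rw [← mul_pow, T_mul_one_sub]
  rw [h3, h4]
  ring

end gamma

section filtration

variable {K : Type u} [CommRing K] [LambdaOps K] (P : PosStructure K)

lemma filtration_zero : gammaFiltration P 0 = ⊤ := by simp [gammaFiltration]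

lemma mem_filtration_zero (x : K) : x ∈ gammaFiltration P 0 := by
  rw [filtration_zero]; trivial

/-- the generators of the gamma filtration -/
def gens (n : ℕ) : Set K :=
  {y | ∃ (l : List (ℕ × K)), (∀ p ∈ l, P.aug p.2 = 0) ∧ n ≤ (l.map Prod.fst).sum ∧
        y = (l.map fun p => gamma p.1 p.2).prod}

lemma filtration_of_ne_zero {n : ℕ} (hn : n ≠ 0) :
    gammaFiltration P n = AddSubgroup.closure (gens P n) := by
  rw [gammaFiltration, if_neg hn]; rfl

lemma gens_subset (n : ℕ) : gens P n ⊆ gammaFiltration P n := by
  by_cases hn : n = 0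
  · subst hn
    intro x _
    exact mem_filtration_zero P x
  · rw [filtration_of_ne_zero P hn]
    exact AddSubgroup.subset_closure

lemma filtration_anti {m n : ℕ} (h : m ≤ n) : gammaFiltration P n ≤ gammaFiltration P m := by
  by_cases hm : m = 0
  · subst hm
    rw [filtration_zero]
    exact le_top
  · rw [filtration_of_ne_zero P hm, filtration_of_ne_zero P (by omega)]
    apply AddSubgroup.closure_mono
    rintro y ⟨l, hl, hs, rfl⟩
    exact ⟨l, hl, by omega, rfl⟩

lemma gens_mul {m n : ℕ} {x y : K} (hx : x ∈ gens P m) (hy : y ∈ gens P n) :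
    x * y ∈ gens P (m + n) := by
  obtain ⟨l, hl, hs, rfl⟩ := hx
  obtain ⟨l', hl', hs', rfl⟩ := hy
  refine ⟨l ++ l', ?_, ?_, ?_⟩
  · intro p hp
    rcases List.mem_append.mp hp with h | h
    · exact hl p h
    · exact hl' p h
  · rw [List.map_append, List.sum_append]
    omega
  · rw [List.map_append, List.prod_append]

lemma gamma_mem_gens {x : K} (hx : P.aug x = 0) (n : ℕ) : gamma n x ∈ gens P n :=
  ⟨[(n, x)], by simpa using hx, by simp, by simp⟩

lemma gamma_mem_filtration {x : K} (hx : P.aug x = 0) (n : ℕ) :
    gamma n x ∈ gammaFiltration P n :=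
  gens_subset P n (gamma_mem_gens P hx n)

lemma gens_anti {m n : ℕ} (h : m ≤ n) : gens P n ⊆ gens P m := by
  rintro y ⟨l, hl, hs, rfl⟩
  exact ⟨l, hl, by omega, rfl⟩

/-- the gamma filtration consists of ideals -/
lemma mul_mem_filtration_left (n : ℕ) (a x : K) (hx : x ∈ gammaFiltration P n) :
    a * x ∈ gammaFiltration P n := by
  by_cases hn : n = 0
  · subst hn
    exact mem_filtration_zero P _
  · have hx' := hx
    rw [filtration_of_ne_zero P hn] at hx
    have h0 : P.aug (a - (P.aug a : K)) = 0 := by simp
    have key : (a - (P.aug a : K)) * x ∈ gammaFiltration P n := by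
      refine AddSubgroup.closure_induction
        (p := fun x _ => (a - (P.aug a : K)) * x ∈ gammaFiltration P n) ?_ ?_ ?_ ?_ hx
      · intro y hy
        have h1 : gamma 1 (a - (P.aug a : K)) ∈ gens P 1 := gamma_mem_gens P h0 1
        rw [gamma_one] at h1
        exact gens_subset P n (gens_anti P (by omega) (gens_mul P h1 hy))
      · simp [AddSubgroup.zero_mem]
      · intro y z _ _ hy hz
        rw [mul_add]
        exact AddSubgroup.add_mem _ hy hz
      · intro y _ hy
        rw [mul_neg]
        exact AddSubgroup.neg_mem _ hy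
    have h2 : a * x = (a - (P.aug a : K)) * x + (P.aug a) • x := by
      rw [zsmul_eq_mul]; ring
    rw [h2]
    exact AddSubgroup.add_mem _ key (AddSubgroup.zsmul_mem _ hx' _)

lemma mul_mem_filtration_right (n : ℕ) (a x : K) (hx : x ∈ gammaFiltration P n) :
    x * a ∈ gammaFiltration P n := by
  rw [mul_comm]; exact mul_mem_filtration_left P n a x hx

/-- the gamma filtration is multiplicative -/
lemma mul_mem_filtration (m n : ℕ) (x y : K) (hx : x ∈ gammaFiltration P m)
    (hy : y ∈ gammaFiltration P n) : x * y ∈ gammaFiltration P (m + n) := by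
  by_cases hm : m = 0
  · subst hm
    rw [zero_add]
    exact mul_mem_filtration_left P n x y hy
  by_cases hn : n = 0
  · subst hn
    rw [add_zero]
    exact mul_mem_filtration_right P m y x hx
  rw [filtration_of_ne_zero P hm] at hx
  rw [filtration_of_ne_zero P hn] at hy
  refine AddSubgroup.closure_induction
        (p := fun x _ => x * y ∈ gammaFiltration P (m + n)) ?_ ?_ ?_ ?_ hx
  · intro x hx
    refine AddSubgroup.closure_induction
        (p := fun y _ => x * y ∈ gammaFiltration P (m + n)) ?_ ?_ ?_ ?_ hy
    · intro y hy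
      exact gens_subset P _ (gens_mul P hx hy)
    · simp [AddSubgroup.zero_mem]
    · intro y z _ _ hy hz
      rw [mul_add]
      exact AddSubgroup.add_mem _ hy hz
    · intro y _ hy
      rw [mul_neg]
      exact AddSubgroup.neg_mem _ hy
  · simp [AddSubgroup.zero_mem]
  · intro y z _ _ hy hz
    rw [add_mul]
    exact AddSubgroup.add_mem _ hy hz
  · intro y _ hy
    rw [neg_mul]
    exact AddSubgroup.neg_mem _ hy

end filtration

end Groth.Agent.Books.Lambda2
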