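import Groth.Agent.Books.Lambda2
import Mathlib.RingTheory.MvPolynomial.Symmetric.FundamentalTheorem

/-!
# Lambda rings: the Adams operations on the gamma filtration
-/

set_option autoImplicit false
universe u

open Finset LambdaRing

namespace Groth.Agent.Books.Lambda3

open Groth.Agent.Books.Lambda1 Groth.Agent.Books.Lambda2

section esymm

variable {K : Type u} [CommRing K] [LambdaOps K]

lemma gammaSeries_sum {ι : Type*} (s : Finset ι) (x : ι → K) :
    gammaSeries (∑ i ∈ s, x i) = ∏ i ∈ s, gammaSeries (x i) := by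
  classical
  induction s using Finset.induction_on with
  | empty => simp [gammaSeries_zero]
  | insert a s ha ih => rw [Finset.sum_insert ha, Finset.prod_insert ha, gammaSeries_add, ih]

/-- the gamma operations of a sum of line elements minus its rank are elementary symmetric -/
lemma gamma_sum_line (P : PosStructure K) {m : ℕ} (u : Fin m → K) (hu : ∀ i, P.IsLine (u i))
    (k : ℕ) : gamma k (∑ i, u i - (m : K)) =
      ∑ t ∈ Finset.powersetCard k (Finset.univ : Finset (Fin m)), ∏ i ∈ t, (u i - 1) := by
  have h1 : ∑ i, u i - (m : K) = ∑ i, (u i - 1) := by simp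
  rw [h1, ← coeff_gammaSeries, gammaSeries_sum]
  have h2 : ∏ i : Fin m, gammaSeries (u i - 1) =
      ∏ i : Fin m, (1 + PowerSeries.C (u i - 1) * PowerSeries.X) :=
    Finset.prod_congr rfl (fun i _ => gammaSeries_line_sub_one P (u i) (hu i))
  rw [h2, Finset.prod_one_add, map_sum]
  have h3 : ∀ t : Finset (Fin m), PowerSeries.coeff k
      (∏ i ∈ t, (PowerSeries.C (u i - 1) * PowerSeries.X)) =
      if t.card = k then ∏ i ∈ t, (u i - 1) else 0 := by
    intro t
    rw [Finset.prod_mul_distrib, ← map_prod, Finset.prod_const, PowerSeries.coeff_C_mul,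
      PowerSeries.coeff_X_pow]
    split_ifs with h h' h'
    · simp
    · exact absurd h.symm h'
    · exact absurd h'.symm h
    · simp
  simp only [h3]
  rw [← Finset.sum_filter]
  apply Finset.sum_congr
  · ext t
    simp [Finset.mem_powersetCard]
  · intros; rfl

end esymm

section adams

variable {K : Type u} [CommRing K] [LambdaOps K] (P : PosStructure K) (hK : HasSplitting K P)

/-- polynomials whose coefficients lie in the filtration -/
def Rees (h : Polynomial K) : Prop := ∀ w, h.coeff w ∈ gammaFiltration P w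

lemma Rees_C (a : K) : Rees P (Polynomial.C a) := by
  intro w
  rw [Polynomial.coeff_C]
  split_ifs with h
  · subst h; exact mem_filtration_zero P a
  · exact AddSubgroup.zero_mem _

lemma Rees_add {g h : Polynomial K} (hg : Rees P g) (hh : Rees P h) : Rees P (g + h) := by
  intro w
  rw [Polynomial.coeff_add]
  exact AddSubgroup.add_mem _ (hg w) (hh w)

lemma Rees_mul {g h : Polynomial K} (hg : Rees P g) (hh : Rees P h) : Rees P (g * h) := by
  intro w
  rw [Polynomial.coeff_mul]
  apply AddSubgroup.sum_mem
  rintro ⟨a, b⟩ hab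
  rw [Finset.mem_antidiagonal] at hab
  rw [← hab]
  exact mul_mem_filtration P a b _ _ (hg a) (hh b)

lemma Rees_gamma {x : K} (hx : P.aug x = 0) (k : ℕ) :
    Rees P (Polynomial.C (gamma k x) * Polynomial.X ^ k) := by
  intro w
  rw [Polynomial.coeff_C_mul, Polynomial.coeff_X_pow]
  split_ifs with h
  · rw [mul_one, h]; exact gamma_mem_filtration P hx k
  · rw [mul_zero]; exact AddSubgroup.zero_mem _

lemma Rees_aeval {m : ℕ} {x : K} (hx : P.aug x = 0) (Q : MvPolynomial (Fin m) ℤ) :
    Rees P (MvPolynomial.aeval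
      (fun i : Fin m => Polynomial.C (gamma (i + 1) x) * Polynomial.X ^ ((i : ℕ) + 1)) Q) := by
  induction Q using MvPolynomial.induction_on with
  | C a =>
    rw [MvPolynomial.aeval_C]
    have : (algebraMap ℤ (Polynomial K)) a = Polynomial.C (a : K) := by simp
    rw [this]
    exact Rees_C P _
  | add p q hp hq => rw [map_add]; exact Rees_add P hp hq
  | mul_X p i hp =>
    rw [map_mul, MvPolynomial.aeval_X]
    exact Rees_mul P hp (Rees_gamma P hx _)

/-- the polynomial `((1 + yT)^j - 1)/T` -/
noncomputable def dd (j : ℕ) (y : K) : Polynomial K :=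
  Polynomial.C y * ∑ i ∈ range j, (1 + Polynomial.C y * Polynomial.X) ^ i

lemma X_mul_dd (j : ℕ) (y : K) :
    Polynomial.X * dd j y = (1 + Polynomial.C y * Polynomial.X) ^ j - 1 := by
  have h := mul_geom_sum (R := Polynomial K) (1 + Polynomial.C y * Polynomial.X) j
  rw [dd, ← h]
  ring

lemma coeff_zero_dd (j : ℕ) (y : K) : (dd j y).coeff 0 = j * y := by
  rw [dd, Polynomial.mul_coeff_zero, Polynomial.coeff_C_zero, Polynomial.finsetSum_coeff]
  have : ∀ i, ((1 + Polynomial.C y * Polynomial.X) ^ i : Polynomial K).coeff 0 = 1 := by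
    intro i
    rw [Polynomial.coeff_zero_eq_eval_zero]
    simp
  rw [Finset.sum_congr rfl (fun i _ => this i)]
  rw [Finset.sum_const, Finset.card_range, nsmul_eq_mul, mul_one, mul_comm]

/-- symmetric polynomial `e_r((1+Y_i)^j - 1)` -/
noncomputable def pp (m r j : ℕ) : MvPolynomial (Fin m) ℤ :=
  ∑ t ∈ Finset.powersetCard r (Finset.univ : Finset (Fin m)),
    ∏ i ∈ t, ((1 + MvPolynomial.X i) ^ j - 1)

lemma pp_isSymmetric (m r j : ℕ) : (pp m r j).IsSymmetric := by
  have h1 : pp m r j = MvPolynomial.aeval
      (fun i : Fin m => ((1 + MvPolynomial.X i) ^ j - 1 : MvPolynomial (Fin m) ℤ))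
      (MvPolynomial.esymm (Fin m) ℤ r) := by
    rw [MvPolynomial.esymm, map_sum, pp]
    apply Finset.sum_congr rfl
    intro t _
    rw [map_prod]
    apply Finset.prod_congr rfl
    intro i _
    rw [MvPolynomial.aeval_X]
  intro σ
  have h2 := MvPolynomial.esymm_isSymmetric (Fin m) ℤ r σ
  rw [h1]
  have h3 : MvPolynomial.rename σ (MvPolynomial.aeval
      (fun i : Fin m => ((1 + MvPolynomial.X i) ^ j - 1 : MvPolynomial (Fin m) ℤ))
      (MvPolynomial.esymm (Fin m) ℤ r)) = MvPolynomial.aeval
      (fun i : Fin m => ((1 + MvPolynomial.X i) ^ j - 1 : MvPolynomial (Fin m) ℤ))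
      (MvPolynomial.rename σ (MvPolynomial.esymm (Fin m) ℤ r)) := by
    rw [MvPolynomial.aeval_rename, ← AlgHom.comp_apply]
    congr 1
    apply MvPolynomial.algHom_ext
    intro i
    simp
  rw [h3, h2]

lemma exists_Q (m r j : ℕ) : ∃ Q : MvPolynomial (Fin m) ℤ,
    MvPolynomial.aeval (fun i : Fin m => MvPolynomial.esymm (Fin m) ℤ (i + 1)) Q = pp m r j := by
  obtain ⟨Q, hQ⟩ := MvPolynomial.esymmAlgHom_surjective (σ := Fin m) ℤ (n := m) (by simp)
    ⟨pp m r j, pp_isSymmetric m r j⟩
  refine ⟨Q, ?_⟩
  rw [← MvPolynomial.esymmAlgHom_apply, hQ]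

lemma map_gamma {K' : Type u} [CommRing K'] [LambdaOps K'] {f : K →+* K'} (hf : IsLambdaHom f)
    (k : ℕ) (x : K) : f (gamma k x) = gamma k (f x) := by
  rw [gamma_eq_sum, gamma_eq_sum, map_sum]
  apply Finset.sum_congr rfl
  intro i _
  rw [map_mul, hf]
  congr 1
  by_cases hk : k = 0
  · subst hk
    rcases i with _ | i
    · simp
    · rw [coeff_T_pow_of_lt (by omega), coeff_T_pow_of_lt (by omega), map_zero]
  · rw [coeff_T_pow hk, coeff_T_pow hk]
    split_ifs <;> simp

/-- splitting of one positive element, in a ring again having the splitting property,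
the line elements being indexed by `Fin` -/
lemma exists_split_fin (hK : HasSplitting K P) (e : K) (he : e ∈ P.pos) (m : ℕ)
    (hm : (P.aug e).toNat = m) :
    ∃ L' : PosLambdaRing.{u}, HasSplitting L'.carrier L'.posStr ∧
      ∃ f : K →+* L'.carrier, IsExtension P L'.posStr f ∧
      ∃ u : Fin m → L'.carrier, (∀ i, L'.posStr.IsLine (u i)) ∧
        ∑ i, u i = f e := by
  subst hm
  obtain ⟨C, hC, hsplit⟩ := hK
  obtain ⟨L', hL', f, hf, s, hs, hsum⟩ := hsplit _ hC e he
  refine ⟨L', ⟨C, hL', hsplit⟩, f, hf, ?_⟩
  have hcard : Multiset.card s = (P.aug e).toNat := by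
    have h1 := aug_multiset_sum L'.posStr s hs
    rw [hsum, hf.aug_comp] at h1
    change P.aug e = _ at h1
    rw [h1]
    simp
  induction s using Quot.induction_on with
  | h l =>
    have hl : l.length = (P.aug e).toNat := by simpa using hcard
    rw [← hl]
    refine ⟨l.get, ?_, ?_⟩
    · intro i
      apply hs
      simp
    · rw [← hsum, ← List.sum_ofFn, List.ofFn_get]
      simp

lemma aug_sub_toNat (e : K) (he : e ∈ P.pos) : P.aug (e - ((P.aug e).toNat : K)) = 0 := by
  have h := P.aug_pos e he
  rw [map_sub, map_natCast]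
  omega

include hK in
/-- the key congruence for a positive element minus its rank -/
lemma adams_gamma_pos (j : ℕ) (e : K) (he : e ∈ P.pos) (m : ℕ) (hm : (P.aug e).toNat = m)
    (r : ℕ) :
    adams P j (gamma r (e - (m : K))) -
      (j : K) ^ r * gamma r (e - (m : K)) ∈ gammaFiltration P (r + 1) := by
  obtain ⟨L', hKL, f, hf, u, hu, husum⟩ := exists_split_fin P hK e he m hm
  have hx0 := aug_sub_toNat P e he
  rw [hm] at hx0
  set x : K := e - (m : K) with hx
  obtain ⟨Q, hQ⟩ := exists_Q m r j
  set G : Polynomial K := MvPolynomial.aeval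
      (fun i : Fin m => Polynomial.C (gamma (i + 1) x) * Polynomial.X ^ ((i : ℕ) + 1)) Q with hG
  have hRees : Rees P G := Rees_aeval P hx0 Q
  have hfx : f x = ∑ i, u i - (m : L'.carrier) := by
    rw [hx, map_sub, map_natCast, husum]
  have hgam : ∀ k, f (gamma k x) =
      ∑ t ∈ Finset.powersetCard k (Finset.univ : Finset (Fin m)), ∏ i ∈ t, (u i - 1) := by
    intro k
    rw [map_gamma hf.isLambdaHom, hfx]
    exact gamma_sum_line L'.posStr u hu k
  have hmap : Polynomial.map f G = ∑ t ∈ Finset.powersetCard r (Finset.univ : Finset (Fin m)),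
      ∏ i ∈ t, ((1 + Polynomial.C (u i - 1) * Polynomial.X) ^ j - 1) := by
    have h1 : Polynomial.map f G = MvPolynomial.aeval (fun i : Fin m =>
        Polynomial.C (f (gamma (i + 1) x)) * Polynomial.X ^ ((i : ℕ) + 1)) Q := by
      have h2 : (Polynomial.mapRingHom f).comp (MvPolynomial.aeval (fun i : Fin m =>
          Polynomial.C (gamma (i + 1) x) * Polynomial.X ^ ((i : ℕ) + 1)) :
            MvPolynomial (Fin m) ℤ →ₐ[ℤ] Polynomial K).toRingHom =
          (MvPolynomial.aeval (fun i : Fin m =>
        Polynomial.C (f (gamma (i + 1) x)) * Polynomial.X ^ ((i : ℕ) + 1)) :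
            MvPolynomial (Fin m) ℤ →ₐ[ℤ] Polynomial L'.carrier).toRingHom := by
        apply MvPolynomial.ringHom_ext
        · intro a
          simp
        · intro i
          simp
      exact congrArg (fun g : MvPolynomial (Fin m) ℤ →+* Polynomial L'.carrier => g Q) h2
    have h3 : (fun i : Fin m =>
        Polynomial.C (f (gamma (i + 1) x)) * Polynomial.X ^ ((i : ℕ) + 1)) =
        fun i : Fin m => MvPolynomial.aeval
          (fun l : Fin m => Polynomial.C (u l - 1) * Polynomial.X)
          (MvPolynomial.esymm (Fin m) ℤ (i + 1)) := by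
      ext1 i
      rw [hgam, MvPolynomial.esymm, map_sum, map_sum, Finset.sum_mul]
      apply Finset.sum_congr rfl
      intro t ht
      rw [map_prod, map_prod]
      simp only [MvPolynomial.aeval_X]
      rw [Finset.prod_mul_distrib, Finset.prod_const, (Finset.mem_powersetCard.mp ht).2]
    rw [h1, h3]
    have h4 : MvPolynomial.aeval (fun i : Fin m => MvPolynomial.aeval
          (fun l : Fin m => Polynomial.C (u l - 1) * Polynomial.X)
          (MvPolynomial.esymm (Fin m) ℤ (i + 1))) Q =
        MvPolynomial.aeval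
          (fun l : Fin m => Polynomial.C (u l - 1) * Polynomial.X)
          (MvPolynomial.aeval (fun i : Fin m => MvPolynomial.esymm (Fin m) ℤ (i + 1)) Q) := by
      rw [← AlgHom.comp_apply, MvPolynomial.comp_aeval]
    rw [h4, hQ, pp, map_sum]
    apply Finset.sum_congr rfl
    intro t _
    rw [map_prod]
    apply Finset.prod_congr rfl
    intro i _
    simp
  have hmap2 : Polynomial.map f G = Polynomial.X ^ r *
      ∑ t ∈ Finset.powersetCard r (Finset.univ : Finset (Fin m)), ∏ i ∈ t, dd j (u i - 1) := by
    rw [hmap, Finset.mul_sum]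
    apply Finset.sum_congr rfl
    intro t ht
    have hc := (Finset.mem_powersetCard.mp ht).2
    rw [← hc, ← Finset.prod_const, ← Finset.prod_mul_distrib]
    apply Finset.prod_congr rfl
    intro i _
    rw [X_mul_dd]
  have hlow : ∀ w < r, G.coeff w = 0 := by
    intro w hw
    apply hf.injective
    rw [← Polynomial.coeff_map, hmap2, map_zero, Polynomial.coeff_X_pow_mul', if_neg (by omega)]
  have hr : G.coeff r = (j : K) ^ r * gamma r x := by
    apply hf.injective
    rw [← Polynomial.coeff_map, hmap2, Polynomial.coeff_X_pow_mul', if_pos le_rfl, Nat.sub_self,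
      map_mul, map_pow, map_natCast, hgam, Polynomial.finsetSum_coeff, Finset.mul_sum]
    apply Finset.sum_congr rfl
    intro t ht
    have hc := (Finset.mem_powersetCard.mp ht).2
    rw [← hc, ← Finset.prod_const, ← Finset.prod_mul_distrib]
    rw [Polynomial.coeff_zero_prod]
    apply Finset.prod_congr rfl
    intro i _
    rw [coeff_zero_dd]
  have heval : adams P j (gamma r x) = Polynomial.eval 1 G := by
    apply hf.injective
    rw [map_adams hf, hgam, ← Polynomial.eval_map_apply, hmap, map_one]
    have h5 : ∀ z, adams L'.posStr j z = adamsRingHom L'.posStr hKL j z := fun z => rfl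
    rw [h5, map_sum, Polynomial.eval_finsetSum]
    apply Finset.sum_congr rfl
    intro t _
    rw [map_prod, Polynomial.eval_prod]
    apply Finset.prod_congr rfl
    intro i _
    rw [map_sub, map_one, ← h5, adams_line _ _ (hu i)]
    simp
  rw [heval, Polynomial.eval_eq_sum_range' (n := max (G.natDegree + 1) (r + 1)) (by omega)]
  simp only [one_pow, mul_one]
  have hmem : r ∈ range (max (G.natDegree + 1) (r + 1)) := by
    rw [Finset.mem_range]; omega
  rw [← Finset.add_sum_erase _ _ hmem, hr, add_sub_cancel_left]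
  apply AddSubgroup.sum_mem
  intro w hw
  rw [Finset.mem_erase] at hw
  rcases lt_or_gt_of_ne hw.1 with h | h
  · rw [hlow w h]
    exact AddSubgroup.zero_mem _
  · exact filtration_anti P (by omega) (hRees w)

/-- `a` lies in the `n`-th step of the filtration and `ψ^j a ≡ j^n a` modulo the next one -/
def Good (j n : ℕ) (a : K) : Prop :=
  a ∈ gammaFiltration P n ∧ adams P j a - (j : K) ^ n * a ∈ gammaFiltration P (n + 1)

lemma Good.add {j n : ℕ} {a b : K} (ha : Good P j n a) (hb : Good P j n b) :
    Good P j n (a + b) := by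
  refine ⟨AddSubgroup.add_mem _ ha.1 hb.1, ?_⟩
  have : adams P j (a + b) - (j : K) ^ n * (a + b) = (adams P j a - (j : K) ^ n * a) +
      (adams P j b - (j : K) ^ n * b) := by
    rw [adams_add]; ring
  rw [this]
  exact AddSubgroup.add_mem _ ha.2 hb.2

lemma Good.neg {j n : ℕ} {a : K} (ha : Good P j n a) : Good P j n (-a) := by
  refine ⟨AddSubgroup.neg_mem _ ha.1, ?_⟩
  have : adams P j (-a) - (j : K) ^ n * (-a) = -(adams P j a - (j : K) ^ n * a) := by
    have h : adams P j (-a) = - adams P j a := (adamsHom P j).map_neg a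
    rw [h]; ring
  rw [this]
  exact AddSubgroup.neg_mem _ ha.2

lemma Good.zero (j n : ℕ) : Good P j n (0 : K) := by
  refine ⟨AddSubgroup.zero_mem _, ?_⟩
  have h : adams P j 0 = 0 := (adamsHom P j).map_zero
  rw [h, mul_zero, sub_zero]
  exact AddSubgroup.zero_mem _

lemma Good.sum {ι : Type*} (s : Finset ι) (g : ι → K) {j n : ℕ}
    (h : ∀ i ∈ s, Good P j n (g i)) : Good P j n (∑ i ∈ s, g i) := by
  classical
  induction s using Finset.induction_on with
  | empty => simpa using Good.zero P j n
  | insert a s ha ih =>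
    rw [Finset.sum_insert ha]
    exact (h a (Finset.mem_insert_self _ _)).add P
      (ih (fun i hi => h i (Finset.mem_insert_of_mem hi)))

lemma Good.adams_mem {j n : ℕ} {a : K} (ha : Good P j n a) :
    adams P j a ∈ gammaFiltration P n := by
  have : adams P j a = (adams P j a - (j : K) ^ n * a) + (j : K) ^ n * a := by ring
  rw [this]
  exact AddSubgroup.add_mem _ (filtration_anti P (by omega) ha.2)
    (mul_mem_filtration_left P n _ _ ha.1)

include hK in
lemma Good.mul {j n m : ℕ} {a b : K} (ha : Good P j n a) (hb : Good P j m b) :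
    Good P j (n + m) (a * b) := by
  refine ⟨mul_mem_filtration P _ _ _ _ ha.1 hb.1, ?_⟩
  have h : adams P j (a * b) - (j : K) ^ (n + m) * (a * b) =
      (adams P j a - (j : K) ^ n * a) * adams P j b +
        ((j : K) ^ n * a) * (adams P j b - (j : K) ^ m * b) := by
    rw [adams_mul P hK]
    ring
  rw [h]
  refine AddSubgroup.add_mem _ ?_ ?_
  · have := mul_mem_filtration P _ _ _ _ ha.2 (hb.adams_mem P)
    have e : n + 1 + m = n + m + 1 := by omega
    rwa [e] at this
  · have := mul_mem_filtration P _ _ _ _ (mul_mem_filtration_left P n ((j : K) ^ n) _ ha.1) hb.2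
    exact this

lemma Good.anti {j n m : ℕ} (h : m ≤ n) {a : K} (ha : Good P j n a) : Good P j m a := by
  rcases Nat.eq_or_lt_of_le h with rfl | h
  · exact ha
  refine ⟨filtration_anti P (by omega) ha.1, ?_⟩
  exact AddSubgroup.sub_mem _ (filtration_anti P (by omega) (ha.adams_mem P))
    (mul_mem_filtration_left P _ _ _ (filtration_anti P (by omega) ha.1))

lemma Good_gamma_neg (j : ℕ) (x : K) (hK : HasSplitting K P)
    (h : ∀ r, Good P j r (gamma r x)) : ∀ r, Good P j r (gamma r (-x)) := by
  intro r
  induction r using Nat.strong_induction_on with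
  | _ r ih =>
    rcases Nat.eq_zero_or_pos r with rfl | hr
    · have := h 0
      rw [gamma_zero] at this ⊢
      exact this
    · have h1 : ∑ i ∈ range (r + 1), gamma i x * gamma (r - i) (-x) = 0 := by
        rw [← gamma_add, add_neg_cancel, ← coeff_gammaSeries, gammaSeries_zero,
          PowerSeries.coeff_one, if_neg (by omega)]
      rw [Finset.sum_range_succ'] at h1
      rw [gamma_zero, one_mul, Nat.sub_zero] at h1
      have h2 : gamma r (-x) = - ∑ k ∈ range r, gamma (k + 1) x * gamma (r - (k + 1)) (-x) := by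
        exact eq_neg_of_add_eq_zero_right h1
      rw [h2]
      apply Good.neg
      apply Good.sum
      intro k hk
      have hk' := Finset.mem_range.mp hk
      have h3 := (h (k + 1)).mul P hK (ih (r - (k + 1)) (by omega))
      have e : k + 1 + (r - (k + 1)) = r := by omega
      rwa [e] at h3

lemma Good_gamma_add (j : ℕ) (x y : K) (hK : HasSplitting K P)
    (h : ∀ r, Good P j r (gamma r x)) (h' : ∀ r, Good P j r (gamma r y)) :
    ∀ r, Good P j r (gamma r (x + y)) := by
  intro r
  rw [gamma_add]
  apply Good.sum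
  intro k hk
  have hk' := Finset.mem_range.mp hk
  have h3 := (h k).mul P hK (h' (r - k))
  have e : k + (r - k) = r := by omega
  rwa [e] at h3

include hK in
lemma Good_gamma (j : ℕ) (x : K) (hx : P.aug x = 0) (r : ℕ) : Good P j r (gamma r x) := by
  obtain ⟨a, b, ha, hb, rfl⟩ := P.exists_sub x
  have hab : P.aug a = P.aug b := by
    rw [map_sub] at hx; omega
  have h1 : a - b = (a - ((P.aug a).toNat : K)) + (-(b - ((P.aug b).toNat : K))) := by
    rw [hab]; ring
  rw [h1]
  have key : ∀ e ∈ P.pos, ∀ r, Good P j r (gamma r (e - ((P.aug e).toNat : K))) := by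
    intro e he r
    exact ⟨gamma_mem_filtration P (aug_sub_toNat P e he) r, adams_gamma_pos P hK j e he _ rfl r⟩
  exact Good_gamma_add P j _ _ hK (key a ha) (Good_gamma_neg P j _ hK (key b hb)) r

include hK in
lemma Good_zero_all (j : ℕ) (x : K) : Good P j 0 x := by
  have h0 : P.aug (x - (P.aug x : K)) = 0 := by simp
  have h1 := (Good_gamma P hK j _ h0 1)
  rw [gamma_one] at h1
  have h2 : Good P j 0 (1 : K) := by
    refine ⟨mem_filtration_zero P _, ?_⟩
    rw [adams_one]
    simp [AddSubgroup.zero_mem]
  have h3 : ∀ n : ℤ, Good P j 0 (n : K) := by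
    intro n
    induction n using Int.induction_on with
    | zero => simpa using Good.zero P j 0
    | succ n ih =>
      have e : (((n : ℤ) + 1 : ℤ) : K) = ((n : ℤ) : K) + 1 := by push_cast; ring
      rw [e]
      exact ih.add P h2
    | pred n ih =>
      have e : (((-(n : ℤ) - 1 : ℤ)) : K) = ((-(n : ℤ) : ℤ) : K) + (-1) := by push_cast; ring
      rw [e]
      exact ih.add P (h2.neg P)
  have e : x = (x - (P.aug x : K)) + (P.aug x : K) := by ring
  rw [e]
  exact (h1.anti P (by omega)).add P (h3 _)

include hK in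
lemma Good_gens (j n : ℕ) (x : K) (hx : x ∈ gens P n) : Good P j n x := by
  obtain ⟨l, hl, hs, rfl⟩ := hx
  refine Good.anti P hs ?_
  clear hs
  induction l with
  | nil =>
    simpa using Good_zero_all P hK j 1
  | cons p l ih =>
    rw [List.map_cons, List.map_cons, List.sum_cons, List.prod_cons]
    exact (Good_gamma P hK j p.2 (hl p (List.mem_cons_self ..)) p.1).mul P hK
      (ih (fun q hq => hl q (List.mem_cons_of_mem _ hq)))

include hK in
/-- the Adams operation `ψ^j` acts on the `n`-th step of the gamma filtration as `j^n` modulo the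
next step -/
lemma Good_of_mem (j n : ℕ) (x : K) (hx : x ∈ gammaFiltration P n) : Good P j n x := by
  by_cases hn : n = 0
  · subst hn
    exact Good_zero_all P hK j x
  · rw [filtration_of_ne_zero P hn] at hx
    refine AddSubgroup.closure_induction (p := fun x _ => Good P j n x) ?_ ?_ ?_ ?_ hx
    · intro y hy
      exact Good_gens P hK j n y hy
    · exact Good.zero P j n
    · intro y z _ _ hy hz
      exact hy.add P hz
    · intro y _ hy
      exact hy.neg P

end adams

end Groth.Agent.Books.Lambda3
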