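import Mathlib.RingTheory.Regular.RegularSequence
import Mathlib.RingTheory.Ideal.AssociatedPrime.Finiteness
import Mathlib.LinearAlgebra.Matrix.Adjugate
import Mathlib.LinearAlgebra.Matrix.SchurComplement
import Mathlib.Tactic

/-!
# Linkage (Wiebe's lemma)

Let `R` be a Noetherian local ring, `J` an ideal, `f` and `h` two sequences of the same length
in the maximal ideal which are regular on `R ⧸ J`, with `f ≡ M h` modulo `J`.
Then `(J + (f)) : (h) = J + (f) + (det M)` and `(J + (f)) : det M = J + (h)`.
-/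

set_option autoImplicit false

universe u

open Ideal RingTheory.Sequence Pointwise

namespace Groth.Agent.Books.Linkage

section PrimeAvoidance

variable {R : Type u} [CommRing R]

/-- Coset prime avoidance. -/
theorem exists_add_notMem (s : Finset (Ideal R)) (hs : ∀ P ∈ s, P.IsPrime) (I : Ideal R) (x : R)
    (h : ∀ P ∈ s, ¬ (I ⊔ span {x} ≤ P)) : ∃ c ∈ I, ∀ P ∈ s, x + c ∉ P := by
  classical
  obtain ⟨n, hn⟩ : ∃ n, s.card = n := ⟨_, rfl⟩
  induction n using Nat.strong_induction_on generalizing s with
  | _ n ih =>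
  by_cases hne : s.Nonempty
  · obtain ⟨Q, hQ⟩ := s.exists_minimal hne
    obtain ⟨c, hc, hcP⟩ := ih (s.erase Q).card (by
      rw [← hn]; exact Finset.card_erase_lt_of_mem hQ.1) (s.erase Q)
      (fun P hP => hs P (Finset.mem_of_mem_erase hP))
      (fun P hP => h P (Finset.mem_of_mem_erase hP)) rfl
    by_cases hxQ : x + c ∈ Q
    · have hIQ : ¬ I ≤ Q := by
        intro hIQ
        refine h Q hQ.1 (sup_le hIQ ?_)
        rw [span_singleton_le_iff_mem]
        simpa using Q.sub_mem hxQ (hIQ hc)
      have hQp := hs Q hQ.1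
      obtain ⟨a, haI, haQ⟩ := Set.not_subset.mp hIQ
      have : ¬ (∏ P ∈ s.erase Q, P ≤ Q) := by
        intro hle
        obtain ⟨P, hP, hPQ⟩ := (hQp.prod_le).mp hle
        have := hQ.2 (Finset.mem_of_mem_erase hP) hPQ
        exact (Finset.ne_of_mem_erase hP) (le_antisymm hPQ this)
      obtain ⟨b, hb, hbQ⟩ := Set.not_subset.mp this
      refine ⟨c + a * b, I.add_mem hc (I.mul_mem_right b haI), fun P hP => ?_⟩
      by_cases hPQ : P = Q
      · subst hPQ
        intro hmem
        have h1 : a * b ∈ P := by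
          have := P.sub_mem hmem hxQ
          have e : x + (c + a * b) - (x + c) = a * b := by ring
          rwa [e] at this
        rcases hQp.mem_or_mem h1 with h2 | h2
        · exact haQ h2
        · exact hbQ h2
      · have hP' : P ∈ s.erase Q := Finset.mem_erase.mpr ⟨hPQ, hP⟩
        intro hmem
        refine hcP P hP' ?_
        have h1 : a * b ∈ P := by
          refine P.mul_mem_left a ?_
          exact (Ideal.prod_le_inf.trans (Finset.inf_le hP')) hb
        have := P.sub_mem hmem h1
        have e : x + (c + a * b) - (a * b) = x + c := by ring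
        rwa [e] at this
    · refine ⟨c, hc, fun P hP => ?_⟩
      by_cases hPQ : P = Q
      · subst hPQ; exact hxQ
      · exact hcP P (Finset.mem_erase.mpr ⟨hPQ, hP⟩)
  · rw [Finset.not_nonempty_iff_eq_empty] at hne
    subst hne
    exact ⟨0, I.zero_mem, by simp⟩

end PrimeAvoidance

section Reg

variable {R : Type u} [CommRing R]

/-- `l` is a weakly regular sequence on `R ⧸ J` (recursive form). -/
def Reg : Ideal R → List R → Prop
  | _, [] => True
  | J, a :: l => (∀ x, a * x ∈ J → x ∈ J) ∧ Reg (J ⊔ span {a}) l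

theorem reg_nil (J : Ideal R) : Reg J [] := trivial

theorem reg_cons {J : Ideal R} {a : R} {l : List R} :
    Reg J (a :: l) ↔ (∀ x, a * x ∈ J → x ∈ J) ∧ Reg (J ⊔ span {a}) l := Iff.rfl

theorem isSMulRegular_quot_iff (J : Ideal R) (a : R) :
    IsSMulRegular (R ⧸ J) a ↔ ∀ x, a * x ∈ J → x ∈ J := by
  rw [isSMulRegular_iff_right_eq_zero_of_smul]
  constructor
  · intro h x hx
    rw [← Ideal.Quotient.eq_zero_iff_mem]
    refine h _ ?_
    rw [← Ideal.Quotient.eq_zero_iff_mem] at hx
    rw [← hx, map_mul]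
    rfl
  · intro h y hy
    obtain ⟨x, rfl⟩ := Ideal.Quotient.mk_surjective y
    rw [Ideal.Quotient.eq_zero_iff_mem]
    refine h x ?_
    rw [← Ideal.Quotient.eq_zero_iff_mem, map_mul]
    exact hy

/-- `(R ⧸ J) / a (R ⧸ J) ≃ R ⧸ (J + (a))`. -/
theorem nonempty_quotSMulTop_equiv (J : Ideal R) (a : R) :
    Nonempty (QuotSMulTop a (R ⧸ J) ≃ₗ[R] R ⧸ (J ⊔ span {a})) := by
  let φ : R →ₗ[R] QuotSMulTop a (R ⧸ J) :=
    (Submodule.mkQ (a • (⊤ : Submodule R (R ⧸ J)))).comp (Submodule.mkQ J)
  have hφ : Function.Surjective φ :=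
    (Submodule.mkQ_surjective _).comp (Submodule.mkQ_surjective _)
  have hker : LinearMap.ker φ = J ⊔ span {a} := by
    ext x
    rw [LinearMap.mem_ker]
    change Submodule.Quotient.mk (Submodule.Quotient.mk x) = 0 ↔ _
    rw [Submodule.Quotient.mk_eq_zero, Submodule.mem_smul_pointwise_iff_exists]
    constructor
    · rintro ⟨y, -, hy⟩
      obtain ⟨r, rfl⟩ := Submodule.Quotient.mk_surjective _ y
      have h1 : a * r - x ∈ J := by
        rw [← Submodule.Quotient.mk_smul, Submodule.Quotient.eq] at hy
        simpa using hy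
      have h2 : x = -(a * r - x) + a * r := by ring
      rw [h2]
      exact Ideal.add_mem _ (Ideal.neg_mem_iff _ |>.mpr (Ideal.mem_sup_left h1))
        (Ideal.mem_sup_right (Ideal.mul_mem_right r _ (Ideal.mem_span_singleton_self a)))
    · intro hx
      obtain ⟨j, hj, b, hb, rfl⟩ := Submodule.mem_sup.mp hx
      obtain ⟨r, rfl⟩ := Ideal.mem_span_singleton'.mp hb
      refine ⟨Submodule.Quotient.mk r, trivial, ?_⟩
      rw [← Submodule.Quotient.mk_smul, Submodule.Quotient.eq]
      have : a • r - (j + r * a) = - j := by simp; ring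
      rw [this]
      exact J.neg_mem hj
  exact ⟨((Submodule.quotEquivOfEq _ _ hker.symm).trans
    (φ.quotKerEquivOfSurjective hφ)).symm⟩

theorem reg_iff (J : Ideal R) (l : List R) : Reg J l ↔ IsWeaklyRegular (R ⧸ J) l := by
  induction l generalizing J with
  | nil => exact iff_of_true trivial (.nil _ _)
  | cons a l ih =>
    obtain ⟨e⟩ := nonempty_quotSMulTop_equiv J a
    rw [reg_cons, isWeaklyRegular_cons_iff, isSMulRegular_quot_iff, ih,
      e.isWeaklyRegular_congr]

theorem reg_append {J : Ideal R} {l l' : List R} :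
    Reg J (l ++ l') ↔ Reg J l ∧ Reg (J ⊔ ofList l) l' := by
  induction l generalizing J with
  | nil => simp [reg_nil]
  | cons a l ih =>
    rw [List.cons_append, reg_cons, ih, reg_cons, and_assoc, ofList_cons, sup_assoc]

theorem reg_perm [IsLocalRing R] [IsNoetherianRing R] {J : Ideal R} {l l' : List R}
    (h : Reg J l) (hp : l.Perm l') (hm : ∀ r ∈ l, r ∈ IsLocalRing.maximalIdeal R) :
    Reg J l' := by
  rw [reg_iff] at h ⊢
  exact IsLocalRing.isWeaklyRegular_of_perm_of_subset_maximalIdeal h hp hm

theorem ofList_ofFn {n : ℕ} (f : Fin n → R) : ofList (List.ofFn f) = span (Set.range f) := by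
  rw [ofList]
  congr 1
  ext x
  simp [List.mem_ofFn]

end Reg

section Main

variable {R : Type u} [CommRing R]

/-- `a` is regular on `R ⧸ J` iff it is outside all the associated primes. -/
theorem regular_iff_notMem [IsNoetherianRing R] (J : Ideal R) (a : R) :
    (∀ x, a * x ∈ J → x ∈ J) ↔ ∀ P ∈ associatedPrimes R (R ⧸ J), a ∉ P := by
  have key := biUnion_associatedPrimes_eq_zero_divisors R (R ⧸ J)
  rw [← isSMulRegular_quot_iff, isSMulRegular_iff_right_eq_zero_of_smul]
  constructor
  · intro h P hP ha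
    have h1 : a ∈ ⋃ p ∈ associatedPrimes R (R ⧸ J), (p : Set R) := Set.mem_biUnion hP ha
    rw [key] at h1
    obtain ⟨x, hx, hax⟩ := h1
    exact hx (h x hax)
  · intro h x hx
    by_contra hx0
    have h1 : a ∈ ⋃ p ∈ associatedPrimes R (R ⧸ J), (p : Set R) := by
      rw [key]; exact ⟨x, hx0, hx⟩
    obtain ⟨P, hP, haP⟩ := Set.mem_iUnion₂.mp h1
    exact h P hP haP

/-- The determinant of the matrix obtained from the exchange `h 0 ↦ h 0 + ∑ c j h (j+1)`. -/
theorem det_exchange {n : ℕ} (M : Matrix (Fin (n + 1)) (Fin (n + 1)) R) (c : Fin n → R) :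
    (Matrix.of fun i j : Fin n => M i.succ j.succ - M i.succ 0 * c j).det =
      ∑ j, (Fin.cons 1 c : Fin (n + 1) → R) j * M.adjugate j 0 := by
  set w : Fin (n + 1) → R := Fin.cons 1 c with hw
  set B := M.updateRow 0 w with hB
  have h1 : ∑ j, w j * M.adjugate j 0 = B.det := by
    rw [Matrix.det_eq_sum_mul_adjugate_row B 0]
    refine Finset.sum_congr rfl fun j _ => ?_
    rw [hB, Matrix.updateRow_self, Matrix.adjugate_apply, Matrix.adjugate_apply,
      Matrix.updateRow_idem]
  rw [h1]
  set A : Matrix (Fin (n + 1)) (Fin (n + 1)) R :=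
    Matrix.of fun i j => B i j + (Fin.cons 0 (fun k => - c k) : Fin (n+1) → R) j * B i 0 with hA
  have h2 : A.det = B.det := by
    rw [← Matrix.det_transpose A, ← Matrix.det_transpose B]
    exact Matrix.det_eq_of_forall_row_eq_smul_add_const (Fin.cons 0 (fun k => - c k)) 0 (by simp)
      (fun i j => by simp [hA])
  rw [← h2, Matrix.det_succ_row_zero, Fin.sum_univ_succ]
  have h3 : ∀ j : Fin n, A 0 j.succ = 0 := by
    intro j
    simp [hA, hB, hw]
  have h4 : A 0 0 = 1 := by simp [hA, hB, hw]
  simp only [h3, h4, mul_zero, zero_mul, Finset.sum_const_zero, add_zero]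
  simp only [Fin.val_zero, pow_zero, one_mul]
  congr 1
  ext i j
  simp [hA, hB, Matrix.updateRow_ne, Fin.succ_ne_zero]
  ring

theorem mem_sup_span_singleton {K : Ideal R} {a x : R} :
    x ∈ K ⊔ span {a} ↔ ∃ y, x - y * a ∈ K := by
  constructor
  · intro hx
    obtain ⟨j, hj, b, hb, rfl⟩ := Submodule.mem_sup.mp hx
    obtain ⟨r, rfl⟩ := Ideal.mem_span_singleton'.mp hb
    exact ⟨r, by simpa using hj⟩
  · rintro ⟨y, hy⟩
    have e : x = (x - y * a) + y * a := by ring
    rw [e]
    exact Ideal.add_mem _ (mem_sup_left hy)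
      (mem_sup_right (Ideal.mul_mem_left _ _ (mem_span_singleton_self a)))

/-- **Linkage** (Wiebe), relative form. -/
theorem linkage [IsLocalRing R] [IsNoetherianRing R] (n : ℕ) :
    ∀ (J : Ideal R) (f h : Fin n → R) (M : Matrix (Fin n) (Fin n) R),
      (∀ i, f i - ∑ j, M i j * h j ∈ J) → Reg J (List.ofFn f) → Reg J (List.ofFn h) →
      (∀ i, f i ∈ IsLocalRing.maximalIdeal R) → (∀ i, h i ∈ IsLocalRing.maximalIdeal R) →
      (∀ x, (∀ j, x * h j ∈ J ⊔ span (Set.range f)) →
        x ∈ J ⊔ span (Set.range f) ⊔ span {M.det}) ∧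
      (∀ x, x * M.det ∈ J ⊔ span (Set.range f) → x ∈ J ⊔ span (Set.range h)) := by
  induction n with
  | zero =>
    intro J f h M _ _ _ _ _
    refine ⟨fun x _ => ?_, fun x hx => ?_⟩
    · refine mem_sup_right ?_
      simp
    · have e : Set.range f = Set.range h := by simp [Set.range_eq_empty]
      rw [← e]
      simpa using hx
  | succ n ih =>
    intro J f h M hM hf hh hfm hhm
    obtain ⟨f0, f', rfl⟩ : ∃ f0 f', f = Fin.cons f0 f' := ⟨f 0, Fin.tail f, by simp⟩
    obtain ⟨h0, h', rfl⟩ : ∃ h0 h', h = Fin.cons h0 h' := ⟨h 0, Fin.tail h, by simp⟩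
    have hf0m : f0 ∈ IsLocalRing.maximalIdeal R := by simpa using hfm 0
    have hf'm : ∀ i, f' i ∈ IsLocalRing.maximalIdeal R := fun i => by simpa using hfm i.succ
    have hh0m : h0 ∈ IsLocalRing.maximalIdeal R := by simpa using hhm 0
    have hh'm : ∀ i, h' i ∈ IsLocalRing.maximalIdeal R := fun i => by simpa using hhm i.succ
    have hf'l : ∀ r ∈ List.ofFn f', r ∈ IsLocalRing.maximalIdeal R := by
      intro r hr; obtain ⟨i, rfl⟩ := List.mem_ofFn.mp hr; exact hf'm i
    have hh'l : ∀ r ∈ List.ofFn h', r ∈ IsLocalRing.maximalIdeal R := by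
      intro r hr; obtain ⟨i, rfl⟩ := List.mem_ofFn.mp hr; exact hh'm i
    rw [List.ofFn_cons] at hf hh
    -- permute
    have hf2 : Reg J (List.ofFn f' ++ [f0]) :=
      reg_perm hf (List.perm_append_singleton _ _).symm (by
        intro r hr
        rcases List.mem_cons.mp hr with rfl | hr
        · exact hf0m
        · exact hf'l r hr)
    have hh2 : Reg J (List.ofFn h' ++ [h0]) :=
      reg_perm hh (List.perm_append_singleton _ _).symm (by
        intro r hr
        rcases List.mem_cons.mp hr with rfl | hr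
        · exact hh0m
        · exact hh'l r hr)
    rw [reg_append, ofList_ofFn] at hf2 hh2
    obtain ⟨hf'r, hf0r, -⟩ := hf2
    obtain ⟨hh'r, hh0r, -⟩ := hh2
    set J' := J ⊔ span (Set.range f') with hJ'
    -- choose the new first element
    obtain ⟨c0, hc0, hc⟩ := exists_add_notMem (associatedPrimes.finite R (R ⧸ J')).toFinset
      (fun P hP => ((Set.Finite.mem_toFinset _).mp hP).isPrime)
      (span (Set.range h')) h0 (by
        intro P hP hle
        have hP' := (Set.Finite.mem_toFinset _).mp hP
        refine (regular_iff_notMem J' f0).mp hf0r P hP' ?_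
        have hJP : J' ≤ P := by
          have := IsAssociatedPrime.annihilator_le hP'
          rwa [Submodule.annihilator_top, Ideal.annihilator_quotient] at this
        have h1 := hM 0
        have h2 : ∑ j, M 0 j * (Fin.cons h0 h' : Fin (n + 1) → R) j ∈ P := by
          refine Ideal.sum_mem _ fun j _ => Ideal.mul_mem_left _ _ (hle ?_)
          refine Fin.cases ?_ (fun j => ?_) j
          · exact mem_sup_right (mem_span_singleton_self h0)
          · exact mem_sup_left (subset_span ⟨j, by simp⟩)
        have h3 := Ideal.add_mem _ (hJP (mem_sup_left h1)) h2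
        simpa using h3)
    obtain ⟨c, rfl⟩ := Ideal.mem_span_range_iff_exists_fun.mp hc0
    set h0' := h0 + ∑ i, c i * h' i with hh0'
    have hreg0 : ∀ x, h0' * x ∈ J' → x ∈ J' :=
      (regular_iff_notMem J' h0').mpr fun P hP => hc P ((Set.Finite.mem_toFinset _).mpr hP)
    have hh0'm : h0' ∈ IsLocalRing.maximalIdeal R :=
      Ideal.add_mem _ hh0m (Ideal.sum_mem _ fun i _ => Ideal.mul_mem_left _ _ (hh'm i))
    have hregh : ∀ x, h0' * x ∈ J ⊔ span (Set.range h') → x ∈ J ⊔ span (Set.range h') := by
      intro x hx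
      refine hh0r x ?_
      have e : h0 * x = h0' * x - x * ∑ i, c i * h' i := by rw [hh0']; ring
      rw [e]
      exact Ideal.sub_mem _ hx (Ideal.mul_mem_left _ _ (mem_sup_right hc0))
    have hf1 : Reg J (h0' :: List.ofFn f') := by
      refine reg_perm (l := List.ofFn f' ++ [h0']) ?_ (List.perm_append_singleton _ _) ?_
      · rw [reg_append, ofList_ofFn]
        exact ⟨hf'r, hreg0, trivial⟩
      · intro r hr
        rcases List.mem_append.mp hr with hr | hr
        · exact hf'l r hr
        · rw [List.mem_singleton.mp hr]; exact hh0'm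
    have hh1 : Reg J (h0' :: List.ofFn h') := by
      refine reg_perm (l := List.ofFn h' ++ [h0']) ?_ (List.perm_append_singleton _ _) ?_
      · rw [reg_append, ofList_ofFn]
        exact ⟨hh'r, hregh, trivial⟩
      · intro r hr
        rcases List.mem_append.mp hr with hr | hr
        · exact hh'l r hr
        · rw [List.mem_singleton.mp hr]; exact hh0'm
    have hMJ : ∀ i, f' i - (M i.succ 0 * h0 + ∑ j : Fin n, M i.succ j.succ * h' j) ∈ J := by
      intro i
      have := hM i.succ
      rw [Fin.sum_univ_succ] at this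
      simpa using this
    set M' : Matrix (Fin n) (Fin n) R :=
      Matrix.of fun i j => M i.succ j.succ - M i.succ 0 * c j with hM'
    have hM1 : ∀ i, f' i - ∑ j, M' i j * h' j ∈ J ⊔ span {h0'} := by
      intro i
      rw [mem_sup_span_singleton]
      refine ⟨M i.succ 0, ?_⟩
      have e : f' i - ∑ j, M' i j * h' j - M i.succ 0 * h0' =
          f' i - (M i.succ 0 * h0 + ∑ j : Fin n, M i.succ j.succ * h' j) := by
        simp only [hM', hh0', Matrix.of_apply, sub_mul, Finset.sum_sub_distrib, mul_add,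
          Finset.mul_sum, mul_assoc]
        ring
      rw [e]
      exact hMJ i
    obtain ⟨P1, Q1⟩ := ih (J ⊔ span {h0'}) f' h' M' hM1 hf1.2 hh1.2 hf'm hh'm
    have hsup : J ⊔ span {h0'} ⊔ span (Set.range f') = J' ⊔ span {h0'} := by
      rw [hJ', sup_right_comm]
    rw [hsup] at P1 Q1
    have hsupf : J ⊔ span (Set.range (Fin.cons f0 f' : Fin (n + 1) → R)) = J' ⊔ span {f0} := by
      rw [Fin.range_cons, span_insert, hJ', sup_comm (span {f0}), sup_assoc]
    rw [hsupf]
    -- the relation between the determinants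
    have hadj : ∀ j, M.det * (Fin.cons h0 h' : Fin (n + 1) → R) j - M.adjugate j 0 * f0 ∈ J' := by
      intro j
      set h : Fin (n + 1) → R := Fin.cons h0 h' with hh
      set f : Fin (n + 1) → R := Fin.cons f0 f' with hfdef
      have e1 : M.det * h j = ∑ i, M.adjugate j i * ∑ k, M i k * h k := by
        have := congrFun (congrArg (fun N => N.mulVec h) (Matrix.adjugate_mul M)) j
        simp only [Matrix.smul_mulVec, Matrix.one_mulVec, Pi.smul_apply, smul_eq_mul] at this
        rw [← this, ← Matrix.mulVec_mulVec]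
        rfl
      have e2 : M.det * h j - M.adjugate j 0 * f0 =
          - (∑ i, M.adjugate j i * (f i - ∑ k, M i k * h k)) +
            ∑ i : Fin n, M.adjugate j i.succ * f' i := by
        rw [e1]
        simp only [mul_sub, Finset.sum_sub_distrib]
        rw [Fin.sum_univ_succ (fun i => M.adjugate j i * f i)]
        simp only [hfdef, Fin.cons_zero, Fin.cons_succ]
        ring
      rw [e2]
      refine Ideal.add_mem _ (J'.neg_mem (Ideal.sum_mem _ fun i _ =>
        Ideal.mul_mem_left _ _ (mem_sup_left (hM i))))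
        (Ideal.sum_mem _ fun i _ => Ideal.mul_mem_left _ _ (mem_sup_right (subset_span ⟨i, rfl⟩)))
    have hstar : M.det * h0' - M'.det * f0 ∈ J' := by
      have e : M.det * h0' - M'.det * f0 = ∑ j, (Fin.cons 1 c : Fin (n + 1) → R) j *
          (M.det * (Fin.cons h0 h' : Fin (n + 1) → R) j - M.adjugate j 0 * f0) := by
        rw [hM', det_exchange]
        simp only [mul_sub, Finset.sum_sub_distrib, Finset.sum_mul, mul_assoc]
        congr 1
        rw [Fin.sum_univ_succ]
        simp only [Fin.cons_zero, Fin.cons_succ, one_mul, hh0', mul_add, Finset.mul_sum]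
        congr 1
        exact Finset.sum_congr rfl fun i _ => by ring
      rw [e]
      exact Ideal.sum_mem _ fun j _ => Ideal.mul_mem_left _ _ (hadj j)
    refine ⟨fun x hx => ?_, fun x hx => ?_⟩
    · have hx0 : x * h0' ∈ J' ⊔ span {f0} := by
        have e : x * h0' = x * h0 + ∑ i, c i * (x * h' i) := by
          rw [hh0', mul_add, Finset.mul_sum]
          congr 1
          exact Finset.sum_congr rfl fun i _ => by ring
        rw [e]
        exact Ideal.add_mem _ (by simpa using hx 0)
          (Ideal.sum_mem _ fun i _ => Ideal.mul_mem_left _ _ (by simpa using hx i.succ))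
      obtain ⟨y, hy⟩ := mem_sup_span_singleton.mp hx0
      have hyP : y ∈ J' ⊔ span {h0'} ⊔ span {M'.det} := by
        refine P1 y fun j => ?_
        obtain ⟨z, hz⟩ := mem_sup_span_singleton.mp (hx j.succ)
        rw [Fin.cons_succ] at hz
        rw [mem_sup_span_singleton]
        refine ⟨z, hf0r _ ?_⟩
        have e : f0 * (y * h' j - z * h0') =
            - (x * h0' - y * f0) * h' j + (x * h' j - z * f0) * h0' := by ring
        rw [e]
        exact Ideal.add_mem _ (Ideal.mul_mem_right _ _ (J'.neg_mem hy)) (Ideal.mul_mem_right _ _ hz)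
      obtain ⟨b, hb⟩ := mem_sup_span_singleton.mp hyP
      obtain ⟨a, ha⟩ := mem_sup_span_singleton.mp hb
      rw [mem_sup_span_singleton]
      refine ⟨b, ?_⟩
      rw [mem_sup_span_singleton]
      refine ⟨a, hreg0 _ ?_⟩
      have e : h0' * (x - b * M.det - a * f0) = (x * h0' - y * f0) +
          (y - b * M'.det - a * h0') * f0 - b * (M.det * h0' - M'.det * f0) := by ring
      rw [e]
      exact Ideal.sub_mem _ (Ideal.add_mem _ hy (Ideal.mul_mem_right _ _ ha))
        (Ideal.mul_mem_left _ _ hstar)
    · obtain ⟨y, hy⟩ := mem_sup_span_singleton.mp hx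
      have h1 : x * M'.det ∈ J' ⊔ span {h0'} := by
        rw [mem_sup_span_singleton]
        refine ⟨y, hf0r _ ?_⟩
        have e : f0 * (x * M'.det - y * h0') =
            - (x * (M.det * h0' - M'.det * f0)) + (x * M.det - y * f0) * h0' := by ring
        rw [e]
        exact Ideal.add_mem _ (J'.neg_mem (Ideal.mul_mem_left _ _ hstar))
          (Ideal.mul_mem_right _ _ hy)
      have h2 := Q1 x h1
      suffices hle : J ⊔ span {h0'} ⊔ span (Set.range h') ≤
          J ⊔ span (Set.range (Fin.cons h0 h' : Fin (n + 1) → R)) from hle h2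
      refine sup_le (sup_le le_sup_left ?_) ?_
      · rw [span_singleton_le_iff_mem]
        refine mem_sup_right (Ideal.add_mem _ (subset_span ⟨0, by simp⟩)
          (Ideal.sum_mem _ fun i _ => Ideal.mul_mem_left _ _ (subset_span ⟨i.succ, by simp⟩)))
      · refine le_trans (span_mono ?_) le_sup_right
        rintro _ ⟨i, rfl⟩
        exact ⟨i.succ, by simp⟩

theorem reg_bot_iff {l : List R} : Reg (⊥ : Ideal R) l ↔ IsWeaklyRegular R l := by
  rw [reg_iff]
  exact (Submodule.quotEquivOfEqBot (⊥ : Submodule R R) rfl).isWeaklyRegular_congr l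

/-- **Linkage**: `f = M h`, both weakly regular sequences in the maximal ideal of a Noetherian
local ring; then `(f) : (h) ≤ (f) + (det M)`. -/
theorem mem_span_sup_span_det [IsLocalRing R] [IsNoetherianRing R] {n : ℕ} {f h : Fin n → R}
    {M : Matrix (Fin n) (Fin n) R} (hM : ∀ i, f i = ∑ j, M i j * h j)
    (hf : IsWeaklyRegular R (List.ofFn f)) (hh : IsWeaklyRegular R (List.ofFn h))
    (hfm : ∀ i, f i ∈ IsLocalRing.maximalIdeal R) (hhm : ∀ i, h i ∈ IsLocalRing.maximalIdeal R)
    (x : R) (hx : ∀ j, x * h j ∈ span (Set.range f)) :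
    x ∈ span (Set.range f) ⊔ span {M.det} := by
  have := (linkage n ⊥ f h M (fun i => by simp [hM i]) (reg_bot_iff.mpr hf) (reg_bot_iff.mpr hh)
    hfm hhm).1 x (fun j => by simpa using hx j)
  simpa using this

/-- **Linkage**: `f = M h`, both weakly regular sequences in the maximal ideal of a Noetherian
local ring; then `(f) : det M ≤ (h)`. -/
theorem mem_span_of_mul_det_mem [IsLocalRing R] [IsNoetherianRing R] {n : ℕ} {f h : Fin n → R}
    {M : Matrix (Fin n) (Fin n) R} (hM : ∀ i, f i = ∑ j, M i j * h j)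
    (hf : IsWeaklyRegular R (List.ofFn f)) (hh : IsWeaklyRegular R (List.ofFn h))
    (hfm : ∀ i, f i ∈ IsLocalRing.maximalIdeal R) (hhm : ∀ i, h i ∈ IsLocalRing.maximalIdeal R)
    (x : R) (hx : x * M.det ∈ span (Set.range f)) : x ∈ span (Set.range h) := by
  have := (linkage n ⊥ f h M (fun i => by simp [hM i]) (reg_bot_iff.mpr hf) (reg_bot_iff.mpr hh)
    hfm hhm).2 x (by simpa using hx)
  simpa using this

/-- The easy inclusion: `(det M) h_j ∈ (f)`. -/
theorem det_mul_mem {n : ℕ} {f h : Fin n → R} {M : Matrix (Fin n) (Fin n) R}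
    (hM : ∀ i, f i = ∑ j, M i j * h j) (j : Fin n) : M.det * h j ∈ span (Set.range f) := by
  have e1 : M.det * h j = ∑ i, M.adjugate j i * f i := by
    have := congrFun (congrArg (fun N => N.mulVec h) (Matrix.adjugate_mul M)) j
    simp only [Matrix.smul_mulVec, Matrix.one_mulVec, Pi.smul_apply, smul_eq_mul] at this
    rw [← this, ← Matrix.mulVec_mulVec]
    have e : M.mulVec h = f := by
      funext i; rw [hM i]; rfl
    rw [e]; rfl
  rw [e1]
  exact Ideal.sum_mem _ fun i _ => Ideal.mul_mem_left _ _ (subset_span ⟨i, rfl⟩)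

/-- **Linkage** as an equality of colon ideals: `(f) : (h) = (f) + (det M)`. -/
theorem colon_eq [IsLocalRing R] [IsNoetherianRing R] {n : ℕ} {f h : Fin n → R}
    {M : Matrix (Fin n) (Fin n) R} (hM : ∀ i, f i = ∑ j, M i j * h j)
    (hf : IsWeaklyRegular R (List.ofFn f)) (hh : IsWeaklyRegular R (List.ofFn h))
    (hfm : ∀ i, f i ∈ IsLocalRing.maximalIdeal R) (hhm : ∀ i, h i ∈ IsLocalRing.maximalIdeal R) :
    (span (Set.range f)).colon (span (Set.range h) : Set R) =
      span (Set.range f) ⊔ span {M.det} := by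
  apply le_antisymm
  · intro x hx
    refine mem_span_sup_span_det hM hf hh hfm hhm x fun j => ?_
    have := Submodule.mem_colon.mp hx (h j) (subset_span ⟨j, rfl⟩)
    simpa using this
  · refine sup_le (fun x hx => ?_) ?_
    · rw [Submodule.mem_colon]
      intro y _
      exact Ideal.mul_mem_right _ _ hx
    · rw [span_singleton_le_iff_mem, Submodule.mem_colon]
      intro y hy
      obtain ⟨c, rfl⟩ := Ideal.mem_span_range_iff_exists_fun.mp hy
      rw [smul_eq_mul, Finset.mul_sum]
      refine Ideal.sum_mem _ fun j _ => ?_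
      have e : M.det * (c j * h j) = c j * (M.det * h j) := by ring
      rw [e]
      exact Ideal.mul_mem_left _ _ (det_mul_mem hM j)

end Main

end Groth.Agent.Books.Linkage
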