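import Groth.Agent.Books.SDSupp992
import Groth.Agent.CycA.TorFin
import Groth.Agent.Localalg.Matlis3

/-!
# `Tor` has finite length when `M ⊗ N` has finite length (S3301, first assertion)
-/

set_option autoImplicit false
universe u

open TensorProduct IsLocalRing

namespace Groth.Agent.Books.SDTorFin992

variable {A : Type u} [CommRing A] [IsLocalRing A] [IsNoetherianRing A]
variable {M N : Type u} [AddCommGroup M] [Module A M] [AddCommGroup N] [Module A N]
  [Module.Finite A M] [Module.Finite A N]

/-- A power of the maximal ideal is contained in `Ann M + Ann N`. -/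
theorem exists_pow_le (hfl : IsFiniteLength A (M ⊗[A] N)) :
    ∃ n : ℕ, (maximalIdeal A) ^ n ≤ Module.annihilator A M ⊔ Module.annihilator A N := by
  refine Ideal.exists_pow_le_of_le_radical_of_fg ?_ (IsNoetherian.noetherian _)
  rw [Ideal.radical_eq_sInf]
  refine le_sInf fun P' hP' => ?_
  have := hP'.2
  exact (SDSupp992.eq_maximalIdeal_of_annihilator_le hfl (le_sup_left.trans hP'.1)
    (le_sup_right.trans hP'.1)).ge

/-- Every `Tor_i(M, N)` has finite length when `M ⊗ N` has. -/
theorem isFiniteLength_tor (hfl : IsFiniteLength A (M ⊗[A] N)) (i : ℕ) :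
    IsFiniteLength A (DRing.Tor A i M N) := by
  obtain ⟨n, hn⟩ := exists_pow_le hfl
  have hfin : Module.Finite A (DRing.Tor A i M N) := Groth.Agent.CycA.TorFin.finite i M N
  refine Groth.Agent.Localalg.Matlis.isFiniteLength_of_pow_smul n fun a ha x => ?_
  obtain ⟨b, hb, c, hc, rfl⟩ := Submodule.mem_sup.mp (hn ha)
  rw [add_smul, Groth.Agent.CycA.TorBasic.smul_eq_zero_of_left b M
      (fun m => Module.mem_annihilator.mp hb m) i N x,
    Groth.Agent.CycA.TorBasic.smul_eq_zero_of_right c i M N
      (fun m => Module.mem_annihilator.mp hc m) x, add_zero]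

end Groth.Agent.Books.SDTorFin992
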